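import Groth.Agent.CubicLib.Hesse
import Mathlib.LinearAlgebra.Matrix.SesquilinearForm
import Mathlib.LinearAlgebra.Matrix.Permutation
import Mathlib.Data.Fintype.Perm
import Mathlib.Algebra.Polynomial.Roots
import Mathlib.Algebra.Polynomial.Eval.Degree

/-! Automorphisms of the general Hesse cubic. -/

namespace Groth.Agent.CubicLib

universe u

variable {K : Type u} [Field K] [CharZero K]

/-- the determinant of the Hessian, up to a factor -/
def hess (k : K) (p : Fin 3 → K) : K :=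
  p 0 * p 1 * p 2 * (4 - k ^ 3) - k ^ 2 * (p 0 ^ 3 + p 1 ^ 3 + p 2 ^ 3)

theorem hess_covariant {G : Cubic K (Fin 3 → K)} {k : K} (hG : ∀ P, G.F P = hesse k P)
    (A : Matrix (Fin 3) (Fin 3) K) (hdet : A.det = 1) (c : K)
    (hA : ∀ v, hesse k (A.mulVec v) = c * hesse k v) (v : Fin 3 → K) :
    hess k (A.mulVec v) = c ^ 3 * hess k v := by
  classical
  have hT : ∀ a b d, G.T (A.mulVec a) (A.mulVec b) (A.mulVec d) = c * G.T a b d := fun a b d => by
    have h : 6 * G.T (A.mulVec a) (A.mulVec b) (A.mulVec d) = 6 * (c * G.T a b d) := by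
      rw [mul_left_comm, G.polar₃, G.polar₃]
      simp only [← Matrix.mulVec_add, hG, hA]
      ring
    exact mul_left_cancel₀ (by norm_num) h
  have hM : ∀ p : Fin 3 → K, 4 * (LinearMap.toMatrix₂' K (G.T p)).det = hess k p := fun p => by
    have hent : ∀ i j : Fin 3, LinearMap.toMatrix₂' K (G.T p) i j =
        (1 / 2 : K) * hesseT k p (Pi.single i 1) (Pi.single j 1) := fun i j => by
      rw [← T_hesse hG]
      simp
    rw [Matrix.det_fin_three]
    simp only [hent, hesseT, hess]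
    simp
    ring
  have hcov : (G.T (A.mulVec v)).compl₁₂ (Matrix.toLin' A) (Matrix.toLin' A) = c • G.T v :=
    LinearMap.ext fun a => LinearMap.ext fun b => by simp [hT]
  have h := congrArg (fun B => (LinearMap.toMatrix₂' K B).det) hcov
  simp only [LinearMap.toMatrix₂'_compl₁₂, LinearMap.toMatrix'_toLin', Matrix.det_mul,
    Matrix.det_transpose, hdet, map_smul, Matrix.det_smul, Fintype.card_fin, one_mul, mul_one] at h
  rw [← hM, ← hM, h]
  ring

omit [CharZero K] in
theorem finite_quadratic (a b c : K) (ha : a ≠ 0) : {k : K | a * k ^ 2 + b * k + c = 0}.Finite := by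
  classical
  have hP : Polynomial.C a * Polynomial.X ^ 2 + Polynomial.C b * Polynomial.X + Polynomial.C c ≠ 0 := fun h => by
    have := Polynomial.degree_quadratic (b := b) (c := c) ha
    rw [h] at this
    simp at this
  refine (Polynomial.C a * Polynomial.X ^ 2 + Polynomial.C b * Polynomial.X + Polynomial.C c).roots.toFinset.finite_toSet.subset ?_
  intro k hk
  simp only [Finset.mem_coe, Multiset.mem_toFinset, Polynomial.mem_roots hP, Polynomial.IsRoot]
  simpa using hk

/-- the exceptional parameters -/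
def exceptional : Set K :=
  {k : K | k = 0 ∨ k ^ 3 = 1} ∪ ⋃ ζ ∈ {z : K | z ^ 3 = 1}, ⋃ η ∈ {z : K | z ^ 3 = 1}, ⋃ η' ∈ {z : K | z ^ 3 = 1},
    ⋃ κ ∈ {z : K | z ^ 3 = 1}, ⋃ κ' ∈ {z : K | z ^ 3 = 1},
      {k : K | (κ ≠ κ' ∧ (κ' - k) * (k - η) * (ζ - κ) - (κ - k) * (k - η') * (ζ - κ') = 0) ∨
        ((k - η') * (ζ - κ) + (κ - k) * (k - η) = 0)}

theorem exceptional_finite : (exceptional : Set K).Finite := by
  classical
  have h3 : {z : K | z ^ 3 = 1}.Finite := by
    have hP : (Polynomial.X ^ 3 - Polynomial.C (1 : K)) ≠ 0 := Polynomial.X_pow_sub_C_ne_zero (by norm_num) 1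
    refine (Polynomial.X ^ 3 - Polynomial.C (1 : K)).roots.toFinset.finite_toSet.subset fun z hz => ?_
    simp only [Finset.mem_coe, Multiset.mem_toFinset, Polynomial.mem_roots hP, Polynomial.IsRoot]
    simpa [sub_eq_zero] using hz
  refine Set.Finite.union (((Set.finite_singleton (0 : K)).union h3).subset fun k hk => hk) ?_
  refine h3.biUnion fun ζ _ => h3.biUnion fun η _ => h3.biUnion fun η' _ => h3.biUnion fun κ _ => h3.biUnion fun κ' _ => ?_
  refine Set.Finite.subset (s := {k : K | κ ≠ κ' ∧ (κ' - k) * (k - η) * (ζ - κ) - (κ - k) * (k - η') * (ζ - κ') = 0} ∪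
    {k : K | (k - η') * (ζ - κ) + (κ - k) * (k - η) = 0}) (Set.Finite.union ?_ ?_) fun k hk => hk
  · rcases eq_or_ne κ κ' with h | h
    · simp [h]
    · refine (finite_quadratic (κ - κ') ((κ' + η) * (ζ - κ) - (κ + η') * (ζ - κ'))
        (-(κ' * η * (ζ - κ)) + κ * η' * (ζ - κ')) (sub_ne_zero.2 h)).subset fun k hk => ?_
      have := hk.2
      change (κ - κ') * k ^ 2 + _ * k + _ = 0
      linear_combination this
  · refine (finite_quadratic (-1) ((ζ - κ) + (κ + η)) (-(η' * (ζ - κ)) - κ * η) (neg_ne_zero.2 one_ne_zero)).subset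
      fun k hk => ?_
    have : (k - η') * (ζ - κ) + (κ - k) * (k - η) = 0 := hk
    change -1 * k ^ 2 + _ * k + _ = 0
    linear_combination this

variable [IsAlgClosed K]

theorem prod_fixed (k : K) (hk : k ∉ (exceptional : Set K)) (A : Matrix (Fin 3) (Fin 3) K) (hdet : A.det = 1)
    (c : K) (hA : ∀ v, hesse k (A.mulVec v) = c * hesse k v) {G : Cubic K (Fin 3 → K)}
    (hG : ∀ P, G.F P = hesse k P) :
    c ≠ 0 ∧ ∃ b : K, ∀ v, (A.mulVec v) 0 * (A.mulVec v) 1 * (A.mulVec v) 2 = b * (v 0 * v 1 * v 2) := by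
  have hk0 : k ≠ 0 := fun h => hk (Or.inl (Or.inl h))
  have hk3 : k ^ 3 ≠ 1 := fun h => hk (Or.inl (Or.inr h))
  have hsurj : ∀ w, ∃ v, A.mulVec v = w := fun w => ⟨A⁻¹.mulVec w, by
    rw [Matrix.mulVec_mulVec, Matrix.mul_nonsing_inv A (by rw [hdet]; exact isUnit_one), Matrix.one_mulVec]⟩
  have hc : c ≠ 0 := fun h => by
    obtain ⟨v, hv⟩ := hsurj ![1, 0, 0]
    have := hA v
    rw [hv, h, zero_mul] at this
    simp [hesse] at this
  refine ⟨hc, ?_⟩
  -- `P ∘ A = a S + b P`
  let a : K := k ^ 2 * (c - c ^ 3) / (4 * (1 - k ^ 3))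
  let b : K := (-3 * k ^ 3 * c + c ^ 3 * (4 - k ^ 3)) / (4 * (1 - k ^ 3))
  have hne : (4 : K) * (1 - k ^ 3) ≠ 0 := mul_ne_zero (by norm_num) (sub_ne_zero.2 (Ne.symm hk3))
  have hPA : ∀ v, (A.mulVec v) 0 * (A.mulVec v) 1 * (A.mulVec v) 2 =
      a * (v 0 ^ 3 + v 1 ^ 3 + v 2 ^ 3) + b * (v 0 * v 1 * v 2) := fun v => by
    have h1 := hA v
    have h2 := hess_covariant hG A hdet c hA v
    simp only [hesse, hess] at h1 h2
    simp only [a, b]
    field_simp
    linear_combination k ^ 2 * h1 + h2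
  clear_value a b
  by_cases ha : a = 0
  · exact ⟨b, fun v => by rw [hPA, ha, zero_mul, zero_add]⟩
  exfalso
  let ζ : K := -b / (3 * a)
  have hPA' : ∀ v, (A.mulVec v) 0 * (A.mulVec v) 1 * (A.mulVec v) 2 = a * hesse ζ v := fun v => by
    rw [hPA, hesse]
    simp only [ζ]
    field_simp
    ring
  clear_value ζ
  -- a singular member of the pencil has parameter a cube root of unity
  have hsing : ∀ (z : K) (p : Fin 3 → K), p ≠ 0 →
      (∀ y, hesse z (p + y) - hesse z (p - y) - 2 * hesse z y = 0) → z ^ 3 = 1 := by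
    intro z p hp h
    by_contra hz
    refine hp (hesse_crit hz ?_ ?_ ?_)
    · have := h (Pi.single 0 1); simp [hesse] at this; linear_combination (1 / 6 : K) * this
    · have := h (Pi.single 1 1); simp [hesse] at this; linear_combination (1 / 6 : K) * this
    · have := h (Pi.single 2 1); simp [hesse] at this; linear_combination (1 / 6 : K) * this
  have hζ : ζ ^ 3 = 1 := by
    obtain ⟨p, hp⟩ := hsurj ![1, 0, 0]
    refine hsing ζ p (fun h => by rw [h, Matrix.mulVec_zero] at hp; simpa using congrFun hp 0) fun y => ?_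
    have h1 := hPA' (p + y)
    have h2 := hPA' (p - y)
    have h3 := hPA' y
    rw [Matrix.mulVec_add, hp] at h1
    rw [Matrix.mulVec_sub, hp] at h2
    simp only [Pi.add_apply, Pi.sub_apply, Matrix.cons_val] at h1 h2
    have : a * (hesse ζ (p + y) - hesse ζ (p - y) - 2 * hesse ζ y) = 0 := by
      linear_combination -h1 + h2 + 2 * h3
    exact (mul_eq_zero.1 this).resolve_left ha
  let d : K := 3 * a / c
  have hd : d ≠ 0 := div_ne_zero (mul_ne_zero three_ne_zero ha) hc
  have hη : ∀ η : K, η ^ 3 = 1 → d * (k - η) = -1 ∨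
      ∃ κ : K, κ ^ 3 = 1 ∧ d * (k - η) * (ζ - κ) = κ - k := by
    intro η hη
    by_cases h0 : 1 + d * (k - η) = 0
    · exact Or.inl (by linear_combination h0)
    refine Or.inr ⟨(k + d * ζ * (k - η)) / (1 + d * (k - η)), ?_, ?_⟩
    · obtain ⟨p, hp⟩ := hsurj ![η ^ 2, 1, 1]
      refine hsing _ p (fun h => by rw [h, Matrix.mulVec_zero] at hp; simpa using congrFun hp 1) fun y => ?_
      have hexp : ∀ v, hesse η (A.mulVec v) =
          c * (1 + d * (k - η)) * hesse ((k + d * ζ * (k - η)) / (1 + d * (k - η))) v := fun v => by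
        have h1 := hA v
        have h2 := hPA' v
        have e : (1 + d * (k - η)) * ((k + d * ζ * (k - η)) / (1 + d * (k - η))) = k + d * ζ * (k - η) :=
          mul_div_cancel₀ _ h0
        have e' : d * c = 3 * a := div_mul_cancel₀ _ hc
        generalize (k + d * ζ * (k - η)) / (1 + d * (k - η)) = z at e ⊢
        simp only [hesse] at h1 h2 ⊢
        linear_combination h1 + 3 * (k - η) * h2 + 3 * c * (v 0 * v 1 * v 2) * e
          - (k - η) * (v 0 ^ 3 + v 1 ^ 3 + v 2 ^ 3 - 3 * ζ * (v 0 * v 1 * v 2)) * e'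
      have hz : hesse η (A.mulVec (p + y)) - hesse η (A.mulVec (p - y)) - 2 * hesse η (A.mulVec y) = 0 := by
        rw [Matrix.mulVec_add, Matrix.mulVec_sub, hp]
        simp only [hesse, Pi.add_apply, Pi.sub_apply, Matrix.cons_val]
        linear_combination (6 * η * (A.mulVec y) 0 - 6 * ((A.mulVec y) 1 + (A.mulVec y) 2)) * hη
      rw [hexp, hexp, hexp] at hz
      have : c * (1 + d * (k - η)) * (hesse ((k + d * ζ * (k - η)) / (1 + d * (k - η))) (p + y)
          - hesse ((k + d * ζ * (k - η)) / (1 + d * (k - η))) (p - y)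
          - 2 * hesse ((k + d * ζ * (k - η)) / (1 + d * (k - η))) y) = 0 := by linear_combination hz
      exact (mul_eq_zero.1 this).resolve_left (mul_ne_zero hc h0)
    · field_simp
      ring
  obtain ⟨ω, hω⟩ := exists_primitive (K := K)
  have hω3 : ω ^ 3 = 1 := hω.pow_eq_one
  have hω1 : (1 : K) ≠ ω := (hω.ne_one (by norm_num)).symm
  have hbad : ∀ η η' κ κ' : K, η ^ 3 = 1 → η' ^ 3 = 1 → κ ^ 3 = 1 → κ' ^ 3 = 1 →
      ((κ ≠ κ' ∧ (κ' - k) * (k - η) * (ζ - κ) - (κ - k) * (k - η') * (ζ - κ') = 0) ∨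
        ((k - η') * (ζ - κ) + (κ - k) * (k - η) = 0)) → False := fun η η' κ κ' h1 h2 h3 h4 h => by
    refine hk (Or.inr ?_)
    simp only [Set.mem_iUnion, Set.mem_ofPred_eq]
    exact ⟨ζ, hζ, η, h1, η', h2, κ, h3, κ', h4, h⟩
  rcases hη 1 (one_pow 3) with h1 | ⟨κ, hκ, h1⟩ <;> rcases hη ω hω3 with h2 | ⟨κ', hκ', h2⟩
  · have : d * (ω - 1) = 0 := by linear_combination h1 - h2
    simp [hd, sub_eq_zero, Ne.symm hω1] at this
  · refine hbad 1 ω κ' κ' (one_pow 3) hω3 hκ' hκ' (Or.inr ?_)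
    linear_combination (k - ω) * (ζ - κ') * h1 - (k - 1) * h2
  · refine hbad ω 1 κ κ hω3 (one_pow 3) hκ hκ (Or.inr ?_)
    linear_combination (k - 1) * (ζ - κ) * h2 - (k - ω) * h1
  · rcases eq_or_ne κ κ' with hκκ | hne'
    · subst hκκ
      have h3 : d * (ω - 1) * (ζ - κ) = 0 := by linear_combination h1 - h2
      simp [hd, sub_eq_zero, Ne.symm hω1] at h3
      have h4 : κ - k = 0 := by rw [← h3] at h1 ⊢; linear_combination -h1
      exact hk3 (by rw [← sub_eq_zero.1 h4]; exact hκ)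
    · refine hbad 1 ω κ κ' (one_pow 3) hω3 hκ hκ' (Or.inl ⟨hne', ?_⟩)
      linear_combination (k - ω) * (ζ - κ') * h1 - (k - 1) * (ζ - κ) * h2

omit [CharZero K] in
theorem row_zero [Infinite K] (A : Matrix (Fin 3) (Fin 3) K) (b : K)
    (h : ∀ v, (A.mulVec v) 0 * (A.mulVec v) 1 * (A.mulVec v) 2 = b * (v 0 * v 1 * v 2)) (j : Fin 3) :
    ∃ i : Fin 3, ∀ l, l ≠ j → A i l = 0 := by
  classical
  obtain ⟨p, q, hpj, hqj, hpq, huniv⟩ : ∃ p q : Fin 3, p ≠ j ∧ q ≠ j ∧ p ≠ q ∧ ∀ l, l ≠ j → l = p ∨ l = q := by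
    revert j; decide
  let P : Fin 3 → Polynomial K := fun i => Polynomial.C (A i p) + Polynomial.C (A i q) * Polynomial.X
  have hprod : P 0 * P 1 * P 2 = 0 := Polynomial.funext fun t => by
    let v : Fin 3 → K := Pi.single p 1 + t • Pi.single q 1
    have hv : ∀ i, A.mulVec v i = A i p + A i q * t := fun i => by
      simp [v, Matrix.mulVec_add, Matrix.mulVec_smul]; ring
    have hvj : v j = 0 := by simp [v, Pi.single_eq_of_ne hpj.symm, Pi.single_eq_of_ne hqj.symm]
    have h' := h v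
    rw [hv, hv, hv] at h'
    have hz : v 0 * v 1 * v 2 = 0 := by fin_cases j <;> simp at hvj <;> simp [hvj]
    rw [hz, mul_zero] at h'
    simpa [P] using h'
  simp only [mul_eq_zero] at hprod
  have hi : ∀ i, P i = 0 → ∀ l, l ≠ j → A i l = 0 := fun i hi l hl => by
    have h0 := congrArg (fun Q => Polynomial.coeff Q 0) hi
    have h1 := congrArg (fun Q => Polynomial.coeff Q 1) hi
    simp [P] at h0 h1
    rcases huniv l hl with rfl | rfl
    · exact h0
    · exact h1
  rcases hprod with (h0 | h0) | h0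
  exacts [⟨0, hi 0 h0⟩, ⟨1, hi 1 h0⟩, ⟨2, hi 2 h0⟩]

/-- the monomial matrices -/
noncomputable def monom (ω : K) (x : Equiv.Perm (Fin 3) × Fin 3 × Fin 3) : Matrix (Fin 3) (Fin 3) K :=
  (Matrix.diagonal fun l => ((Equiv.Perm.sign x.1 : ℤ) : K) *
    ω ^ (![(x.2.1 : ℕ), x.2.2, 2 * (x.2.1 + x.2.2)] l)).submatrix x.1.symm id

omit [CharZero K] [IsAlgClosed K] in
theorem monom_mulVec (ω : K) (x : Equiv.Perm (Fin 3) × Fin 3 × Fin 3) (v : Fin 3 → K) (l : Fin 3) :
    (monom ω x).mulVec v (x.1 l) =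
      ((Equiv.Perm.sign x.1 : ℤ) : K) * ω ^ (![(x.2.1 : ℕ), x.2.2, 2 * (x.2.1 + x.2.2)] l) * v l := by
  simp [monom, Matrix.mulVec, dotProduct, Matrix.submatrix_apply, Matrix.diagonal_apply]

theorem card_autos {G : Cubic K (Fin 3 → K)} {k : K} (hk : k ∉ (exceptional : Set K))
    (hG : ∀ P, G.F P = hesse k P) :
    Nat.card {A : Matrix (Fin 3) (Fin 3) K //
      A.det = 1 ∧ ∃ c : K, ∀ v, hesse k (A.mulVec v) = c * hesse k v} = 54 := by
  classical
  have hk0 : k ≠ 0 := fun h => hk (Or.inl (Or.inl h))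
  obtain ⟨ω, hω⟩ := exists_primitive (K := K)
  have hω3 : ω ^ 3 = 1 := hω.pow_eq_one
  have hω0 : ω ≠ 0 := hω.ne_zero (by norm_num)
  have hs2 : ∀ σ : Equiv.Perm (Fin 3), ((Equiv.Perm.sign σ : ℤ) : K) * ((Equiv.Perm.sign σ : ℤ) : K) = 1 :=
    fun σ => by rw [← Int.cast_mul, ← Units.val_mul, Int.units_mul_self, Units.val_one, Int.cast_one]
  have hpow : ∀ (i j : ℕ) (l : Fin 3), (ω ^ (![i, j, 2 * (i + j)] l)) ^ 3 = 1 := fun i j l => by
    rw [← pow_mul, mul_comm, pow_mul, hω3, one_pow]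
  have hprod : ∀ i j : ℕ, ω ^ i * ω ^ j * ω ^ (2 * (i + j)) = 1 := fun i j => by
    rw [← pow_add, ← pow_add, show i + j + 2 * (i + j) = 3 * (i + j) by ring, pow_mul, hω3, one_pow]
  have hmem : ∀ x, (monom ω x).det = 1 ∧ ∃ c : K, ∀ v, hesse k ((monom ω x).mulVec v) = c * hesse k v := by
    intro x
    constructor
    · rw [monom, Matrix.det_permute, Matrix.det_diagonal, Fin.prod_univ_three]
      simp only [Matrix.cons_val, Equiv.Perm.sign_symm]
      linear_combination ((Equiv.Perm.sign x.1 : ℤ) : K) ^ 4 * hprod x.2.1 x.2.2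
        + (((Equiv.Perm.sign x.1 : ℤ) : K) ^ 2 + 1) * hs2 x.1
    · refine ⟨((Equiv.Perm.sign x.1 : ℤ) : K), fun v => ?_⟩
      let w := (monom ω x).mulVec v
      have hsum : w 0 ^ 3 + w 1 ^ 3 + w 2 ^ 3 = ∑ l, (w (x.1 l)) ^ 3 := by
        rw [Equiv.sum_comp x.1 (fun i => w i ^ 3), Fin.sum_univ_three]
      have hpr : w 0 * w 1 * w 2 = ∏ l, w (x.1 l) := by
        rw [Equiv.prod_comp x.1 w, Fin.prod_univ_three]
      change hesse k w = _
      rw [hesse, hsum, hpr, Fin.sum_univ_three, Fin.prod_univ_three]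
      have hcube : ∀ n : ℕ, (ω ^ n) ^ 3 = 1 := fun n => by rw [← pow_mul, mul_comm, pow_mul, hω3, one_pow]
      simp only [w, monom_mulVec, Matrix.cons_val, mul_pow, hcube]
      rw [hesse]
      set s := ((Equiv.Perm.sign x.1 : ℤ) : K)
      linear_combination (-(3 * k * s ^ 3 * (v 0 * v 1 * v 2))) * hprod x.2.1 x.2.2
        + (s * (v 0 ^ 3 + v 1 ^ 3 + v 2 ^ 3) - 3 * k * s * (v 0 * v 1 * v 2)) * hs2 x.1
  let f : Equiv.Perm (Fin 3) × Fin 3 × Fin 3 → {A : Matrix (Fin 3) (Fin 3) K //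
      A.det = 1 ∧ ∃ c : K, ∀ v, hesse k (A.mulVec v) = c * hesse k v} := fun x => ⟨monom ω x, hmem x⟩
  have hinj : Function.Injective f := by
    rintro ⟨σ, i, j⟩ ⟨σ', i', j'⟩ h
    have h' : monom ω (σ, i, j) = monom ω (σ', i', j') := congrArg Subtype.val h
    have hs : ∀ τ : Equiv.Perm (Fin 3), ((Equiv.Perm.sign τ : ℤ) : K) ≠ 0 := fun τ => left_ne_zero_of_mul_eq_one (hs2 τ)
    have hσ : σ = σ' := by
      ext l
      by_contra hne
      have e := congrFun (congrFun h' (σ l)) l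
      have hne' : σ'.symm (σ l) ≠ l := fun e' => hne (by conv_rhs => rw [← e', Equiv.apply_symm_apply])
      simp [monom, Matrix.submatrix_apply, Matrix.diagonal_apply_ne _ hne', hs, hω0] at e
    subst hσ
    have e : ∀ l, ω ^ (![(i : ℕ), j, 2 * (i + j)] l) = ω ^ (![(i' : ℕ), j', 2 * (i' + j')] l) := fun l => by
      have e := congrFun (congrFun h' (σ l)) l
      simp [monom, Matrix.submatrix_apply, hs] at e
      exact e
    have hi : i = i' := Fin.ext (hω.pow_inj i.2 i'.2 (by simpa using e 0))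
    have hj : j = j' := Fin.ext (hω.pow_inj j.2 j'.2 (by simpa using e 1))
    rw [hi, hj]
  have hsurj : Function.Surjective f := by
    rintro ⟨A, hdet, c, hA⟩
    obtain ⟨hc, b, hb⟩ := prod_fixed k hk A hdet c hA hG
    choose σ hσ using row_zero A b hb
    have hσinj : Function.Injective σ := by
      intro j j' h
      by_contra hne
      have hrow : ∀ l, A (σ j) l = 0 := fun l => by
        rcases eq_or_ne l j with rfl | hl
        · rw [h]; exact hσ j' _ hne
        · exact hσ j l hl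
      rw [Matrix.det_eq_zero_of_row_eq_zero _ hrow] at hdet
      exact zero_ne_one hdet
    let τ : Equiv.Perm (Fin 3) := Equiv.ofBijective σ ⟨hσinj, Finite.injective_iff_surjective.1 hσinj⟩
    let d : Fin 3 → K := fun l => A (τ l) l
    have hAeq : A = (Matrix.diagonal d).submatrix τ.symm id := by
      ext i l
      obtain ⟨m, rfl⟩ := τ.surjective i
      simp only [Matrix.submatrix_apply, Equiv.symm_apply_apply, id_eq]
      rcases eq_or_ne l m with rfl | hl
      · simp [d]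
      · rw [Matrix.diagonal_apply_ne _ hl.symm]
        exact hσ m l hl
    have hAv : ∀ v l, A.mulVec v (τ l) = d l * v l := fun v l => by
      rw [hAeq]
      simp [Matrix.mulVec, dotProduct, Matrix.submatrix_apply, Matrix.diagonal_apply]
    have hSP : ∀ v : Fin 3 → K, hesse k (A.mulVec v) =
        ∑ l, (d l * v l) ^ 3 - 3 * k * ∏ l, d l * v l := fun v => by
      rw [hesse]
      simp only [← hAv]
      rw [Equiv.sum_comp τ (fun i => A.mulVec v i ^ 3), Equiv.prod_comp τ (fun i => A.mulVec v i),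
        Fin.sum_univ_three, Fin.prod_univ_three]
    have hd3 : ∀ l, d l ^ 3 = c := fun l => by
      have h := (hSP (Pi.single l 1)).symm.trans (hA _)
      rw [Fin.sum_univ_three, Fin.prod_univ_three, hesse] at h
      fin_cases l <;> simpa using h
    have hdp : d 0 * d 1 * d 2 = c := by
      have h := (hSP ![1, 1, 1]).symm.trans (hA _)
      rw [Fin.sum_univ_three, Fin.prod_univ_three, hesse] at h
      simp [hd3] at h
      have : (3 * k) * (d 0 * d 1 * d 2 - c) = 0 := by linear_combination -h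
      exact sub_eq_zero.1 ((mul_eq_zero.1 this).resolve_left (mul_ne_zero three_ne_zero hk0))
    let s : K := ((Equiv.Perm.sign τ : ℤ) : K)
    have hcs : c = s := by
      have h := hdet
      rw [hAeq, Matrix.det_permute, Matrix.det_diagonal, Fin.prod_univ_three, hdp, Equiv.Perm.sign_symm] at h
      calc c = (s * s) * c := by rw [hs2, one_mul]
        _ = s := by rw [mul_assoc, h, mul_one]
    have hroot : ∀ l, ∃ i : Fin 3, d l = s * ω ^ (i : ℕ) := fun l => by
      obtain ⟨i, hi, hi'⟩ := hω.eq_pow_of_pow_eq_one (ξ := s * d l) (by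
        rw [mul_pow, hd3, hcs]; linear_combination (s ^ 2 + 1) * hs2 τ)
      exact ⟨⟨i, hi⟩, by simp only; rw [hi', ← mul_assoc, hs2, one_mul]⟩
    obtain ⟨i, hi⟩ := hroot 0
    obtain ⟨j, hj⟩ := hroot 1
    refine ⟨(τ, i, j), Subtype.ext ?_⟩
    change monom ω (τ, i, j) = A
    rw [hAeq, monom]
    congr 2
    funext l
    fin_cases l
    · simpa using hi.symm
    · simpa using hj.symm
    · simp
      have h2 : s * ω ^ (i : ℕ) * (s * ω ^ (j : ℕ)) * d 2 = s := by rw [← hi, ← hj]; exact hdp.trans hcs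
      linear_combination (-(ω ^ (2 * ((i : ℕ) + j)))) * h2 + s ^ 2 * d 2 * hprod i j + d 2 * hs2 τ
  rw [← Nat.card_congr (Equiv.ofBijective f ⟨hinj, hsurj⟩)]
  simp [Nat.card_eq_fintype_card, Fintype.card_perm, Nat.factorial]

end Groth.Agent.CubicLib
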