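import Groth.Agent.CubicLib.Points

/-! Polynomial cubics, extension of scalars, and non-`T`-points. -/

namespace Groth.Agent.CubicLib

open MvPolynomial

universe u v w

theorem Cubic.polar {k : Type u} [Field k] {V : Type v} [AddCommGroup V] [Module k V] (G : Cubic k V) (a b c : V) :
    6 * G.T a b c = G.F (a + b + c) - G.F (a + b) - G.F (a + c) - G.F (b + c) + G.F a + G.F b + G.F c := by
  have h := G.F_comb₃ a b c 1 1 1
  have h1 := G.F_comb₂ a b 1 1
  have h2 := G.F_comb₂ a c 1 1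
  have h3 := G.F_comb₂ b c 1 1
  simp only [one_smul] at h h1 h2 h3
  rw [h, h1, h2, h3]
  ring

variable {k : Type u} [Field k] {K : Type w} [Field K] [Algebra k K]

/-- a rational vector -/
def ext (v : Fin 4 → k) : Fin 4 → K := fun i => algebraMap k K (v i)

theorem eval_ext (f : MvPolynomial (Fin 4) k) (v : Fin 4 → k) :
    eval (ext v : Fin 4 → K) (map (algebraMap k K) f) = algebraMap k K (eval v f) := by
  rw [eval_map]
  exact (eval₂_comp (algebraMap k K) v f).symm

theorem ext_add (u v : Fin 4 → k) : (ext (u + v) : Fin 4 → K) = ext u + ext v := by funext i; simp [ext]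

theorem T_ext [CharZero k] {f : MvPolynomial (Fin 4) k} {G : Cubic k (Fin 4 → k)} (hG : ∀ v, eval v f = G.F v)
    {G' : Cubic K (Fin 4 → K)} (hG' : ∀ v, eval v (map (algebraMap k K) f) = G'.F v) (a b c : Fin 4 → k) :
    G'.T (ext a) (ext b) (ext c) = algebraMap k K (G.T a b c) := by
  have : CharZero K := charZero_of_injective_algebraMap (algebraMap k K).injective
  have hF : ∀ v : Fin 4 → k, G'.F (ext v) = algebraMap k K (G.F v) := fun v => by rw [← hG', eval_ext, hG]
  have h := G'.polar (ext a) (ext b) (ext c)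
  simp only [← ext_add, hF, ← map_add, ← map_sub, ← G.polar] at h
  rw [map_mul, map_ofNat] at h
  exact mul_left_cancel₀ (by norm_num) h

theorem irred_of_map [CharZero k] {f : MvPolynomial (Fin 4) k} (hirr : Irreducible (map (algebraMap k K) f))
    {G : Cubic k (Fin 4 → k)} (hG : ∀ v, eval v f = G.F v) : G.Irred := by
  intro L B hLB
  let pL : MvPolynomial (Fin 4) k := ∑ i, C (L (Pi.single i 1)) * X i
  let pB : MvPolynomial (Fin 4) k := ∑ i, ∑ j, C (B (Pi.single i 1) (Pi.single j 1)) * X i * X j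
  have hfun : f = pL * pB := MvPolynomial.funext fun v => by
    rw [hG, hLB, map_mul]
    congr 1
    · conv_lhs => rw [pi_eq_sum_univ' v]
      simp [pL, map_sum, mul_comm]
    · conv_lhs => rw [pi_eq_sum_univ' v]
      simp only [map_sum, map_smul, LinearMap.sum_apply, LinearMap.smul_apply, smul_eq_mul, pB, map_mul,
        eval_C, eval_X, Finset.mul_sum]
      rw [Finset.sum_comm]
      exact Finset.sum_congr rfl fun i _ => Finset.sum_congr rfl fun j _ => by ring
  rw [hfun, map_mul] at hirr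
  have key : ∀ (p : MvPolynomial (Fin 4) k) (n : ℕ), n ≠ 0 → p.IsHomogeneous n →
      IsUnit (map (algebraMap k K) p) → False := fun p n hn hp hu => by
    have hp' := hp.map (algebraMap k K)
    have hdeg := hp'.totalDegree hu.ne_zero
    rw [MvPolynomial.isUnit_iff_totalDegree_of_isReduced.1 hu |>.2] at hdeg
    exact hn hdeg.symm
  have hL1 : pL.IsHomogeneous 1 := IsHomogeneous.sum _ _ _ fun i _ =>
    (isHomogeneous_X k i).C_mul _
  have hB2 : pB.IsHomogeneous 2 := IsHomogeneous.sum _ _ _ fun i _ => IsHomogeneous.sum _ _ _ fun j _ =>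
    ((isHomogeneous_X k i).C_mul _).mul (isHomogeneous_X k j)
  exact (hirr.isUnit_or_isUnit rfl).elim (key pL 1 one_ne_zero hL1) (key pB 2 two_ne_zero hB2)

theorem exists_T_ne_zero [CharZero k] {f : MvPolynomial (Fin 4) k} {G : Cubic k (Fin 4 → k)}
    (hd : ∀ v i, eval v (pderiv i f) = 3 * G.T v v (Pi.single i 1))
    (hcone : ¬ ∃ v : Fin 4 → k, v ≠ 0 ∧ ∑ i : Fin 4, v i • pderiv i f = 0) {a : Fin 4 → k} (ha : a ≠ 0) :
    ∃ u v, G.T a u v ≠ 0 := by
  by_contra! h
  refine hcone ⟨a, ha, MvPolynomial.funext fun v => ?_⟩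
  rw [map_sum, map_zero]
  simp only [smul_eval, hd]
  have : G.T v v a = 0 := by rw [G.symm₁₃]; exact h v v
  rw [pi_eq_sum_univ' a, map_sum] at this
  simp only [map_smul, smul_eq_mul] at this
  rw [← mul_zero (3 : k), ← this, Finset.mul_sum]
  exact Finset.sum_congr rfl fun i _ => by ring

theorem exists_linear_pair [IsAlgClosed K] (a b c : K) :
    ∃ p q r s : K, ∀ B C : K, a * B ^ 2 + b * B * C + c * C ^ 2 = (p * B + q * C) * (r * B + s * C) := by
  by_cases hc : c = 0
  · exact ⟨1, 0, a, b, fun B C => by rw [hc]; ring⟩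
  · obtain ⟨z, hz⟩ := IsAlgClosed.exists_root (Polynomial.C c * Polynomial.X ^ 2 + Polynomial.C b * Polynomial.X +
      Polynomial.C a) (by rw [Polynomial.degree_quadratic hc]; norm_num)
    simp only [Polynomial.IsRoot, Polynomial.eval_add, Polynomial.eval_mul, Polynomial.eval_C, Polynomial.eval_pow,
      Polynomial.eval_X] at hz
    exact ⟨-z, 1, b + c * z, c, fun B C => by linear_combination (B ^ 2) * hz⟩

theorem exists_linear_triple [IsAlgClosed K] (a b c d : K) :
    ∃ p q r s t u : K, ∀ B C : K, a * B ^ 3 + b * B ^ 2 * C + c * B * C ^ 2 + d * C ^ 3 =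
      (p * B + q * C) * (r * B + s * C) * (t * B + u * C) := by
  by_cases hd : d = 0
  · obtain ⟨p, q, r, s, h⟩ := exists_linear_pair a b c
    exact ⟨p, q, r, s, 1, 0, fun B C => by rw [hd]; linear_combination B * h B C⟩
  · obtain ⟨z, hz⟩ := IsAlgClosed.exists_root (Polynomial.C d * Polynomial.X ^ 3 + Polynomial.C c * Polynomial.X ^ 2 +
      Polynomial.C b * Polynomial.X + Polynomial.C a) (by rw [Polynomial.degree_cubic hd]; norm_num)
    simp only [Polynomial.IsRoot, Polynomial.eval_add, Polynomial.eval_mul, Polynomial.eval_C, Polynomial.eval_pow,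
      Polynomial.eval_X] at hz
    obtain ⟨p, q, r, s, h⟩ := exists_linear_pair (b + c * z + d * z ^ 2) (c + d * z) d
    exact ⟨p, q, r, s, -z, 1, fun B C => by linear_combination (C - z * B) * h B C + B ^ 3 * hz⟩

theorem sub_mem_span {σ : Type v} (ℓ f : MvPolynomial σ K) (g : σ → MvPolynomial σ K)
    (hg : ∀ i, X i - g i ∈ Ideal.span {ℓ}) : f - aeval g f ∈ Ideal.span {ℓ} := by
  rw [← Ideal.Quotient.eq]
  have : (Ideal.Quotient.mkₐ K (Ideal.span {ℓ})).comp (aeval g) = Ideal.Quotient.mkₐ K (Ideal.span {ℓ}) :=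
    MvPolynomial.algHom_ext fun i => by
      rw [AlgHom.comp_apply, aeval_X]
      exact (Ideal.Quotient.eq.2 (hg i)).symm
  exact (AlgHom.congr_fun this f).symm

theorem nice_or_product [CharZero k] [IsAlgClosed K] {f : MvPolynomial (Fin 4) k}
    {G : Cubic k (Fin 4 → k)} (hG : ∀ v, eval v f = G.F v) (hf : f.IsHomogeneous 3)
    (hd : ∀ v i, eval v (pderiv i f) = 3 * G.T v v (Pi.single i 1))
    {a : Fin 4 → k} (ha : a ≠ 0) (hFa : G.F a = 0) (hsm : ∃ m, G.T a a m ≠ 0) :
    (∃ w₁ w₂, Nice G a w₁ w₂) ∨ ∃ L₁ L₂ L₃ : MvPolynomial (Fin 4) K, L₁.IsHomogeneous 1 ∧ L₂.IsHomogeneous 1 ∧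
      L₃.IsHomogeneous 1 ∧ map (algebraMap k K) f - L₁ * L₂ * L₃ ∈
        Ideal.span {∑ i : Fin 4, C (algebraMap k K (eval a (pderiv i f))) * X i} := by
  classical
  have : CharZero K := charZero_of_injective_algebraMap (algebraMap k K).injective
  obtain ⟨G', hG', -, -⟩ := exists_cubic (map (algebraMap k K) f) (hf.map _)
  obtain ⟨m, hm⟩ := hsm
  let H := LinearMap.ker (G.T a a)
  have haH : a ∈ H := hFa
  have hrk : Module.finrank k H = 3 := by
    have h := LinearMap.finrank_range_add_finrank_ker (G.T a a)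
    rw [LinearMap.range_eq_top.2 (LinearMap.surjective (fun h0 => hm (by rw [h0]; rfl))), finrank_top,
      Module.finrank_self, Module.finrank_fin_fun] at h
    change 1 + Module.finrank k H = 4 at h
    omega
  -- choose the two further directions
  obtain ⟨w₁, w₂, hw₁, hw₂, hli, hbad⟩ : ∃ w₁ w₂, w₁ ∈ H ∧ w₂ ∈ H ∧ LinearIndependent k ![a, w₁, w₂] ∧
      (G.T a w₂ w₂ = 0 → G.T a w₁ w₁ = 0 ∧ G.T a w₁ w₂ = 0) := by
    have complete : ∀ y ∈ H, LinearIndependent k ![a, y] → ∃ x ∈ H, LinearIndependent k ![a, x, y] := by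
      intro y hy hli
      obtain ⟨x, hx, hxs⟩ : ∃ x ∈ H, x ∉ Submodule.span k (Set.range ![a, y]) := by
        by_contra! hh
        have := Submodule.finrank_mono (s := H) hh
        rw [finrank_span_eq_card hli, hrk, Fintype.card_fin] at this
        omega
      refine ⟨x, hx, ?_⟩
      have h3 : LinearIndependent k (Fin.snoc ![a, y] x : Fin 3 → Fin 4 → k) :=
        linearIndependent_fin_snoc.2 ⟨hli, hxs⟩
      have := h3.comp ![0, 2, 1] (by decide)
      convert this using 1
      funext i; fin_cases i <;> rfl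
    by_cases hq : ∃ y ∈ H, G.T a y y ≠ 0
    · obtain ⟨y, hy, hyy⟩ := hq
      have hli : LinearIndependent k ![a, y] := (LinearIndependent.pair_iff' ha).2 fun c hc => by
        subst hc
        exact hyy (by simp [show G.T a a a = 0 from hFa])
      obtain ⟨x, hx, hx'⟩ := complete y hy hli
      exact ⟨x, y, hx, hy, hx', fun h => absurd h hyy⟩
    · simp only [not_exists, not_and, not_not] at hq
      obtain ⟨y, hy, hys⟩ : ∃ y ∈ H, y ∉ Submodule.span k {a} := by
        by_contra! hh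
        have := Submodule.finrank_mono (s := H) hh
        rw [finrank_span_singleton ha, hrk] at this
        omega
      have hli : LinearIndependent k ![a, y] := (LinearIndependent.pair_iff' ha).2 fun c hc =>
        hys (hc ▸ Submodule.mem_span_singleton.2 ⟨c, rfl⟩)
      obtain ⟨x, hx, hx'⟩ := complete y hy hli
      refine ⟨x, y, hx, hy, hx', fun _ => ⟨hq x hx, ?_⟩⟩
      have h := hq (x + y) (add_mem hx hy)
      simp only [map_add, LinearMap.add_apply] at h
      rw [hq x hx, hq y hy, G.symm₂₃ a y x] at h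
      simpa using (show 2 * G.T a x y = 0 by linear_combination h)
  have h₁ : G.T a a w₁ = 0 := hw₁
  have h₂ : G.T a a w₂ = 0 := hw₂
  have hspan : ∀ v, G.T a a v = 0 → ∃ A B C : k, v = A • a + B • w₁ + C • w₂ := fun v hv => by
    have : H = Submodule.span k (Set.range ![a, w₁, w₂]) := by
      refine (Submodule.eq_of_le_of_finrank_eq (Submodule.span_le.2 ?_) ?_).symm
      · rintro _ ⟨i, rfl⟩; fin_cases i <;> assumption
      · rw [finrank_span_eq_card hli, hrk, Fintype.card_fin]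
    obtain ⟨c, hc⟩ := (Submodule.mem_span_range_iff_exists_fun k).1 (this ▸ (LinearMap.mem_ker.2 hv : v ∈ H) : v ∈ Submodule.span k (Set.range ![a, w₁, w₂]))
    exact ⟨c 0, c 1, c 2, by simpa [Fin.sum_univ_three] using hc.symm⟩
  by_cases hgood : G.T a w₂ w₂ ≠ 0 ∧
      (3 * G.T w₁ w₁ w₂ * G.T a w₂ w₂ ^ 2 - G.F w₂ * G.T a w₁ w₁ * G.T a w₂ w₂
        - (3 * G.T w₁ w₂ w₂ * G.T a w₂ w₂ - G.F w₂ * (2 * G.T a w₁ w₂)) * (2 * G.T a w₁ w₂) ≠ 0 ∨
      G.F w₁ * G.T a w₂ w₂ ^ 2
        - (3 * G.T w₁ w₂ w₂ * G.T a w₂ w₂ - G.F w₂ * (2 * G.T a w₁ w₂)) * G.T a w₁ w₁ ≠ 0)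
  · exact Or.inl ⟨w₁, w₂, ⟨hFa, h₁, h₂, ⟨m, hm⟩, hspan, hgood.1, hgood.2⟩⟩
  right
  -- coordinates adapted to the tangent plane
  let c₀ := G.T a a m
  let π : (Fin 4 → k) →ₗ[k] (Fin 4 → k) := LinearMap.id - (c₀⁻¹ • G.T a a).smulRight m
  let S : (k × k × k) →ₗ[k] (Fin 4 → k) :=
    ((LinearMap.toSpanSingleton k _ a).coprod ((LinearMap.toSpanSingleton k _ w₁).coprod (LinearMap.toSpanSingleton k _ w₂)))
  have hSi : LinearMap.ker S = ⊥ := LinearMap.ker_eq_bot'.2 fun x hx => by
    obtain ⟨A, B, C⟩ := x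
    have := Fintype.linearIndependent_iff.1 hli ![A, B, C] (by
      rw [Fin.sum_univ_three]
      simpa [S, add_assoc] using hx)
    have e0 : A = 0 := this 0
    have e1 : B = 0 := this 1
    have e2 : C = 0 := this 2
    simp [e0, e1, e2]
  obtain ⟨R, hR⟩ := S.exists_leftInverse_of_injective hSi
  have hπS : ∀ v, π v = (R (π v)).1 • a + (R (π v)).2.1 • w₁ + (R (π v)).2.2 • w₂ := fun v => by
    have hT : G.T a a (π v) = 0 := by simp [π, c₀]; field_simp; ring
    obtain ⟨A, B, C, h⟩ := hspan _ hT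
    have : R (π v) = (A, B, C) := by
      have h' : π v = S (A, B, C) := by rw [h]; simp [S, add_assoc]
      rw [h']; exact LinearMap.congr_fun hR _
    rw [this]; exact h
  -- the coordinate forms
  let lin : ((Fin 4 → k) →ₗ[k] k) → MvPolynomial (Fin 4) K := fun l =>
    ∑ i, C (algebraMap k K (l (Pi.single i 1))) * X i
  let cA := lin ((LinearMap.fst k k (k × k)).comp (R.comp π))
  let cB := lin (((LinearMap.fst k k k).comp (LinearMap.snd k k (k × k))).comp (R.comp π))
  let cC := lin (((LinearMap.snd k k k).comp (LinearMap.snd k k (k × k))).comp (R.comp π))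
  let ℓ : MvPolynomial (Fin 4) K := ∑ i : Fin 4, C (algebraMap k K (eval a (pderiv i f))) * X i
  let g : Fin 4 → MvPolynomial (Fin 4) K := fun i =>
    cA * C (algebraMap k K (a i)) + cB * C (algebraMap k K (w₁ i)) + cC * C (algebraMap k K (w₂ i))
  have hg : ∀ i, X i - g i ∈ Ideal.span {ℓ} := fun i => by
    refine Ideal.mem_span_singleton'.2 ⟨C (algebraMap k K (c₀⁻¹ * (3 : k)⁻¹ * m i)), ?_⟩
    refine MvPolynomial.funext fun v => ?_
    have key : ∀ j, c₀⁻¹ * (3 : k)⁻¹ * m i * eval a (pderiv j f) = (if i = j then 1 else 0) -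
        ((R (π (Pi.single j 1))).1 * a i + (R (π (Pi.single j 1))).2.1 * w₁ i + (R (π (Pi.single j 1))).2.2 * w₂ i) := by
      intro j
      have e := congrFun (hπS (Pi.single j 1)) i
      simp only [Pi.add_apply, Pi.smul_apply, smul_eq_mul] at e
      rw [← e, hd]
      simp [π, c₀, Pi.single_apply]
      field_simp
    have key' : ∀ j, algebraMap k K (c₀⁻¹ * (3 : k)⁻¹ * m i) * algebraMap k K (eval a (pderiv j f)) =
        (if i = j then 1 else 0) - (algebraMap k K (R (π (Pi.single j 1))).1 * algebraMap k K (a i) +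
          algebraMap k K (R (π (Pi.single j 1))).2.1 * algebraMap k K (w₁ i) +
          algebraMap k K (R (π (Pi.single j 1))).2.2 * algebraMap k K (w₂ i)) := fun j => by
      rw [← map_mul, key]
      split_ifs <;> simp [map_sub, map_add, map_mul]
    simp only [ℓ, g, cA, cB, cC, lin, map_mul, map_sub, map_add, map_sum, eval_C, eval_X, LinearMap.comp_apply,
      LinearMap.fst_apply, LinearMap.snd_apply]
    simp only [Finset.mul_sum, Finset.sum_mul, ← Finset.sum_add_distrib]
    rw [show v i = ∑ j, (if i = j then (1 : K) else 0) * v j by simp, ← Finset.sum_sub_distrib]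
    refine Finset.sum_congr rfl fun j _ => ?_
    rw [← mul_assoc, ← map_mul, ← map_mul]
    have := congrArg (· * v j) (key' j)
    simp only [← map_mul] at this
    simp only [map_mul] at this ⊢
    linear_combination this
  have hmem := sub_mem_span ℓ (map (algebraMap k K) f) g hg
  -- evaluate the restriction
  let ι := algebraMap k K
  set u₀ := G.T a w₁ w₁
  set u₁ := G.T a w₁ w₂
  set q₂ := G.T a w₂ w₂
  have heval : ∀ v, eval v (aeval g (map ι f)) =
      3 * eval v cA * (ι u₀ * eval v cB ^ 2 + 2 * ι u₁ * eval v cB * eval v cC + ι q₂ * eval v cC ^ 2) +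
        (ι (G.F w₁) * eval v cB ^ 3 + 3 * ι (G.T w₁ w₁ w₂) * eval v cB ^ 2 * eval v cC +
          3 * ι (G.T w₁ w₂ w₂) * eval v cB * eval v cC ^ 2 + ι (G.F w₂) * eval v cC ^ 3) := fun v => by
    have e : eval v (aeval g (map ι f)) = eval (fun i => eval v (g i)) (map ι f) := by
      rw [aeval_def, algebraMap_eq, eval₂_comp_left (eval v)]
      congr 1
      ext r; simp
    rw [e, hG', show (fun i => eval v (g i)) = eval v cA • ext a + eval v cB • ext w₁ + eval v cC • ext w₂ from
      funext fun i => by simp [g, ext], G'.F_comb₃]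
    simp only [Cubic.F, T_ext hG hG']
    rw [show G.T a a a = 0 from hFa, h₁, h₂, map_zero]
    simp only [u₀, u₁, q₂, ι]
    ring
  have hlin : ∀ l, (lin l).IsHomogeneous 1 := fun l =>
    IsHomogeneous.sum _ _ _ fun i _ => (isHomogeneous_X K i).C_mul _
  have fin : ∀ L₁ L₂ L₃ : MvPolynomial (Fin 4) K, L₁.IsHomogeneous 1 → L₂.IsHomogeneous 1 → L₃.IsHomogeneous 1 →
      (∀ v, eval v (aeval g (map ι f)) = eval v L₁ * eval v L₂ * eval v L₃) →
      ∃ L₁ L₂ L₃ : MvPolynomial (Fin 4) K, L₁.IsHomogeneous 1 ∧ L₂.IsHomogeneous 1 ∧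
        L₃.IsHomogeneous 1 ∧ map ι f - L₁ * L₂ * L₃ ∈ Ideal.span {ℓ} := fun L₁ L₂ L₃ l₁ l₂ l₃ h => by
    refine ⟨L₁, L₂, L₃, l₁, l₂, l₃, ?_⟩
    rw [← show aeval g (map ι f) = L₁ * L₂ * L₃ from MvPolynomial.funext fun v => by rw [h v, map_mul, map_mul]]
    exact hmem
  have hcomb : ∀ x y : K, (C x * cB + C y * cC).IsHomogeneous 1 := fun x y =>
    ((hlin _).C_mul x).add ((hlin _).C_mul y)
  by_cases hq₂ : q₂ = 0
  · obtain ⟨hu₀, hu₁⟩ := hbad hq₂
    obtain ⟨p, q, r, s, t, u, h⟩ := exists_linear_triple (ι (G.F w₁)) (3 * ι (G.T w₁ w₁ w₂))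
      (3 * ι (G.T w₁ w₂ w₂)) (ι (G.F w₂))
    refine fin _ _ _ (hcomb p q) (hcomb r s) (hcomb t u) fun v => ?_
    have h' := h (eval v cB) (eval v cC)
    rw [heval, hu₀, hu₁, hq₂, map_zero]
    simp only [map_add, map_mul, eval_C]
    linear_combination h'
  · have hrem : ¬ _ := fun hh => hgood ⟨hq₂, hh⟩
    simp only [not_or, not_not] at hrem
    obtain ⟨r₁, r₀⟩ := hrem
    obtain ⟨p, q, r, s, h⟩ := exists_linear_pair (ι u₀) (2 * ι u₁) (ι q₂)
    set d₂ := 3 * G.T w₁ w₂ w₂ * q₂ - G.F w₂ * (2 * u₁) with hd₂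
    refine fin _ _ (C 3 * cA + C (ι (d₂ / q₂ ^ 2)) * cB + C (ι (G.F w₂ / q₂)) * cC) (hcomb p q) (hcomb r s)
      ((((hlin _).C_mul _).add ((hlin _).C_mul _)).add ((hlin _).C_mul _)) fun v => ?_
    have h' := h (eval v cB) (eval v cC)
    rw [heval]
    simp only [map_add, map_mul, eval_C]
    rw [← h']
    have e1 : 3 * ι (G.T w₁ w₁ w₂) = ι (G.F w₂ / q₂) * ι u₀ + ι (d₂ / q₂ ^ 2) * (2 * ι u₁) := by
      rw [← map_ofNat ι 3, ← map_ofNat ι 2]
      simp only [← map_mul, ← map_add]
      congr 1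
      field_simp
      linear_combination r₁
    have e0 : ι (G.F w₁) = ι (d₂ / q₂ ^ 2) * ι u₀ := by
      rw [← map_mul]
      congr 1
      field_simp
      linear_combination r₀
    have e2 : 3 * ι (G.T w₁ w₂ w₂) = ι (G.F w₂ / q₂) * (2 * ι u₁) + ι (d₂ / q₂ ^ 2) * ι q₂ := by
      rw [← map_ofNat ι 3, ← map_ofNat ι 2]
      simp only [← map_mul, ← map_add]
      congr 1
      rw [hd₂]
      field_simp
      ring
    have e3 : ι (G.F w₂) = ι (G.F w₂ / q₂) * ι q₂ := by
      rw [← map_mul, div_mul_cancel₀ _ hq₂]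
    linear_combination (eval v cB ^ 3) * e0 + (eval v cB ^ 2 * eval v cC) * e1 +
      (eval v cB * eval v cC ^ 2) * e2 + (eval v cC ^ 3) * e3

theorem five_points_of_not_T [CharZero k] {f : MvPolynomial (Fin 4) k} (hF : f.IsHomogeneous 3)
    (hirr : Irreducible (map (algebraMap k (AlgebraicClosure k)) f))
    (hcone : ¬ ∃ v : Fin 4 → k, v ≠ 0 ∧ ∑ i : Fin 4, v i • pderiv i f = 0)
    {a : Fin 4 → k} (ha : a ≠ 0) (hFa : eval a f = 0)
    (hT : (∃ m i, eval a (pderiv i f) = m ∧ m ≠ 0) → ¬ ∃ L₁ L₂ L₃ : MvPolynomial (Fin 4) (AlgebraicClosure k),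
      L₁.IsHomogeneous 1 ∧ L₂.IsHomogeneous 1 ∧ L₃.IsHomogeneous 1 ∧
      map (algebraMap k (AlgebraicClosure k)) f - L₁ * L₂ * L₃ ∈
        Ideal.span {∑ i : Fin 4, C (algebraMap k (AlgebraicClosure k) (eval a (pderiv i f))) * X i}) :
    ∃ p : Fin 5 → (Fin 4 → k), p 0 = a ∧ (∀ j, eval (p j) f = 0) ∧
      ∀ j : Fin 5, LinearIndependent k (fun i : Fin 4 => p (j.succAbove i)) := by
  obtain ⟨G, hG, hd, -⟩ := exists_cubic f hF
  have hirr' := irred_of_map hirr hG
  simp only [hG] at hFa ⊢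
  by_cases hsm : ∃ m, G.T a a m ≠ 0
  · rcases nice_or_product (K := AlgebraicClosure k) hG hF hd ha hFa hsm with ⟨w₁, w₂, N⟩ | h
    · exact exists_five_points (hasFamily_of_nice hirr' N) ha hFa
    · refine absurd h (hT ?_)
      by_contra hh
      simp only [not_exists, not_and, not_not] at hh
      obtain ⟨m, hm⟩ := hsm
      refine hm ?_
      rw [pi_eq_sum_univ' m, map_sum]
      refine Finset.sum_eq_zero fun i _ => ?_
      have := hd a i
      rw [hh _ i rfl] at this
      rw [map_smul, (mul_eq_zero.1 this.symm).resolve_left (by norm_num), smul_zero]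
  · simp only [not_exists, not_not] at hsm
    exact exists_five_points (hasFamily_singular G hirr' hsm (exists_T_ne_zero hd hcone ha)) ha hFa

end Groth.Agent.CubicLib
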