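import Groth.Agent.CubicLib.EckardtPairs
import Mathlib.Algebra.CharZero.Infinite

/-! From polynomials to trilinear forms. -/

namespace Groth.Agent.CubicLib

open MvPolynomial

universe u

variable {K : Type u} [Field K] [CharZero K] {n : ℕ}

theorem exists_smooth_cubic (f : MvPolynomial (Fin n) K) (hf : f.IsHomogeneous 3)
    (hsm : ∀ v : Fin n → K, v ≠ 0 → eval v f = 0 → ∃ i : Fin n, eval v (pderiv i f) ≠ 0) :
    ∃ G : Cubic K (Fin n → K), (∀ v, eval v f = G.F v) ∧ G.Smooth ∧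
      ∀ (A : Matrix (Fin n) (Fin n) K),
        (∃ c : K, aeval (fun i : Fin n => ∑ j : Fin n, C (A i j) * X j) f = C c * f) ↔
          ∃ c : K, ∀ v, G.F (A.mulVec v) = c * G.F v := by
  obtain ⟨G, h1, h2, -⟩ := exists_cubic f hf
  refine ⟨G, h1, fun v hv hFv => ?_, fun A => ?_⟩
  · obtain ⟨i, hi⟩ := hsm v hv (by rw [h1, hFv])
    refine ⟨Pi.single i 1, fun h => hi ?_⟩
    rw [h2, h, mul_zero]
  · exact exists_congr fun c => (substitution_eq_iff f f c A).trans (forall_congr' fun v => by rw [h1, h1])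

theorem isInvol_iff {f : MvPolynomial (Fin 4) K} {G : Cubic K (Fin 4 → K)}
    (hG : ∀ A : Matrix (Fin 4) (Fin 4) K,
      (∃ c : K, aeval (fun i : Fin 4 => ∑ j : Fin 4, C (A i j) * X j) f = C c * f) ↔
          ∃ c : K, ∀ v, G.F (A.mulVec v) = c * G.F v)
    (e : Fin 4 → K) (A : Matrix (Fin 4) (Fin 4) K) :
    IsInvol G e A ↔ (A * A = 1 ∧ Module.finrank K ↥(LinearMap.ker (Matrix.toLin' A - LinearMap.id)) = 3 ∧
      A.mulVec e = -e ∧ ∃ c : K, aeval (fun i : Fin 4 => ∑ j : Fin 4, C (A i j) * X j) f = C c * f) := by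
  rw [IsInvol, hG A]

end Groth.Agent.CubicLib
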