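import Mathlib
import Groth.Agent.CubicLib.Bridge

/-! A linear Pfaffian representation from five points in general position. -/

namespace Groth.Agent.CubicLib

open MvPolynomial

universe u

/-- The skew matrix of the five standard points bordered by five linear forms. -/
def bordered {R : Type*} [CommRing R] (x : Fin 4 → R) (l : Fin 5 → R) : Matrix (Fin 6) (Fin 6) R :=
  !![0, 0, x 2 - x 3, x 3 - x 0, 0, l 0;
     0, 0, x 3, x 0 - x 3, -x 1, l 1;
     -(x 2 - x 3), -x 3, 0, x 0, 0, l 2;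
     -(x 3 - x 0), -(x 0 - x 3), -x 0, 0, x 0, l 3;
     0, x 1, 0, -x 0, 0, l 4;
     -l 0, -l 1, -l 2, -l 3, -l 4, 0]

set_option maxHeartbeats 400000 in
theorem det_bordered {R : Type*} [CommRing R] (x : Fin 4 → R) (l : Fin 5 → R) :
    (bordered x l).det = (l 0 * (x 0 * (x 1 - x 3)) + l 1 * (x 0 * (x 2 - x 3)) + l 2 * (x 1 * (x 0 - x 3)) +
      l 3 * (x 1 * (x 2 - x 3)) + l 4 * (x 2 * (x 0 - x 3))) ^ 2 := by
  simp [bordered, Matrix.det_succ_row_zero, Fin.sum_univ_succ, Fin.succAbove]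
  ring

theorem bordered_entry {R : Type*} [CommRing R] (P : R → Prop) (h0 : P 0) (hn : ∀ r, P r → P (-r))
    (hs : ∀ r s, P r → P s → P (r - s)) (x : Fin 4 → R) (hx : ∀ i, P (x i)) (l : Fin 5 → R)
    (hl : ∀ i, P (l i)) (i j : Fin 6) : P (bordered x l i j) := by
  fin_cases i <;> fin_cases j <;> simp only [bordered] <;>
    first
      | exact h0
      | exact hx _
      | exact hl _
      | exact hs _ _ (hx _) (hx _)
      | exact hn _ (hx _)
      | exact hn _ (hl _)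
      | exact hn _ (hs _ _ (hx _) (hx _))

theorem bordered_alternating {R : Type*} [CommRing R] (x : Fin 4 → R) (l : Fin 5 → R) :
    (bordered x l).transpose = -bordered x l ∧ ∀ i, bordered x l i i = 0 := by
  refine ⟨?_, fun i => ?_⟩
  · ext i j
    fin_cases i <;> fin_cases j <;> simp [bordered]
  · fin_cases i <;> simp [bordered]

set_option maxHeartbeats 1600000 in
theorem exists_pfaffian {k : Type u} [Field k] [CharZero k] {f : MvPolynomial (Fin 4) k} (hf : f.IsHomogeneous 3)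
    (p : Fin 5 → Fin 4 → k) (hp : ∀ j, eval (p j) f = 0)
    (hli : ∀ j : Fin 5, LinearIndependent k (fun i : Fin 4 => p (j.succAbove i))) :
    ∃ M : Matrix (Fin 6) (Fin 6) (MvPolynomial (Fin 4) k), (∀ i j, (M i j).IsHomogeneous 1) ∧
      M.transpose = -M ∧ (∀ i, M i i = 0) ∧ ∃ c : k, c ≠ 0 ∧ M.det = C c * f ^ 2 := by
  classical
  obtain ⟨G, hG, -, -⟩ := exists_cubic f hf
  have h4 : LinearIndependent k (fun i : Fin 4 => p i.castSucc) := by
    convert hli (Fin.last 4) using 1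
    funext i
    rw [Fin.succAbove_last]
  let e := basisOfLinearIndependentOfCardEqFinrank h4 (by simp)
  have he : ∀ i, e i = p i.castSucc := fun i => by simp [e]
  have hc0 : ∀ i, e.repr (p 4) i ≠ 0 := fun i h0 => by
    have hz := Fintype.linearIndependent_iff.1 (hli i.castSucc)
    have hsum := e.sum_repr (p 4)
    simp only [he, Fin.sum_univ_four] at hsum
    fin_cases i <;>
      simp only [Fin.zero_eta, Fin.mk_one, Fin.reduceFinMk] at h0 hz <;>
      rw [h0] at hsum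
    · have := hz ![e.repr (p 4) 1, e.repr (p 4) 2, e.repr (p 4) 3, -1] (by
        rw [Fin.sum_univ_four]; simp [Fin.succAbove] at hsum ⊢; linear_combination (norm := module) hsum) 3
      simp at this
    · have := hz ![e.repr (p 4) 0, e.repr (p 4) 2, e.repr (p 4) 3, -1] (by
        rw [Fin.sum_univ_four]; simp [Fin.succAbove] at hsum ⊢; linear_combination (norm := module) hsum) 3
      simp at this
    · have := hz ![e.repr (p 4) 0, e.repr (p 4) 1, e.repr (p 4) 3, -1] (by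
        rw [Fin.sum_univ_four]; simp [Fin.succAbove] at hsum ⊢; linear_combination (norm := module) hsum) 3
      simp at this
    · have := hz ![e.repr (p 4) 0, e.repr (p 4) 1, e.repr (p 4) 2, -1] (by
        rw [Fin.sum_univ_four]; simp [Fin.succAbove] at hsum ⊢; linear_combination (norm := module) hsum) 3
      simp at this
  let b := e.unitsSMul fun i => Units.mk0 _ (hc0 i)
  have hb : ∀ i, b i = e.repr (p 4) i • p i.castSucc := fun i => by simp [b, he, Units.smul_def, Module.Basis.unitsSMul_apply]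
  have hFb : ∀ i, G.F (b i) = 0 := fun i => by rw [hb, G.F_smul, ← hG, hp, mul_zero]
  have hFs : G.F ((1 : k) • b 0 + (1 : k) • b 1 + (1 : k) • b 2 + (1 : k) • b 3) = 0 := by
    have : b 0 + b 1 + b 2 + b 3 = p 4 := by
      conv_rhs => rw [← e.sum_repr (p 4), Fin.sum_univ_four]
      simp only [hb, he]
    simp only [one_smul]
    rw [this, ← hG, hp]
  let y : Fin 4 → MvPolynomial (Fin 4) k := fun i => ∑ j, C (b.repr (Pi.single j 1) i) * X j
  let lam : Fin 5 → MvPolynomial (Fin 4) k :=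
    ![0 - C (3 * G.T (b 2) (b 3) (b 3)) * y 2 - C (3 * G.T (b 2) (b 2) (b 3)) * y 2 + C (3 * G.T (b 1) (b 1) (b 3)) * y 1 + C (3 * G.T (b 1) (b 1) (b 2)) * y 1 - C (3 * G.T (b 0) (b 3) (b 3)) * y 3 - C (6 * G.T (b 0) (b 2) (b 3)) * y 2 - C (3 * G.T (b 0) (b 2) (b 2)) * y 2 + C (3 * G.T (b 0) (b 1) (b 1)) * y 1 - C (3 * G.T (b 0) (b 0) (b 3)) * y 0 - C (3 * G.T (b 0) (b 0) (b 2)) * y 0,
      0 + C (3 * G.T (b 2) (b 2) (b 3)) * y 2 - C (3 * G.T (b 1) (b 3) (b 3)) * y 1 - C (3 * G.T (b 1) (b 1) (b 3)) * y 1 - C (3 * G.T (b 1) (b 1) (b 2)) * y 1 - C (3 * G.T (b 0) (b 3) (b 3)) * y 1 + C (3 * G.T (b 0) (b 2) (b 2)) * y 2 - C (6 * G.T (b 0) (b 1) (b 3)) * y 1 - C (3 * G.T (b 0) (b 1) (b 1)) * y 1 - C (3 * G.T (b 0) (b 0) (b 3)) * y 1 + C (3 * G.T (b 0) (b 0) (b 2)) * y 0 - C (3 * G.T (b 0) (b 0) (b 2)) * y 1 - C (3 * G.T (b 0) (b 0) (b 1)) * y 1,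
      0 + C (3 * G.T (b 2) (b 3) (b 3)) * y 2 + C (3 * G.T (b 2) (b 2) (b 3)) * y 2 + C (3 * G.T (b 1) (b 3) (b 3)) * y 2 - C (3 * G.T (b 1) (b 3) (b 3)) * y 3 - C (3 * G.T (b 1) (b 1) (b 3)) * y 1 + C (3 * G.T (b 1) (b 1) (b 3)) * y 2 - C (3 * G.T (b 1) (b 1) (b 2)) * y 1 + C (3 * G.T (b 1) (b 1) (b 2)) * y 2 + C (3 * G.T (b 0) (b 3) (b 3)) * y 2 + C (6 * G.T (b 0) (b 2) (b 3)) * y 2 + C (3 * G.T (b 0) (b 2) (b 2)) * y 2 + C (6 * G.T (b 0) (b 1) (b 3)) * y 2 + C (6 * G.T (b 0) (b 1) (b 2)) * y 2 + C (3 * G.T (b 0) (b 1) (b 1)) * y 2 + C (3 * G.T (b 0) (b 0) (b 3)) * y 0 + C (3 * G.T (b 0) (b 0) (b 3)) * y 2 + C (3 * G.T (b 0) (b 0) (b 2)) * y 0 + C (3 * G.T (b 0) (b 0) (b 2)) * y 2 + C (3 * G.T (b 0) (b 0) (b 1)) * y 0 + C (3 * G.T (b 0) (b 0) (b 1)) * y 2,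
      0 + C (3 * G.T (b 1) (b 2) (b 2)) * y 2 + C (3 * G.T (b 1) (b 1) (b 2)) * y 1,
      0 - C (3 * G.T (b 2) (b 3) (b 3)) * y 3 - C (3 * G.T (b 2) (b 2) (b 3)) * y 2]
  have hy : ∀ i, (y i).IsHomogeneous 1 := fun i => IsHomogeneous.sum _ _ _ fun j _ => (isHomogeneous_X k j).C_mul _
  have hlam : ∀ m, (lam m).IsHomogeneous 1 := fun m => by
    fin_cases m <;>
      repeat' (first
        | exact isHomogeneous_zero _ _ _
        | exact (hy _).C_mul _
        | apply IsHomogeneous.add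
        | apply IsHomogeneous.sub)
  refine ⟨bordered y lam, fun i j => bordered_entry (fun r => r.IsHomogeneous 1) (isHomogeneous_zero _ _ _)
    (fun r h => h.neg) (fun r r' h h' => h.sub h') y hy lam hlam i j, (bordered_alternating y lam).1,
    (bordered_alternating y lam).2, 1, one_ne_zero, ?_⟩
  rw [det_bordered, C_1, one_mul]
  congr 1
  refine MvPolynomial.funext fun v => ?_
  have hyv : ∀ i, eval v (y i) = b.repr v i := fun i => by
    conv_rhs => rw [pi_eq_sum_univ' v, map_sum, Finsupp.finsetSum_apply]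
    simp [y, mul_comm]
  have hv := b.sum_repr v
  rw [Fin.sum_univ_four] at hv
  conv_rhs => rw [hG, ← hv]
  rw [G.F_add_smul _ (b 3), G.F_comb₃] at hFs
  rw [G.F_add_smul _ (b 3) (b.repr v 3), G.F_comb₃]
  simp only [map_add, map_smul, LinearMap.add_apply, LinearMap.smul_apply, smul_eq_mul, hFb] at hFs ⊢
  simp only [G.symm₁₂ (b 1) (b 0), G.symm₁₂ (b 2) (b 0), G.symm₁₂ (b 2) (b 1)] at hFs ⊢
  simp [lam, hyv]
  linear_combination -(b.repr v 1 * b.repr v 2 * b.repr v 3) * hFs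

end Groth.Agent.CubicLib
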