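import Groth.Agent.CubicLib.Exists
import Groth.Agent.CubicLib.Pfaffian

/-! Five points over an extension of degree at most three. -/

namespace Groth.Agent.CubicLib

open Module MvPolynomial

universe u v w

variable {k : Type u} [Field k]

/-- A subspace stable under all automorphisms has a rational vector. -/
theorem exists_rational_vector {K : Type w} [Field K] [Algebra k K] [IsGalois k K] {n : Type*} [Fintype n]
    (U : Submodule K (n → K)) (hU : U ≠ ⊥)
    (hstab : ∀ σ : K ≃ₐ[k] K, ∀ x ∈ U, (fun i => σ (x i)) ∈ U) :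
    ∃ a : n → k, a ≠ 0 ∧ (fun i => algebraMap k K (a i)) ∈ U := by
  classical
  have hex : ∃ m : ℕ, ∃ v ∈ U, v ≠ 0 ∧ (Finset.univ.filter fun i => v i ≠ 0).card = m := by
    obtain ⟨v, hv, hv0⟩ := (Submodule.ne_bot_iff U).1 hU
    exact ⟨_, v, hv, hv0, rfl⟩
  obtain ⟨v, hv, hv0, hcard⟩ := Nat.find_spec hex
  obtain ⟨i, hi⟩ := Function.ne_iff.1 hv0
  simp only [Pi.zero_apply] at hi
  set w := (v i)⁻¹ • v with hw
  have hwi : w i = 1 := by simp [hw, hi]
  have hfix : ∀ σ : K ≃ₐ[k] K, ∀ j, σ (w j) = w j := fun σ j => by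
    have hd : (fun j => σ (w j)) - w ∈ U := sub_mem (hstab σ w (U.smul_mem _ hv)) (U.smul_mem _ hv)
    by_contra hj
    have hlt : (Finset.univ.filter fun l => ((fun j => σ (w j)) - w) l ≠ 0).card <
        (Finset.univ.filter fun l => v l ≠ 0).card := by
      refine Finset.card_lt_card (Finset.ssubset_iff_of_subset (fun l hl => ?_) |>.2 ⟨i, by simp [hi], by simp [hwi]⟩)
      simp only [Finset.mem_filter, Finset.mem_univ, true_and, Pi.sub_apply] at hl ⊢
      intro h
      exact hl (by simp [hw, h])
    rw [hcard] at hlt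
    exact Nat.find_min hex hlt ⟨_, hd, fun h => hj (sub_eq_zero.1 (congrFun h j)), rfl⟩
  choose a ha using fun j => (InfiniteGalois.mem_range_algebraMap_iff_fixed (k := k) (w j)).2 fun σ => hfix σ j
  refine ⟨a, fun h => ?_, ?_⟩
  · have := ha i
    rw [h, Pi.zero_apply, map_zero, hwi] at this
    exact zero_ne_one this
  · rw [funext ha]; exact U.smul_mem _ hv

/-- A polynomial function which vanishes at all rational vectors is zero. -/
theorem eq_zero_of_rational [Infinite k] {K : Type w} [Field K] [Algebra k K] {g : (Fin 4 → K) → K}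
    (hg : PolyFun K g) (h : ∀ u : Fin 4 → k, g (ext u) = 0) : ∀ w, g w = 0 := by
  classical
  suffices ∀ s : Finset (Fin 4), ∀ w : Fin 4 → K, (∀ i ∉ s, w i ∈ Set.range (algebraMap k K)) → g w = 0 from
    fun w => this Finset.univ w fun i hi => absurd (Finset.mem_univ i) hi
  intro s
  induction s using Finset.induction_on with
  | empty =>
    intro w hw
    choose u hu using fun i => hw i (Finset.notMem_empty i)
    rw [← h u]; exact congrArg g (funext fun i => (hu i).symm)
  | insert i s his ih =>
    intro w hw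
    obtain ⟨p, hp⟩ := hg w (Pi.single i 1)
    have hp0 : p = 0 := by
      refine Polynomial.eq_zero_of_infinite_isRoot p (Set.Infinite.mono
        (s := Set.range fun t : k => algebraMap k K t - w i) ?_ (Set.infinite_range_of_injective
          fun a b hab => (algebraMap k K).injective (sub_left_inj.1 hab)))
      rintro _ ⟨t, rfl⟩
      show p.eval _ = 0
      rw [hp]
      refine ih _ fun j hj => ?_
      rcases eq_or_ne j i with rfl | hji
      · exact ⟨t, by simp⟩
      · simpa [Pi.single_eq_of_ne hji] using hw j (by simp [hji, hj])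
    have := hp 0
    rwa [hp0, Polynomial.eval_zero, zero_smul, add_zero, eq_comm] at this

variable [CharZero k]

theorem li_ext {E : Type w} [Field E] [Algebra k E] {b : Fin 4 → Fin 4 → k} (h : LinearIndependent k b) :
    LinearIndependent E (fun i => (ext (b i) : Fin 4 → E)) := by
  have hu : IsUnit (Matrix.of b) := Matrix.linearIndependent_rows_iff_isUnit.1 h
  have := hu.map (algebraMap k E).mapMatrix
  exact Matrix.linearIndependent_rows_iff_isUnit.2 this

/-- A line in space all of whose points on the surface give five points over their field. -/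
theorem exists_line_five_points {f : MvPolynomial (Fin 4) k} (hf : f.IsHomogeneous 3)
    (hirr : Irreducible (map (algebraMap k (AlgebraicClosure k)) f))
    (hcone : ¬ ∃ v : Fin 4 → k, v ≠ 0 ∧ ∑ i : Fin 4, v i • pderiv i f = 0) :
    ∃ u m : Fin 4 → k, eval m f ≠ 0 ∧ ∀ (E : Type v) [Field E] [Algebra k E] [Algebra.IsAlgebraic k E] (θ : E),
      eval ((ext u : Fin 4 → E) + θ • ext m) (map (algebraMap k E) f) = 0 →
      ∃ p : Fin 5 → (Fin 4 → E), (∀ j, eval (p j) (map (algebraMap k E) f) = 0) ∧
        ∀ j : Fin 5, LinearIndependent E (fun i : Fin 4 => p (j.succAbove i)) := by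
  classical
  let K := AlgebraicClosure k
  obtain ⟨G₀, hG₀, hd₀, -⟩ := exists_cubic f hf
  obtain ⟨G, hG, hd, -⟩ := exists_cubic (map (algebraMap k K) f) (hf.map _)
  have hirrG : G.Irred := irred_of_map (k := K) (K := K) (by rw [Algebra.algebraMap_self, MvPolynomial.map_id]; exact hirr) hG
  have hirr₀ : G₀.Irred := irred_of_map hirr hG₀
  have hcone' : ∀ a : Fin 4 → K, a ≠ 0 → G.T a ≠ 0 := by
    -- the kernel of a rational matrix
    let L : (Fin 4 → k) →ₗ[k] (Fin 4 → Fin 4 → k) :=
      LinearMap.pi fun j => LinearMap.pi fun l => (G₀.T.flip (Pi.single j 1)).flip (Pi.single l 1)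
    have hL : LinearMap.ker L = ⊥ := LinearMap.ker_eq_bot'.2 fun a ha => by
      by_contra ha0
      obtain ⟨x, y, hxy⟩ := exists_T_ne_zero hd₀ hcone ha0
      refine hxy ?_
      have hz : ∀ j l, G₀.T a (Pi.single j 1) (Pi.single l 1) = 0 := fun j l => congrFun (congrFun ha j) l
      rw [pi_eq_sum_univ' x, pi_eq_sum_univ' y]
      simp [map_sum, hz]
    obtain ⟨R, hR⟩ := L.exists_leftInverse_of_injective hL
    intro a ha h0
    refine ha (funext fun i => ?_)
    have hTa : ∀ j l : Fin 4, ∑ p, a p * algebraMap k K (G₀.T (Pi.single p 1) (Pi.single j 1) (Pi.single l 1)) = 0 :=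
      fun j l => by
      have e : ∀ j : Fin 4, (Pi.single j 1 : Fin 4 → K) = ext (Pi.single j (1 : k)) := fun j => by
        funext q; simp [ext, Pi.single_apply, apply_ite (algebraMap k K)]
      have := congrArg (fun T => T (Pi.single j 1) (Pi.single l 1)) h0
      rw [pi_eq_sum_univ' a] at this
      simpa [map_sum, e, T_ext hG₀ hG] using this
    have hR' : ∀ p, ∑ j, ∑ l, R (Pi.single j (Pi.single l 1)) i *
        G₀.T (Pi.single p 1) (Pi.single j 1) (Pi.single l 1) = (Pi.single p (1 : k) : Fin 4 → k) i := fun p => by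
      have e := congrFun (LinearMap.congr_fun hR (Pi.single p 1)) i
      rw [LinearMap.id_apply] at e
      rw [← e, LinearMap.comp_apply]
      have hdec : L (Pi.single p 1) = ∑ j, ∑ l, G₀.T (Pi.single p 1) (Pi.single j 1) (Pi.single l 1) •
          (Pi.single j (Pi.single l 1) : Fin 4 → Fin 4 → k) := by
        funext j l
        simp [L, Finset.sum_apply, Pi.single_apply, apply_ite, ite_apply]
      rw [hdec]
      simp only [map_sum, map_smul, Finset.sum_apply, Pi.smul_apply, smul_eq_mul]
      exact Finset.sum_congr rfl fun j _ => Finset.sum_congr rfl fun l _ => mul_comm _ _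
    calc a i = ∑ p, a p * algebraMap k K ((Pi.single p (1 : k) : Fin 4 → k) i) := by
          simp [Pi.single_apply, apply_ite (algebraMap k K)]
      _ = ∑ j, ∑ l, algebraMap k K (R (Pi.single j (Pi.single l 1)) i) *
          ∑ p, a p * algebraMap k K (G₀.T (Pi.single p 1) (Pi.single j 1) (Pi.single l 1)) := by
          simp only [← hR', map_sum, map_mul, Finset.mul_sum]
          rw [Finset.sum_comm]
          refine Finset.sum_congr rfl fun j _ => ?_
          rw [Finset.sum_comm]
          exact Finset.sum_congr rfl fun l _ => Finset.sum_congr rfl fun p _ => by ring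
      _ = 0 := by simp [hTa]
  by_cases hscroll : ∃ U : Submodule K (Fin 4 → K), finrank K U = 2 ∧ ∀ x ∈ U, ∀ w, G.T x x w = 0
  · -- the line of singular points is rational
    obtain ⟨U, hU, hsing⟩ := hscroll
    have hsingI : ∀ x : Fin 4 → K, (∀ w, G.T x x w = 0) ↔ ∀ i, eval x (pderiv i (map (algebraMap k K) f)) = 0 := by
      intro x
      simp only [hd, mul_eq_zero, OfNat.ofNat_ne_zero, false_or]
      refine ⟨fun h i => h _, fun h w => ?_⟩
      rw [pi_eq_sum_univ' w]
      simp [map_sum, h]
    have hstab : ∀ σ : K ≃ₐ[k] K, ∀ x ∈ U, (fun i => σ (x i)) ∈ U := fun σ x hx => by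
      refine mem_singular_line hirrG hU hsing ((hsingI _).2 fun i => ?_)
      have h0 := (hsingI x).1 (hsing x hx) i
      rw [pderiv_map, eval_map, ← aeval_def] at h0 ⊢
      have := congrArg σ h0
      rw [map_zero] at this
      rw [← this]
      exact (DFunLike.congr_fun (comp_aeval x (σ : K →ₐ[k] K)) (pderiv i f)).symm
    obtain ⟨a, ha, haU⟩ := exists_rational_vector U (fun h => by rw [h, finrank_bot] at hU; omega) hstab
    have hsa : ∀ w, G₀.T a a w = 0 := fun w => (algebraMap k K).injective (by
      rw [← T_ext hG₀ hG, map_zero]; exact hsing _ haU _)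
    obtain ⟨p, -, hp, hli⟩ := exists_five_points
      (hasFamily_singular G₀ hirr₀ hsa (exists_T_ne_zero hd₀ hcone ha)) ha (hsa a)
    obtain ⟨m, hm⟩ : ∃ m, G₀.F m ≠ 0 := by
      by_contra! h
      exact hirr₀ 0 0 fun v => by simp [h v]
    refine ⟨0, m, by rw [hG₀]; exact hm, fun E _ _ _ θ _ => ⟨fun j => ext (p j), fun j => ?_, fun j => li_ext (hli j)⟩⟩
    rw [eval_ext, hG₀, hp, map_zero]
  simp only [not_exists, not_and, not_forall] at hscroll
  obtain ⟨W₀, hW₀, hfin, hsm⟩ := finite_lines_of_no_singular_line hirrG hcone' fun U hU => by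
    obtain ⟨x, hx, w, hw⟩ := hscroll U hU
    exact ⟨x, hx, w, hw⟩
  -- forms vanishing on the bad subspaces
  set 𝒲' := insert ⊥ (insert W₀ hfin.toFinset) with h𝒲
  have h2' : ∀ W ∈ 𝒲', finrank K W ≤ 2 := fun W hW => by
    rcases Finset.mem_insert.1 hW with rfl | h
    · simp
    rcases Finset.mem_insert.1 h with rfl | h
    · exact hW₀
    · exact ((hfin.mem_toFinset.1 h) : IsLine G W).1.le
  have hl : ∀ W : {W // W ∈ 𝒲'}, ∃ l : (Fin 4 → K) →ₗ[K] K, l ≠ 0 ∧ W.1 ≤ LinearMap.ker l := fun W =>
    Submodule.exists_le_ker_of_lt_top _ (lt_top_iff_ne_top.2 fun h => by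
      have := h2' _ W.2
      rw [h, finrank_top, Module.finrank_fin_fun] at this
      omega)
  choose l hl0 hle using hl
  obtain ⟨m, hm⟩ : ∃ m, G₀.F m ≠ 0 := by
    by_contra! h
    exact hirr₀ 0 0 fun v => by simp [h v]
  have hFm : G.F (ext m) ≠ 0 := by
    rw [← hG, eval_ext, hG₀]
    exact (map_ne_zero _).2 hm
  have hid : PolyVec K (fun v : Fin 4 → K => v) := fun i =>
    PolyFun.linear (LinearMap.proj (R := K) (φ := fun _ : Fin 4 => K) i)
  let g : {W // W ∈ 𝒲'} → (Fin 4 → K) → K := fun W u =>
    if l W (ext m) = 0 then l W u else G.F (l W (ext m) • u - l W u • ext m)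
  have hgp : ∀ W, PolyFun K (g W) := fun W => by
    by_cases h : l W (ext m) = 0
    · simp only [g, if_pos h]; exact PolyFun.linear (l W)
    · simp only [g, if_neg h]
      have hv : PolyVec K (fun u : Fin 4 → K => l W (ext m) • u - l W u • ext m) :=
        PolyVec.sub (PolyVec.smul (PolyFun.const _) hid) (PolyVec.smul (PolyFun.linear (l W)) (PolyVec.const _))
      exact PolyFun.trilin G hv hv hv
  obtain ⟨u₁, hu₁⟩ := exists_common (Finset.univ : Finset {W // W ∈ 𝒲'}) (f := g) (fun W _ => hgp W) (fun W _ => by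
    by_cases h : l W (ext m) = 0
    · simp only [g, if_pos h]
      by_contra! h'
      exact hl0 W (LinearMap.ext h')
    · simp only [g, if_neg h]
      have hker : finrank K (LinearMap.ker (l W)) = 3 := by
        have h1 := LinearMap.finrank_range_add_finrank_ker (l W)
        rw [LinearMap.range_eq_top.2 (LinearMap.surjective (hl0 W)), finrank_top, Module.finrank_self,
          Module.finrank_fin_fun] at h1
        omega
      obtain ⟨x, hx, hFx⟩ := no_hyperplane hirrG _ hker
      refine ⟨x, ?_⟩
      rw [LinearMap.mem_ker] at hx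
      rw [hx, zero_smul, sub_zero, G.F_smul]
      exact mul_ne_zero (pow_ne_zero _ h) hFx)
  obtain ⟨u, hu⟩ : ∃ u : Fin 4 → k, ∀ W, g W (ext u) ≠ 0 := by
    by_contra! h
    have hz := eq_zero_of_rational (PolyFun.prod Finset.univ fun W _ => hgp W)
      (fun u => by obtain ⟨W, hW⟩ := h u; exact Finset.prod_eq_zero (Finset.mem_univ W) hW) u₁
    obtain ⟨W, -, hW⟩ := Finset.prod_eq_zero_iff.1 hz
    exact hu₁ W (Finset.mem_univ W) hW
  refine ⟨u, m, by rw [hG₀]; exact hm, fun E _ _ _ θ hθ => ?_⟩
  -- embed the field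
  let φ : E →ₐ[k] K := IsAlgClosed.lift
  let _ : Algebra E K := φ.toRingHom.toAlgebra
  have : CharZero E := charZero_of_injective_algebraMap (algebraMap k E).injective
  have hφ : (algebraMap E K).comp (algebraMap k E) = algebraMap k K := φ.comp_algebraMap
  have hmap : map (algebraMap E K) (map (algebraMap k E) f) = map (algebraMap k K) f := by rw [map_map, hφ]
  obtain ⟨GE, hGE, hdE, -⟩ := exists_cubic (map (algebraMap k E) f) (hf.map _)
  have hirrE : GE.Irred := irred_of_map (k := E) (K := K) (by rw [hmap]; exact hirr) hGE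
  set a : Fin 4 → E := ext u + θ • ext m with ha_def
  set q : Fin 4 → K := ext a
  have hq : q = ext u + φ θ • ext m := by
    funext i
    show φ (a i) = _
    simp [ha_def, ext]
  have hFq : G.F q = 0 := by
    rw [← hG, ← hmap, eval_ext, hθ, map_zero]
  have key : ∀ W : {W // W ∈ 𝒲'}, q ∉ W.1 := fun W hW => by
    have h0 : l W q = 0 := hle W hW
    have hgu := hu W
    rw [hq] at h0 hFq
    simp only [map_add, map_smul, smul_eq_mul] at h0
    by_cases h : l W (ext m) = 0
    · simp only [g, if_pos h] at hgu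
      exact hgu (by linear_combination h0 - φ θ * h)
    · simp only [g, if_neg h] at hgu
      refine hgu ?_
      rw [show l W (ext m) • (ext u : Fin 4 → K) - l W (ext u) • ext m = l W (ext m) • (ext u + φ θ • ext m) by
        rw [show l W (ext u) = -(φ θ * l W (ext m)) by linear_combination h0]; module, G.F_smul, hFq, mul_zero]
  have hq0 : q ≠ 0 := fun h => key ⟨⊥, Finset.mem_insert_self _ _⟩ (by simp [h])
  have hqL : ∀ U, IsLine G U → q ∉ U := fun U hU => key ⟨U, Finset.mem_insert_of_mem
    (Finset.mem_insert_of_mem (hfin.mem_toFinset.2 hU))⟩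
  obtain ⟨w, hw⟩ := hsm q hq0 hFq (key ⟨W₀, Finset.mem_insert_of_mem (Finset.mem_insert_self _ _)⟩) hqL
  have ha : a ≠ 0 := fun h => hq0 (by funext i; simp [q, ext, h])
  have hFa : GE.F a = 0 := by rw [← hGE, hθ]
  have hsmE : ∃ e, GE.T a a e ≠ 0 := by
    by_contra! h
    refine hw ?_
    rw [pi_eq_sum_univ' w, map_sum]
    refine Finset.sum_eq_zero fun i _ => ?_
    have e : (Pi.single i 1 : Fin 4 → K) = ext (Pi.single i (1 : E)) := by
      funext j; simp [ext, Pi.single_apply, apply_ite (algebraMap E K)]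
    rw [map_smul, e, T_ext hGE (G' := G) (fun v => by rw [hmap]; exact hG v), h, map_zero, smul_zero]
  rcases nice_or_product (K := K) hGE (hf.map _) hdE ha hFa hsmE with ⟨w₁, w₂, N⟩ | ⟨L₁, L₂, L₃, h₁, h₂, h₃, hmem⟩
  · obtain ⟨p, -, hp, hli⟩ := exists_five_points (hasFamily_of_nice hirrE N) ha hFa
    exact ⟨p, fun j => by rw [hGE]; exact hp j, hli⟩
  · refine (false_of_product hG hd hq0 hFq hqL h₁ h₂ h₃ ?_).elim
    rw [hmap] at hmem
    convert hmem using 5 with i
    rw [← hmap, pderiv_map, eval_ext]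

end Groth.Agent.CubicLib
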