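import Groth.Agent.CubicLib.Degree

/-! Pfaffian representations over extensions of degree at most three. -/

namespace Groth.Agent.CubicLib

open MvPolynomial

universe u v

theorem exists_pfaffian_degree_le_three {k : Type u} [Field k] [CharZero k] (L : Type v) [Field L] [Algebra k L]
    (hroot : ∀ P : Polynomial L, P.natDegree = 3 → ∃ x, P.eval x = 0)
    {f : MvPolynomial (Fin 4) k} (hf : f.IsHomogeneous 3)
    (hirr : Irreducible (map (algebraMap k (AlgebraicClosure k)) f))
    (hcone : ¬ ∃ v : Fin 4 → k, v ≠ 0 ∧ ∑ i : Fin 4, v i • pderiv i f = 0) :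
    ∃ E : IntermediateField k L, FiniteDimensional k ↥E ∧ Module.finrank k ↥E ≤ 3 ∧
      ∃ M : Matrix (Fin 6) (Fin 6) (MvPolynomial (Fin 4) ↥E), (∀ i j, (M i j).IsHomogeneous 1) ∧ M.transpose = -M ∧
        (∀ i, M i i = 0) ∧ ∃ c : ↥E, c ≠ 0 ∧ M.det = C c * (map (algebraMap k ↥E) f) ^ 2 := by
  obtain ⟨u, m, hm, hfive⟩ := exists_line_five_points.{u, v} hf hirr hcone
  obtain ⟨G, hG, -, -⟩ := exists_cubic f hf
  rw [hG] at hm
  let P : Polynomial k := Polynomial.C (G.F m) * Polynomial.X ^ 3 + Polynomial.C (3 * G.T u m m) * Polynomial.X ^ 2 +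
    Polynomial.C (3 * G.T u u m) * Polynomial.X + Polynomial.C (G.F u)
  have hdeg : P.natDegree = 3 := Polynomial.natDegree_cubic hm
  have hP0 : P ≠ 0 := fun h => by rw [h, Polynomial.natDegree_zero] at hdeg; omega
  obtain ⟨x, hx⟩ := hroot (P.map (algebraMap k L)) (by
    rw [Polynomial.natDegree_map_eq_of_injective (algebraMap k L).injective, hdeg])
  have hxa : Polynomial.aeval x P = 0 := by rwa [Polynomial.aeval_def, ← Polynomial.eval_map]
  have hint : IsIntegral k x := IsAlgebraic.isIntegral ⟨P, hP0, hxa⟩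
  have := IntermediateField.adjoin.finiteDimensional hint
  let E := IntermediateField.adjoin k {x}
  refine ⟨E, this, ?_, ?_⟩
  · rw [IntermediateField.adjoin.finrank hint, ← hdeg]
    exact Polynomial.natDegree_le_of_dvd (minpoly.dvd k x hxa) hP0
  have : Algebra.IsAlgebraic k E := IntermediateField.isAlgebraic_adjoin_simple hint
  have : CharZero E := charZero_of_injective_algebraMap (algebraMap k E).injective
  obtain ⟨GE, hGE, -, -⟩ := exists_cubic (map (algebraMap k E) f) (hf.map _)
  set θ : E := ⟨x, IntermediateField.mem_adjoin_simple_self k x⟩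
  obtain ⟨p, hp, hli⟩ := hfive E θ (by
    have h0 : Polynomial.aeval θ P = 0 :=
      (algebraMap E L).injective (by rw [map_zero, ← Polynomial.aeval_algebraMap_apply]; exact hxa)
    simp only [P, map_add, map_mul, map_pow, Polynomial.aeval_C, Polynomial.aeval_X] at h0
    rw [hGE, GE.F_add_smul]
    have eu : GE.F (ext u) = algebraMap k E (G.F u) := by rw [← hGE, eval_ext, hG]
    have em : GE.F (ext m) = algebraMap k E (G.F m) := by rw [← hGE, eval_ext, hG]
    rw [eu, em, T_ext hG hGE, T_ext hG hGE]
    simp only [map_ofNat] at h0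
    linear_combination h0)
  exact exists_pfaffian (hf.map _) p hp hli

end Groth.Agent.CubicLib
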