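import Groth.Agent.CubicLib.Form
import Mathlib.LinearAlgebra.FiniteDimensional.Lemmas
import Mathlib.LinearAlgebra.Dual.Lemmas
import Mathlib.FieldTheory.IsAlgClosed.Basic
import Mathlib.Algebra.Polynomial.FieldDivision
import Mathlib.Algebra.Polynomial.SpecificDegree

/-! Eckardt points of smooth cubic surfaces. -/

namespace Groth.Agent.CubicLib

universe u v

variable {K : Type u} [Field K]

namespace Cubic

variable {V : Type v} [AddCommGroup V] [Module K V] (G : Cubic K V)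

/-- no singular points -/
def Smooth : Prop := ∀ v : V, v ≠ 0 → G.F v = 0 → ∃ w, G.T v v w ≠ 0

/-- three distinct lines through `e` -/
def HasThreeLines (e : V) : Prop :=
  ∃ U : Fin 3 → Submodule K V, Function.Injective U ∧
    ∀ i : Fin 3, Module.finrank K ↥(U i) = 2 ∧ e ∈ U i ∧ ∀ u ∈ U i, G.F u = 0

variable {G}

theorem exists_root_quadratic [IsAlgClosed K] (a b c : K) (ha : a ≠ 0) :
    ∃ s : K, a * s ^ 2 + b * s + c = 0 := by
  have hd : (Polynomial.C a * Polynomial.X ^ 2 + Polynomial.C b * Polynomial.X + Polynomial.C c).degree ≠ 0 := by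
    rw [Polynomial.degree_quadratic ha]; decide
  obtain ⟨s, hs⟩ := IsAlgClosed.exists_root _ hd
  exact ⟨s, by simpa [Polynomial.IsRoot] using hs⟩

theorem HasThreeLines.F_eq_zero {e : V} (hE : G.HasThreeLines e) : G.F e = 0 := by
  obtain ⟨U, -, hU⟩ := hE
  exact (hU 0).2.2 e (hU 0).2.1

theorem smul_mem_iff_of_ne {U : Submodule K V} {e : V} {c : K} (hc : c ≠ 0) : c • e ∈ U ↔ e ∈ U :=
  U.smul_mem_iff hc

theorem HasThreeLines.smul {e : V} (hE : G.HasThreeLines e) {c : K} : G.HasThreeLines (c • e) := by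
  obtain ⟨U, hU, h⟩ := hE
  exact ⟨U, hU, fun i => ⟨(h i).1, (U i).smul_mem c (h i).2.1, (h i).2.2⟩⟩

theorem HasThreeLines.map {e : V} (hE : G.HasThreeLines e) (A : V ≃ₗ[K] V)
    (hA : ∀ v, G.F (A v) = G.F v) : G.HasThreeLines (A e) := by
  obtain ⟨U, hU, h⟩ := hE
  refine ⟨fun i => (U i).map A.toLinearMap,
    fun i j hij => hU (Submodule.map_injective_of_injective A.injective hij), fun i => ⟨?_, ?_, ?_⟩⟩
  · rw [← (h i).1]; exact (A.submoduleMap (U i)).finrank_eq.symm
  · exact ⟨e, (h i).2.1, rfl⟩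
  · rintro _ ⟨u, hu, rfl⟩
    rw [LinearEquiv.coe_toLinearMap, hA]
    exact (h i).2.2 u hu

theorem T_e_line [CharZero K] {e w : V} {U : Submodule K V} (he : e ∈ U) (hw : w ∈ U)
    (hU : ∀ u ∈ U, G.F u = 0) : G.T e e w = 0 ∧ G.T e w w = 0 ∧ G.F w = 0 :=
  ⟨G.T_eq_zero_of_F hU he he hw, G.T_eq_zero_of_F hU he hw hw, hU w hw⟩

theorem tangent_ne_zero {e : V} (hsm : G.Smooth) (he : e ≠ 0) (hF : G.F e = 0) : G.T e e ≠ 0 := by
  obtain ⟨w, hw⟩ := hsm e he hF
  intro h
  exact hw (by rw [h]; rfl)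

theorem finrank_ker_tangent [FiniteDimensional K V] {e : V} (hsm : G.Smooth) (he : e ≠ 0)
    (hF : G.F e = 0) : Module.finrank K (LinearMap.ker (G.T e e)) + 1 = Module.finrank K V := by
  have h := LinearMap.finrank_range_add_finrank_ker (G.T e e)
  rw [LinearMap.range_eq_top.2 (LinearMap.surjective (tangent_ne_zero hsm he hF)),
    finrank_top, Module.finrank_self] at h
  omega

theorem exists_other {e : V} {U : Submodule K V} (hU : Module.finrank K U = 2) (heU : e ∈ U)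
    (he : e ≠ 0) : ∃ w ∈ U, w ∉ Submodule.span K {e} ∧ U = Submodule.span K {e, w} := by
  haveI : FiniteDimensional K U := FiniteDimensional.of_finrank_pos (by omega)
  obtain ⟨w, hwU, hw⟩ : ∃ w ∈ U, w ∉ Submodule.span K {e} := by
    by_contra! hcon
    have := Submodule.finrank_mono (show U ≤ Submodule.span K {e} from hcon)
    rw [finrank_span_singleton he] at this
    omega
  refine ⟨w, hwU, hw, (Submodule.eq_of_le_of_finrank_le ?_ ?_).symm⟩
  · exact Submodule.span_le.2 (by rintro x (rfl | rfl) <;> assumption)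
  · haveI : FiniteDimensional K (Submodule.span K ({e, w} : Set V)) :=
      FiniteDimensional.span_of_finite K (Set.toFinite _)
    rw [hU]
    have hlt : Submodule.span K {e} < Submodule.span K {e, w} :=
      lt_of_le_of_ne (Submodule.span_mono (by simp)) fun h =>
        hw (h ▸ Submodule.subset_span (by simp))
    have := Submodule.finrank_lt_finrank_of_lt hlt
    rw [finrank_span_singleton he] at this
    omega

end Cubic

variable {G : Cubic K (Fin 4 → K)}

open Cubic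

/-- coordinates adapted to two lines through `e` -/
theorem exists_coord [CharZero K] (hsm : G.Smooth) {e : Fin 4 → K} (he : e ≠ 0)
    {U₀ U₁ : Submodule K (Fin 4 → K)} (hne : U₀ ≠ U₁)
    (h₀ : Module.finrank K U₀ = 2 ∧ e ∈ U₀ ∧ ∀ u ∈ U₀, G.F u = 0)
    (h₁ : Module.finrank K U₁ = 2 ∧ e ∈ U₁ ∧ ∀ u ∈ U₁, G.F u = 0) :
    ∃ w₀ ∈ U₀, ∃ w₁ ∈ U₁, U₀ = Submodule.span K {e, w₀} ∧ U₁ = Submodule.span K {e, w₁} ∧
      ∀ h, G.T e e h = 0 → ∃ a b c : K, h = a • e + b • w₀ + c • w₁ := by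
  obtain ⟨w₀, hw₀, hw₀', hU₀⟩ := exists_other h₀.1 h₀.2.1 he
  obtain ⟨w₁, hw₁, hw₁', hU₁⟩ := exists_other h₁.1 h₁.2.1 he
  refine ⟨w₀, hw₀, w₁, hw₁, hU₀, hU₁, fun h hh => ?_⟩
  have hw₁U₀ : w₁ ∉ U₀ := fun hmem => by
    have hle : U₁ ≤ U₀ := hU₁ ▸ Submodule.span_le.2 (by rintro x (rfl | rfl) <;> simp [h₀.2.1, hmem])
    exact hne (Submodule.eq_of_le_of_finrank_le hle (by rw [h₀.1, h₁.1])).symm
  let S := U₀ ⊔ Submodule.span K {w₁}
  have hS : S ≤ LinearMap.ker (G.T e e) := by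
    refine sup_le (fun u hu => ?_) ((Submodule.span_singleton_le_iff_mem _ _).2 ?_)
    · exact (T_e_line h₀.2.1 hu h₀.2.2).1
    · exact (T_e_line h₁.2.1 hw₁ h₁.2.2).1
  have hlt : U₀ < S := lt_of_le_of_ne le_sup_left fun h' =>
    hw₁U₀ (h'.symm ▸ Submodule.mem_sup_right (Submodule.mem_span_singleton_self w₁))
  have h3 := Submodule.finrank_lt_finrank_of_lt hlt
  have h4 := finrank_ker_tangent hsm he (h₀.2.2 e h₀.2.1)
  rw [Module.finrank_fin_fun] at h4
  have hSeq : S = LinearMap.ker (G.T e e) :=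
    Submodule.eq_of_le_of_finrank_le hS (by rw [h₀.1] at h3; omega)
  have hmem : h ∈ S := hSeq ▸ hh
  obtain ⟨y, hy, z, hz, rfl⟩ := Submodule.mem_sup.1 hmem
  rw [hU₀, Submodule.mem_span_pair] at hy
  obtain ⟨a, b, rfl⟩ := hy
  obtain ⟨c, rfl⟩ := Submodule.mem_span_singleton.1 hz
  exact ⟨a, b, c, rfl⟩

/-- three lines through `e`: the quadratic part vanishes on the tangent plane -/
theorem quad_zero [CharZero K] (hsm : G.Smooth) {e : Fin 4 → K} (he : e ≠ 0) (hE : G.HasThreeLines e)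
    {h h' : Fin 4 → K} (hh : G.T e e h = 0) (hh' : G.T e e h' = 0) : G.T e h h' = 0 := by
  obtain ⟨U, hU, hU'⟩ := hE
  obtain ⟨w₀, hw₀, w₁, hw₁, hU₀, hU₁, hcoord⟩ :=
    exists_coord hsm he (fun h => absurd (hU h) (by decide)) (hU' 0) (hU' 1)
  obtain ⟨w₂, hw₂, hw₂', hU₂⟩ := exists_other (hU' 2).1 (hU' 2).2.1 he
  have e0 := T_e_line (hU' 0).2.1 hw₀ (hU' 0).2.2
  have e1 := T_e_line (hU' 1).2.1 hw₁ (hU' 1).2.2
  have e2 := T_e_line (hU' 2).2.1 hw₂ (hU' 2).2.2
  have ee : G.T e e e = 0 := (hU' 0).2.2 e (hU' 0).2.1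
  obtain ⟨α, β, γ, hw⟩ := hcoord w₂ e2.1
  have hβ : β ≠ 0 := fun h0 => by
    have hmem : w₂ ∈ U 1 := by
      rw [hw, hU₁, Submodule.mem_span_pair]
      exact ⟨α, γ, by rw [h0, zero_smul, add_zero]⟩
    have hle : U 2 ≤ U 1 := hU₂ ▸ Submodule.span_le.2 (by rintro x (rfl | rfl) <;> simp [(hU' 1).2.1, hmem])
    exact absurd (hU (Submodule.eq_of_le_of_finrank_le hle (by rw [(hU' 1).1, (hU' 2).1]))) (by decide)
  have hγ : γ ≠ 0 := fun h0 => by
    have hmem : w₂ ∈ U 0 := by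
      rw [hw, hU₀, Submodule.mem_span_pair]
      exact ⟨α, β, by rw [h0, zero_smul, add_zero]⟩
    have hle : U 2 ≤ U 0 := hU₂ ▸ Submodule.span_le.2 (by rintro x (rfl | rfl) <;> simp [(hU' 0).2.1, hmem])
    exact absurd (hU (Submodule.eq_of_le_of_finrank_le hle (by rw [(hU' 0).1, (hU' 2).1]))) (by decide)
  have h01 : G.T e w₀ w₁ = 0 := by
    have h2 := e2.2.1
    rw [hw] at h2
    simp only [map_add, map_smul, LinearMap.add_apply, LinearMap.smul_apply, smul_eq_mul, e0.1, e0.2.1,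
      e1.1, e1.2.1, ee, G.symm₂₃ e w₀ e, G.symm₂₃ e w₁ e, G.symm₂₃ e w₁ w₀] at h2
    have : (2 * β * γ) * G.T e w₀ w₁ = 0 := by linear_combination h2
    simpa [hβ, hγ] using this
  obtain ⟨a, b, c, rfl⟩ := hcoord h hh
  obtain ⟨a', b', c', rfl⟩ := hcoord h' hh'
  simp only [map_add, map_smul, LinearMap.add_apply, LinearMap.smul_apply, smul_eq_mul, e0.1, e0.2.1,
    e1.1, e1.2.1, ee, h01, G.symm₂₃ e w₀ e, G.symm₂₃ e w₁ e, G.symm₂₃ e w₁ w₀]
  ring

/-- the reflection attached to a point and a functional -/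
def reflFun (e : Fin 4 → K) (φ : (Fin 4 → K) →ₗ[K] K) : (Fin 4 → K) →ₗ[K] (Fin 4 → K) :=
  LinearMap.id - (2 : K) • φ.smulRight e

theorem reflFun_apply (e : Fin 4 → K) (φ : (Fin 4 → K) →ₗ[K] K) (v : Fin 4 → K) :
    reflFun e φ v = v - (2 * φ v) • e := by
  simp [reflFun, smul_smul]

/-- `φ` is the functional of the Eckardt involution at `e` -/
def IsAxis (G : Cubic K (Fin 4 → K)) (e : Fin 4 → K) (φ : (Fin 4 → K) →ₗ[K] K) : Prop :=
  φ e = 1 ∧ ∀ v, G.T v v e = 2 * φ v * G.T e e v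

theorem exists_axis [CharZero K] (hsm : G.Smooth) {e : Fin 4 → K} (he : e ≠ 0) (hE : G.HasThreeLines e) :
    ∃ φ, IsAxis G e φ := by
  obtain ⟨z₀, hz₀⟩ := hsm e he hE.F_eq_zero
  let z := (G.T e e z₀)⁻¹ • z₀
  have hz : G.T e e z = 1 := by simp [z, hz₀]
  have ee : G.T e e e = 0 := hE.F_eq_zero
  refine ⟨(G.T e).flip z - (G.T e z z / 2) • G.T e e, ?_, fun v => ?_⟩
  · simp [hz, ee]
  · have hh : G.T e e (v - G.T e e v • z) = 0 := by simp [hz]
    have h2 := quad_zero hsm he hE hh hh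
    simp only [map_sub, map_smul, LinearMap.sub_apply, LinearMap.smul_apply, smul_eq_mul,
      G.symm₂₃ e z v] at h2
    rw [G.symm₁₃ v v e]
    simp only [LinearMap.sub_apply, LinearMap.smul_apply, LinearMap.flip_apply, smul_eq_mul]
    linear_combination h2

theorem IsAxis.polar [CharZero K] {e : Fin 4 → K} {φ : (Fin 4 → K) →ₗ[K] K} (h : IsAxis G e φ)
    (x y : Fin 4 → K) : G.T x y e = φ x * G.T e e y + φ y * G.T e e x := by
  have hxy := h.2 (x + y)
  simp only [map_add, LinearMap.add_apply] at hxy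
  rw [h.2 x, h.2 y, G.symm₁₂ y x e] at hxy
  have : 2 * (G.T x y e - (φ x * G.T e e y + φ y * G.T e e x)) = 0 := by linear_combination hxy
  simpa [sub_eq_zero] using this

theorem axis_unique [CharZero K] (hsm : G.Smooth) {e : Fin 4 → K} (he : e ≠ 0) (hF : G.F e = 0)
    {φ φ' : (Fin 4 → K) →ₗ[K] K} (h : IsAxis G e φ) (h' : IsAxis G e φ') : φ = φ' := by
  obtain ⟨b, hb⟩ := hsm e he hF
  have key : ∀ v, (φ v - φ' v) * G.T e e v = 0 := fun v => by
    have := h'.2 v
    rw [h.2 v] at this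
    have : 2 * ((φ v - φ' v) * G.T e e v) = 0 := by linear_combination this
    simpa using this
  have kb : φ b = φ' b := by simpa [hb, sub_eq_zero] using key b
  refine LinearMap.ext fun a => ?_
  have h1 := key (a + b)
  rw [map_add, map_add, map_add, kb] at h1
  have : (φ a - φ' a) * G.T e e b = 0 := by linear_combination h1 - key a
  simpa [hb, sub_eq_zero] using this

theorem IsAxis.F_refl {e : Fin 4 → K} {φ : (Fin 4 → K) →ₗ[K] K} (h : IsAxis G e φ)
    (hF : G.F e = 0) (v : Fin 4 → K) : G.F (reflFun e φ v) = G.F v := by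
  rw [reflFun_apply, sub_eq_add_neg, ← neg_smul, G.F_add_smul, hF, h.2 v, G.symm₁₃ v e e]
  ring

theorem IsAxis.involutive {e : Fin 4 → K} {φ : (Fin 4 → K) →ₗ[K] K} (h : IsAxis G e φ)
    (v : Fin 4 → K) : reflFun e φ (reflFun e φ v) = v := by
  simp only [reflFun_apply, map_sub, map_smul, smul_eq_mul, h.1]
  module

/-- The conditions on an Eckardt involution. -/
def IsInvol (G : Cubic K (Fin 4 → K)) (e : Fin 4 → K) (A : Matrix (Fin 4) (Fin 4) K) : Prop :=
  A * A = 1 ∧ Module.finrank K ↥(LinearMap.ker (Matrix.toLin' A - LinearMap.id)) = 3 ∧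
    A.mulVec e = -e ∧ ∃ c : K, ∀ v, G.F (A.mulVec v) = c * G.F v

theorem exists_axis_of_invol [CharZero K] (hsm : G.Smooth) {e : Fin 4 → K} (he : e ≠ 0)
    (hF : G.F e = 0) {A : Matrix (Fin 4) (Fin 4) K} (hA : IsInvol G e A) :
    ∃ φ, IsAxis G e φ ∧ Matrix.toLin' A = reflFun e φ := by
  obtain ⟨-, hker, hAe, c, hc⟩ := hA
  let D : (Fin 4 → K) →ₗ[K] (Fin 4 → K) := LinearMap.id - Matrix.toLin' A
  have hkerD : LinearMap.ker D = LinearMap.ker (Matrix.toLin' A - LinearMap.id) := by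
    rw [← LinearMap.ker_smul (Matrix.toLin' A - LinearMap.id) (-1 : K) (by norm_num)]
    congr 1
    exact LinearMap.ext fun x => by simp only [D, LinearMap.sub_apply, LinearMap.smul_apply]; module
  have hrange : Module.finrank K (LinearMap.range D) = 1 := by
    have h := LinearMap.finrank_range_add_finrank_ker D
    rw [hkerD, hker, Module.finrank_fin_fun] at h
    omega
  have hDe : D e = (2 : K) • e := by simp [D, hAe, two_smul]
  have hspan : LinearMap.range D = Submodule.span K {e} := by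
    refine (Submodule.eq_of_le_of_finrank_le ((Submodule.span_singleton_le_iff_mem _ _).2 ?_) ?_).symm
    · exact ⟨(2 : K)⁻¹ • e, by rw [map_smul, hDe, smul_smul, inv_mul_cancel₀ two_ne_zero, one_smul]⟩
    · rw [hrange, finrank_span_singleton he]
  obtain ⟨i, hi⟩ := Function.ne_iff.1 he
  let ψ : (Fin 4 → K) →ₗ[K] K := (2 * e i)⁻¹ • ((LinearMap.proj i : (Fin 4 → K) →ₗ[K] K) ∘ₗ D)
  have hAeq : Matrix.toLin' A = reflFun e ψ := by
    refine LinearMap.ext fun v => ?_
    obtain ⟨μ, hμ⟩ := Submodule.mem_span_singleton.1 (hspan ▸ LinearMap.mem_range_self D v)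
    have hψ : 2 * ψ v = μ := by
      have : e i ≠ 0 := hi
      simp [ψ, ← hμ]
      field_simp
    rw [reflFun_apply, hψ, hμ]
    simp [D]
  have hψe : ψ e = 1 := by
    have : e i ≠ 0 := hi
    simp [ψ, hDe]
    field_simp
  refine ⟨ψ, ⟨hψe, ?_⟩, hAeq⟩
  have hc' : ∀ v, G.F (v + (-(2 * ψ v)) • e) = c * G.F v := fun v => by
    rw [neg_smul, ← sub_eq_add_neg, ← reflFun_apply, ← hAeq, Matrix.toLin'_apply, hc]
  -- on the mirror
  have hP : ∀ (v : Fin 4 → K) (t : K), ψ v = 0 → G.F (v + (-t) • e) = c * G.F (v + t • e) := fun v t hv => by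
    have := hc' (v + t • e)
    rw [map_add, map_smul, hv, hψe, zero_add, smul_eq_mul, mul_one, add_assoc, ← add_smul,
      show t + -(2 * t) = -t by ring] at this
    exact this
  have hexp : ∀ (v : Fin 4 → K) (t : K), ψ v = 0 → (1 - c) * G.F v - 3 * t * (1 + c) * G.T v v e
      + 3 * t ^ 2 * (1 - c) * G.T e e v = 0 := fun v t hv => by
    have := hP v t hv
    rw [G.F_add_smul, G.F_add_smul, hF, G.symm₁₃ v e e] at this
    linear_combination this
  have hc1 : c = 1 := by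
    by_contra hne
    obtain ⟨w, hw⟩ := hsm e he hF
    refine hw ?_
    have hv : ψ (w - ψ w • e) = 0 := by simp [hψe]
    have h0 := hexp _ 0 hv
    have h1 := hexp _ 1 hv
    have h2 := hexp _ (-1) hv
    have h3 : 6 * (1 - c) * G.T e e (w - ψ w • e) = 0 := by linear_combination h1 + h2 - 2 * h0
    have h4 : G.T e e (w - ψ w • e) = 0 := by simpa [sub_eq_zero, Ne.symm hne] using h3
    simpa [show G.T e e e = 0 from hF] using h4
  intro v
  have hv : ψ (v - ψ v • e) = 0 := by simp [hψe]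
  have h1 := hexp _ 1 hv
  rw [hc1] at h1
  have h2 : G.T (v - ψ v • e) (v - ψ v • e) e = 0 := by
    have : 6 * G.T (v - ψ v • e) (v - ψ v • e) e = 0 := by linear_combination (-1 : K) * h1
    simpa using this
  simp only [map_sub, map_smul, LinearMap.sub_apply, LinearMap.smul_apply, smul_eq_mul,
    show G.T e e e = 0 from hF, G.symm₁₂ e v e, G.symm₁₃ v e e] at h2
  linear_combination h2

theorem IsAxis.isInvol [CharZero K] {e : Fin 4 → K} {φ : (Fin 4 → K) →ₗ[K] K} (h : IsAxis G e φ)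
    (hF : G.F e = 0) : IsInvol G e (LinearMap.toMatrix' (reflFun e φ)) := by
  have happ : ∀ v, (LinearMap.toMatrix' (reflFun e φ)).mulVec v = reflFun e φ v := fun v => by
    rw [← Matrix.toLin'_apply, Matrix.toLin'_toMatrix']
  refine ⟨?_, ?_, ?_, 1, fun v => by rw [happ, h.F_refl hF, one_mul]⟩
  · rw [← LinearMap.toMatrix'_comp, ← LinearMap.toMatrix'_id]
    exact congrArg _ (LinearMap.ext h.involutive)
  · rw [Matrix.toLin'_toMatrix']
    have he : e ≠ 0 := fun h0 => by simpa [h0] using h.1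
    have hk : LinearMap.ker (reflFun e φ - LinearMap.id) = LinearMap.ker φ := by
      ext v
      simp [reflFun_apply, he]
    have hr := LinearMap.finrank_range_add_finrank_ker φ
    rw [LinearMap.range_eq_top.2 (LinearMap.surjective fun h0 => by simpa [h0] using h.1),
      finrank_top, Module.finrank_self, Module.finrank_fin_fun] at hr
    rw [hk]
    omega
  · rw [happ, reflFun_apply, h.1, mul_one, two_smul]
    abel

theorem existsUnique_invol [CharZero K] (hsm : G.Smooth) {e : Fin 4 → K} (he : e ≠ 0)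
    (hE : G.HasThreeLines e) : ∃! A : Matrix (Fin 4) (Fin 4) K, IsInvol G e A := by
  obtain ⟨φ, hφ⟩ := exists_axis hsm he hE
  refine ⟨_, hφ.isInvol hE.F_eq_zero, fun A hA => ?_⟩
  obtain ⟨ψ, hψ, hAeq⟩ := exists_axis_of_invol hsm he hE.F_eq_zero hA
  rw [axis_unique hsm he hE.F_eq_zero hφ hψ, ← hAeq, LinearMap.toMatrix'_toLin']

theorem invol_eq [CharZero K] (hsm : G.Smooth) {e : Fin 4 → K} (he : e ≠ 0)
    (hE : G.HasThreeLines e) {A : Matrix (Fin 4) (Fin 4) K} (hA : IsInvol G e A)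
    {φ : (Fin 4 → K) →ₗ[K] K} (hφ : IsAxis G e φ) (v : Fin 4 → K) :
    A.mulVec v = v - (2 * φ v) • e := by
  obtain ⟨ψ, hψ, hAeq⟩ := exists_axis_of_invol hsm he hE.F_eq_zero hA
  rw [← Matrix.toLin'_apply, hAeq, axis_unique hsm he hE.F_eq_zero hψ hφ, reflFun_apply]

theorem tangent_ne_of_secant [CharZero K] (hsm : G.Smooth) {e e' : Fin 4 → K} (he : e ≠ 0)
    (hE : G.HasThreeLines e) (hF' : G.F e' = 0) (hL : ¬ ∀ u ∈ Submodule.span K {e, e'}, G.F u = 0) :
    G.T e e e' ≠ 0 := by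
  intro h0
  refine hL fun u hu => ?_
  obtain ⟨s, t, rfl⟩ := Submodule.mem_span_pair.1 hu
  rw [G.F_comb₂, h0, quad_zero hsm he hE h0 h0, hE.F_eq_zero, hF']
  ring

theorem third_point [CharZero K] (hsm : G.Smooth) {e e' : Fin 4 → K} (he : e ≠ 0) (he' : e' ≠ 0)
    (hE : G.HasThreeLines e) (hE' : G.HasThreeLines e')
    (hL : ¬ ∀ u ∈ Submodule.span K {e, e'}, G.F u = 0) :
    G.T e e e' ≠ 0 ∧ G.T e e' e' ≠ 0 ∧
    G.HasThreeLines (G.T e e' e' • e - G.T e e e' • e') ∧
    (∀ u ∈ Submodule.span K {e, e'}, G.F u = 0 →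
      u ∈ Submodule.span K {e} ∨ u ∈ Submodule.span K {e'} ∨
        u ∈ Submodule.span K {G.T e e' e' • e - G.T e e e' • e'}) ∧
    ∀ A, IsInvol G e A →
      A.mulVec e' = (-(G.T e e e')⁻¹) • (G.T e e' e' • e - G.T e e e' • e') := by
  have ha : G.T e e e' ≠ 0 := tangent_ne_of_secant hsm he hE hE'.F_eq_zero hL
  have hb : G.T e e' e' ≠ 0 := by
    have := tangent_ne_of_secant hsm he' hE' hE.F_eq_zero (Set.pair_comm e e' ▸ hL)
    rwa [G.symm₁₃ e' e' e] at this
  obtain ⟨φ, hφ⟩ := exists_axis hsm he hE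
  have hφe' : 2 * φ e' * G.T e e e' = G.T e e' e' := by rw [← hφ.2, G.symm₁₃ e' e' e]
  have hAe' : ∀ A, IsInvol G e A →
      A.mulVec e' = (-(G.T e e e')⁻¹) • (G.T e e' e' • e - G.T e e e' • e') := fun A hA => by
    rw [invol_eq hsm he hE hA hφ, ← hφe', neg_smul, smul_sub, smul_smul, smul_smul,
      inv_mul_cancel₀ ha, one_smul, ← mul_assoc, mul_comm (G.T e e e')⁻¹ (2 * φ e'), mul_assoc,
      mul_comm _ (G.T e e e'), ← mul_assoc, mul_assoc, mul_inv_cancel₀ ha, mul_one]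
    abel
  refine ⟨ha, hb, ?_, fun u hu hFu => ?_, hAe'⟩
  · let E : (Fin 4 → K) ≃ₗ[K] (Fin 4 → K) :=
      LinearEquiv.ofLinearMap (reflFun e φ) (reflFun e φ) (LinearMap.ext hφ.involutive)
        (LinearMap.ext hφ.involutive)
    have h := (hE'.map E fun v => hφ.F_refl hE.F_eq_zero v).smul (c := -(G.T e e e'))
    have hEe' : E e' = (-(G.T e e e')⁻¹) • (G.T e e' e' • e - G.T e e e' • e') := by
      rw [← hAe' _ (hφ.isInvol hE.F_eq_zero), ← Matrix.toLin'_apply, Matrix.toLin'_toMatrix']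
      rfl
    rwa [hEe', smul_smul, neg_mul_neg, mul_inv_cancel₀ ha, one_smul] at h
  · obtain ⟨s, t, rfl⟩ := Submodule.mem_span_pair.1 hu
    rw [G.F_comb₂, hE.F_eq_zero, hE'.F_eq_zero] at hFu
    have h3 : 3 * (s * (t * (s * G.T e e e' + t * G.T e e' e'))) = 0 := by linear_combination hFu
    simp only [mul_eq_zero, OfNat.ofNat_ne_zero, false_or] at h3
    rcases h3 with rfl | rfl | h3
    · exact Or.inr (Or.inl (Submodule.mem_span_singleton.2 ⟨t, by simp⟩))
    · exact Or.inl (Submodule.mem_span_singleton.2 ⟨s, by simp⟩)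
    · refine Or.inr (Or.inr (Submodule.mem_span_singleton.2 ⟨-(t / G.T e e e'), ?_⟩))
      have hs : -(t / G.T e e e') * G.T e e' e' = s := by
        field_simp
        linear_combination -h3
      have ht : -(-(t / G.T e e e') * G.T e e e') = t := by field_simp
      rw [smul_sub, smul_smul, smul_smul, hs, sub_eq_add_neg, ← neg_smul, ht]

theorem secant_xor [CharZero K] (hsm : G.Smooth) {e e' : Fin 4 → K} (he : e ≠ 0)
    (he' : e' ∉ Submodule.span K {e}) (hE : G.HasThreeLines e) (hE' : G.HasThreeLines e') :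
    Xor (∀ u ∈ Submodule.span K {e, e'}, G.F u = 0)
      (∃ e'' : Fin 4 → K, e'' ∈ Submodule.span K {e, e'} ∧ e'' ∉ Submodule.span K {e} ∧
        e'' ∉ Submodule.span K {e'} ∧ G.HasThreeLines e'' ∧
        ∀ u ∈ Submodule.span K {e, e'}, G.F u = 0 →
          u ∈ Submodule.span K {e} ∨ u ∈ Submodule.span K {e'} ∨ u ∈ Submodule.span K {e''}) := by
  have he'0 : e' ≠ 0 := fun h => he' (h ▸ zero_mem _)
  have hli : ∀ s t : K, s • e + t • e' = 0 → s = 0 ∧ t = 0 := fun s t h => by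
    have ht : t = 0 := by
      by_contra ht
      refine he' (Submodule.mem_span_singleton.2 ⟨-(s / t), ?_⟩)
      have := congrArg (fun x => t⁻¹ • x) h
      simp only [smul_add, smul_smul, inv_mul_cancel₀ ht, one_smul, smul_zero] at this
      rw [neg_smul, div_eq_mul_inv, mul_comm, eq_comm, ← sub_eq_zero, sub_neg_eq_add, add_comm]
      exact this
    subst ht
    simp only [zero_smul, add_zero, smul_eq_zero] at h
    exact ⟨h.resolve_right he, rfl⟩
  by_cases hL : ∀ u ∈ Submodule.span K {e, e'}, G.F u = 0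
  · refine Or.inl ⟨hL, ?_⟩
    rintro ⟨e'', he''L, -, -, -, hz⟩
    obtain ⟨p, q, rfl⟩ := Submodule.mem_span_pair.1 he''L
    -- more zeros on the line than three
    obtain ⟨n, hn0, hn⟩ : ∃ n : K, n ≠ 0 ∧ n * p - q ≠ 0 := by
      by_cases h : (1 : K) * p - q = 0
      · refine ⟨2, two_ne_zero, fun h2 => ?_⟩
        have hp : p = 0 := by linear_combination h2 - h
        have hq : q = 0 := by linear_combination -h + hp
        have h3 := hz (e + (1 : K) • e') (Submodule.mem_span_pair.2 ⟨1, 1, by simp⟩)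
          (hL _ (Submodule.mem_span_pair.2 ⟨1, 1, by simp⟩))
        simp only [hp, hq, zero_smul, add_zero, Submodule.span_zero_singleton, Submodule.mem_bot,
          Submodule.mem_span_singleton] at h3
        rcases h3 with ⟨a, ha⟩ | ⟨a, ha⟩ | h3
        · exact one_ne_zero (hli (1 - a) 1 (by rw [sub_smul, one_smul, ha]; module)).2
        · exact one_ne_zero (hli 1 (1 - a) (by rw [sub_smul, ha]; module)).1
        · exact one_ne_zero (hli 1 1 (by simpa using h3)).1
      · exact ⟨1, one_ne_zero, h⟩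
    have h3 := hz ((1 : K) • e + n • e') (Submodule.mem_span_pair.2 ⟨1, n, rfl⟩)
      (hL _ (Submodule.mem_span_pair.2 ⟨1, n, rfl⟩))
    simp only [Submodule.mem_span_singleton] at h3
    rcases h3 with ⟨a, ha⟩ | ⟨a, ha⟩ | ⟨a, ha⟩
    · exact hn0 (hli (1 - a) n (by rw [sub_smul, ha]; module)).2
    · exact one_ne_zero (hli 1 (n - a) (by rw [sub_smul, ha]; module)).1
    · obtain ⟨h1, h2⟩ := hli (a * p - 1) (a * q - n) (by
        rw [sub_smul, sub_smul, ← smul_smul, ← smul_smul]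
        linear_combination (norm := module) ha)
      exact hn (by linear_combination q * h1 - p * h2)
  · refine Or.inr ⟨?_, hL⟩
    obtain ⟨ha, hb, hthree, hz, -⟩ := third_point hsm he he'0 hE hE' hL
    refine ⟨_, sub_mem (Submodule.smul_mem _ _ (Submodule.subset_span (by simp)))
      (Submodule.smul_mem _ _ (Submodule.subset_span (by simp))), ?_, ?_, hthree, hz⟩
    · rw [Submodule.mem_span_singleton]
      rintro ⟨a, ha'⟩
      exact ha (hli (a - G.T e e' e') (G.T e e e') (by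
        rw [sub_smul]; linear_combination (norm := module) ha')).2
    · rw [Submodule.mem_span_singleton]
      rintro ⟨a, ha'⟩
      exact hb (neg_eq_zero.1 (hli (-G.T e e' e') (a + G.T e e e') (by
        rw [add_smul, neg_smul]; linear_combination (norm := module) ha')).1)

end Groth.Agent.CubicLib
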