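import Groth.Agent.CubicLib.Eckardt

/-! Pairs of Eckardt involutions; converse; lines through a point. -/

namespace Groth.Agent.CubicLib

open Cubic

universe u

variable {K : Type u} [Field K] {G : Cubic K (Fin 4 → K)}

theorem finrank_span_pair_le (x y : Fin 4 → K) :
    Module.finrank K (Submodule.span K ({x, y} : Set (Fin 4 → K))) ≤ 2 := by
  classical
  rw [← Finset.coe_pair]
  exact (finrank_span_finset_le_card _).trans Finset.card_le_two

theorem invol_symm {e : Fin 4 → K} {c : K} (hc : c ≠ 0) {A : Matrix (Fin 4) (Fin 4) K}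
    (hA : IsInvol G e A) : IsInvol G (c • e) A := by
  obtain ⟨h1, h2, h3, h4⟩ := hA
  exact ⟨h1, h2, by rw [Matrix.mulVec_smul, h3, smul_neg], h4⟩

theorem invol_conj {e e' : Fin 4 → K} {A A' : Matrix (Fin 4) (Fin 4) K} (hA : IsInvol G e A)
    (hA' : IsInvol G e' A') : IsInvol G (A.mulVec e') (A * A' * A) := by
  obtain ⟨hAA, -, -, c, hc⟩ := hA
  obtain ⟨hA'A', hk, hA'e, c', hc'⟩ := hA'
  refine ⟨?_, ?_, ?_, c * c' * c, fun v => ?_⟩
  · calc A * A' * A * (A * A' * A) = A * A' * (A * A) * A' * A := by simp only [Matrix.mul_assoc]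
      _ = _ := by rw [hAA, Matrix.mul_one, Matrix.mul_assoc A A' A', hA'A', Matrix.mul_one, hAA]
  · let E : (Fin 4 → K) ≃ₗ[K] (Fin 4 → K) :=
      LinearEquiv.ofLinearMap (Matrix.toLin' A) (Matrix.toLin' A)
        (by rw [← Matrix.toLin'_mul, hAA, Matrix.toLin'_one])
        (by rw [← Matrix.toLin'_mul, hAA, Matrix.toLin'_one])
    have hEv : ∀ v, E v = A.mulVec v := fun v => rfl
    suffices hEq : LinearMap.ker (Matrix.toLin' (A * A' * A) - LinearMap.id) =
        (LinearMap.ker (Matrix.toLin' A' - LinearMap.id)).map E.toLinearMap by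
      exact (((LinearEquiv.ofEq _ _ hEq).trans (E.submoduleMap _).symm).finrank_eq).trans hk
    ext v
    simp only [LinearMap.mem_ker, Submodule.mem_map_equiv, LinearMap.sub_apply, LinearMap.id_apply,
      sub_eq_zero, Matrix.toLin'_apply]
    have hsymm : E.symm v = A.mulVec v := rfl
    rw [hsymm, ← Matrix.mulVec_mulVec, ← Matrix.mulVec_mulVec]
    constructor <;> intro h
    · have := congrArg A.mulVec h
      rwa [Matrix.mulVec_mulVec _ A A, hAA, Matrix.one_mulVec] at this
    · rw [h, Matrix.mulVec_mulVec, hAA, Matrix.one_mulVec]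
  · rw [← Matrix.mulVec_mulVec, Matrix.mulVec_mulVec _ A A, hAA, Matrix.one_mulVec,
      ← Matrix.mulVec_mulVec, hA'e, Matrix.mulVec_neg]
  · rw [← Matrix.mulVec_mulVec, ← Matrix.mulVec_mulVec, hc, hc', hc]
    ring

variable [CharZero K]

theorem dihedral (hsm : G.Smooth) {e e' e'' : Fin 4 → K} (he : e ≠ 0) (he' : e' ≠ 0)
    (he''1 : e'' ∉ Submodule.span K {e}) (he''2 : e'' ∉ Submodule.span K {e'})
    (he''L : e'' ∈ Submodule.span K {e, e'})
    (hE : G.HasThreeLines e) (hE' : G.HasThreeLines e') (hE'' : G.HasThreeLines e'')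
    (hL : ¬ ∀ u ∈ Submodule.span K {e, e'}, G.F u = 0)
    {A A' A'' : Matrix (Fin 4) (Fin 4) K} (hA : IsInvol G e A) (hA' : IsInvol G e' A')
    (hA'' : IsInvol G e'' A'') :
    (¬ ∃ c : K, A * A' = c • (1 : Matrix (Fin 4) (Fin 4) K)) ∧
      (∃ c : K, (A * A') ^ 3 = c • (1 : Matrix (Fin 4) (Fin 4) K)) ∧ ∃ c : K, A'' = c • (A * A' * A) := by
  have he''0 : e'' ≠ 0 := fun h => he''1 (h ▸ zero_mem _)
  have hL' : ¬ ∀ u ∈ Submodule.span K {e', e}, G.F u = 0 := Set.pair_comm e e' ▸ hL
  obtain ⟨ha, hb, -, hz, hAe'⟩ := third_point hsm he he' hE hE' hL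
  obtain ⟨ha', hb', -, hz', hA'e⟩ := third_point hsm he' he hE' hE hL'
  have key : ∀ {e₁ : Fin 4 → K} (B : Matrix (Fin 4) (Fin 4) K), IsInvol G e₁ B →
      e₁ ∈ Submodule.span K {e''} → e₁ ≠ 0 → B = A'' := by
    intro e₁ B hB hmem h0
    obtain ⟨r, rfl⟩ := Submodule.mem_span_singleton.1 hmem
    have hr : r ≠ 0 := fun h => h0 (by rw [h, zero_smul])
    have hB' := invol_symm (inv_ne_zero hr) hB
    rw [smul_smul, inv_mul_cancel₀ hr, one_smul] at hB'
    exact (existsUnique_invol hsm he''0 hE'').unique hB' hA''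
  have hspan : ∀ x : Fin 4 → K, e'' ∈ Submodule.span K {x} → x ∈ Submodule.span K {e''} := by
    intro x hx
    obtain ⟨r, hr⟩ := Submodule.mem_span_singleton.1 hx
    have hr0 : r ≠ 0 := fun h => he''0 (by rw [← hr, h, zero_smul])
    exact Submodule.mem_span_singleton.2 ⟨r⁻¹, by rw [← hr, smul_smul, inv_mul_cancel₀ hr0, one_smul]⟩
  have h1 : A * A' * A = A'' := by
    refine key _ (invol_conj hA hA') ?_ fun h0 => ?_
    · rw [hAe' A hA]
      exact Submodule.smul_mem _ _ (hspan _ (((hz e'' he''L hE''.F_eq_zero).resolve_left he''1).resolve_left he''2))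
    · have := congrArg A.mulVec h0
      rw [Matrix.mulVec_mulVec, hA.1, Matrix.one_mulVec, Matrix.mulVec_zero] at this
      exact he' this
  have h2 : A' * A * A' = A'' := by
    refine key _ (invol_conj hA' hA) ?_ fun h0 => ?_
    · rw [hA'e A' hA']
      have := hz' e'' (Set.pair_comm e e' ▸ he''L) hE''.F_eq_zero
      exact Submodule.smul_mem _ _ (hspan _ ((this.resolve_left he''2).resolve_left he''1))
    · have := congrArg A'.mulVec h0
      rw [Matrix.mulVec_mulVec, hA'.1, Matrix.one_mulVec, Matrix.mulVec_zero] at this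
      exact he this
  refine ⟨?_, ⟨1, ?_⟩, 1, by rw [one_smul, h1]⟩
  · rintro ⟨c, hc⟩
    have h3 : A' = c • A := by
      have := congrArg (A * ·) hc
      simp only [← Matrix.mul_assoc, hA.1, Matrix.one_mul, Matrix.mul_smul, Matrix.mul_one] at this
      exact this
    have h4 : A'.mulVec e = (-c) • e := by rw [h3, Matrix.smul_mulVec, hA.2.2.1, smul_neg, neg_smul]
    rw [hA'e A' hA'] at h4
    -- compare coefficients
    have h5 : ((G.T e' e' e)⁻¹ * G.T e' e' e) • e - ((G.T e' e' e)⁻¹ * G.T e' e e) • e' = (-c) • e := by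
      rw [← h4, smul_sub, smul_smul, smul_smul]; module
    refine he''2 ?_
    obtain ⟨p, q, rfl⟩ := Submodule.mem_span_pair.1 he''L
    rw [inv_mul_cancel₀ ha', one_smul] at h5
    have hne : (G.T e' e' e)⁻¹ * G.T e' e e ≠ 0 := mul_ne_zero (inv_ne_zero ha') hb'
    have h6 : e' = (((G.T e' e' e)⁻¹ * G.T e' e e)⁻¹ * (1 + c)) • e := by
      rw [mul_smul, show (1 + c) • e = ((G.T e' e' e)⁻¹ * G.T e' e e) • e' by
        linear_combination (norm := module) h5, smul_smul, inv_mul_cancel₀ hne, one_smul]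
    refine absurd ?_ he''1
    rw [h6, smul_smul, ← add_smul]
    exact Submodule.smul_mem _ _ (Submodule.mem_span_singleton_self e)
  · rw [one_smul]
    calc (A * A') ^ 3 = (A * A' * A) * (A' * A * A') := by
          simp only [pow_succ, pow_zero, Matrix.one_mul, Matrix.mul_assoc]
      _ = A'' * A'' := by rw [h1, h2]
      _ = 1 := hA''.1

theorem commute_on_line [IsAlgClosed K] (hsm : G.Smooth) {e e' : Fin 4 → K} (he : e ≠ 0)
    (he' : e' ∉ Submodule.span K {e})
    (hE : G.HasThreeLines e) (hE' : G.HasThreeLines e')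
    (hL : ∀ u ∈ Submodule.span K {e, e'}, G.F u = 0)
    {A A' : Matrix (Fin 4) (Fin 4) K} (hA : IsInvol G e A) (hA' : IsInvol G e' A') :
    (∃ c : K, A * A' = c • (A' * A)) ∧ (∃ d : K, A.mulVec e' = d • e') ∧ ∃ d : K, A'.mulVec e = d • e := by
  have he'0 : e' ≠ 0 := fun h => he' (h ▸ zero_mem _)
  obtain ⟨φ, hφ⟩ := exists_axis hsm he hE
  obtain ⟨φ', hφ'⟩ := exists_axis hsm he'0 hE'
  have hmem : e ∈ Submodule.span K {e, e'} := Submodule.subset_span (by simp)
  have hmem' : e' ∈ Submodule.span K {e, e'} := Submodule.subset_span (by simp)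
  have ee : G.T e e e = 0 := hE.F_eq_zero
  have h0 : ∀ {a b c}, a ∈ Submodule.span K {e, e'} → b ∈ Submodule.span K {e, e'} →
      c ∈ Submodule.span K {e, e'} → G.T a b c = 0 := fun ha hb hc => G.T_eq_zero_of_F hL ha hb hc
  have h1 : ∀ y, G.T e e' y = φ e' * G.T e e y := fun y => by
    have := hφ.polar e' y
    rw [h0 hmem hmem hmem', mul_zero, add_zero] at this
    rw [← this, G.symm₁₂ e e' y, G.symm₂₃ e' e y]
  have h2 : ∀ y, G.T e e' y = φ' e * G.T e' e' y := fun y => by
    have := hφ'.polar e y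
    rw [h0 hmem' hmem' hmem, mul_zero, add_zero] at this
    rw [← this, G.symm₂₃ e e' y]
  obtain ⟨w, hw⟩ := hsm e he hE.F_eq_zero
  obtain ⟨w', hw'⟩ := hsm e' he'0 hE'.F_eq_zero
  have hα : φ e' = 0 := by
    by_contra hα
    have hβ : φ' e ≠ 0 := fun hβ => by
      have := h2 w
      rw [h1, hβ, zero_mul] at this
      exact hw ((mul_eq_zero.1 this).resolve_left hα)
    have hT : ∀ y, G.T e' e' y = (φ e' / φ' e) * G.T e e y := fun y => by
      have := h2 y
      rw [h1] at this
      field_simp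
      linear_combination -this
    obtain ⟨s, hs⟩ := exists_root_quadratic (1 : K) (2 * φ e') (φ e' / φ' e) one_ne_zero
    have hv : s • e + e' ≠ 0 := fun h => he' (Submodule.mem_span_singleton.2
      ⟨-s, by rw [neg_smul, eq_comm, eq_neg_iff_add_eq_zero, add_comm]; exact h⟩)
    obtain ⟨y, hy⟩ := hsm _ hv (hL _ (add_mem (Submodule.smul_mem _ s hmem) hmem'))
    refine hy ?_
    simp only [map_add, map_smul, LinearMap.add_apply, LinearMap.smul_apply, smul_eq_mul,
      G.symm₁₂ e' e y, h1, hT]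
    linear_combination G.T e e y * hs
  have hβ : φ' e = 0 := by
    have := h2 w'
    rw [h1, hα, zero_mul] at this
    exact (mul_eq_zero.1 this.symm).resolve_right hw'
  have hAe' : A.mulVec e' = e' := by rw [invol_eq hsm he hE hA hφ, hα, mul_zero, zero_smul, sub_zero]
  have hA'e : A'.mulVec e = e := by rw [invol_eq hsm he'0 hE' hA' hφ', hβ, mul_zero, zero_smul, sub_zero]
  refine ⟨⟨1, ?_⟩, ⟨1, by rw [hAe', one_smul]⟩, ⟨1, by rw [hA'e, one_smul]⟩⟩
  rw [one_smul]
  apply Matrix.toLin'.injective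
  refine LinearMap.ext fun v => ?_
  simp only [Matrix.toLin'_apply, ← Matrix.mulVec_mulVec]
  rw [invol_eq hsm he'0 hE' hA' hφ' v, invol_eq hsm he hE hA hφ v, Matrix.mulVec_sub, Matrix.mulVec_sub,
    Matrix.mulVec_smul, Matrix.mulVec_smul, hAe', hA'e, invol_eq hsm he hE hA hφ v,
    invol_eq hsm he'0 hE' hA' hφ' v]
  abel

variable [IsAlgClosed K]

theorem nondeg (hsm : G.Smooth) {p : Fin 4 → K} (hp : p ≠ 0) (hF : G.F p = 0)
    (hq : ∀ x y, G.T p p x = 0 → G.T p p y = 0 → G.T p x y = 0) {h : Fin 4 → K}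
    (hh : G.T p p h = 0) (hh' : h ∉ Submodule.span K {p}) (hFh : G.F h = 0) :
    ∃ x, G.T p p x = 0 ∧ G.T h h x ≠ 0 := by
  by_contra! hcon
  obtain ⟨z₀, hz₀⟩ := hsm p hp hF
  let z := (G.T p p z₀)⁻¹ • z₀
  have hz : G.T p p z = 1 := by simp [z, hz₀]
  have hker : ∀ y, G.T p p (y - G.T p p y • z) = 0 := fun y => by simp [hz]
  have h1 : ∀ y, G.T h h y = G.T h h z * G.T p p y := fun y => by
    have := hcon _ (hker y)
    simp only [map_sub, map_smul, smul_eq_mul] at this
    linear_combination this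
  have h2 : ∀ y, G.T p h y = G.T p h z * G.T p p y := fun y => by
    have := hq h _ hh (hker y)
    simp only [map_sub, map_smul, smul_eq_mul] at this
    linear_combination this
  obtain ⟨s, hs⟩ := exists_root_quadratic (1 : K) (2 * G.T p h z) (G.T h h z) one_ne_zero
  have hv : s • p + h ≠ 0 := fun h0 => hh' (Submodule.mem_span_singleton.2
    ⟨-s, by rw [neg_smul, eq_comm, eq_neg_iff_add_eq_zero, add_comm]; exact h0⟩)
  have hFv : G.F (s • p + h) = 0 := by
    have := G.F_comb₂ p h s 1
    rw [one_smul] at this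
    rw [this, hF, hh, hq h h hh hh, hFh]
    ring
  obtain ⟨y, hy⟩ := hsm _ hv hFv
  refine hy ?_
  simp only [map_add, map_smul, LinearMap.add_apply, LinearMap.smul_apply, smul_eq_mul,
    G.symm₁₂ h p y, h1 y, h2 y]
  linear_combination G.T p p y * hs

theorem threeLines_of_invol (hsm : G.Smooth) {p : Fin 4 → K} (hp : p ≠ 0) (hF : G.F p = 0)
    {A : Matrix (Fin 4) (Fin 4) K} (hA : IsInvol G p A) : G.HasThreeLines p := by
  classical
  obtain ⟨φ, hφ, -⟩ := exists_axis_of_invol hsm hp hF hA
  have hq : ∀ x y, G.T p p x = 0 → G.T p p y = 0 → G.T p x y = 0 := fun x y hx hy => by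
    rw [G.symm₁₂ p x y, G.symm₂₃ x p y, hφ.polar, hx, hy, mul_zero, mul_zero, add_zero]
  have hrank := finrank_ker_tangent hsm hp hF
  rw [Module.finrank_fin_fun] at hrank
  let H := LinearMap.ker (G.T p p)
  have hpH : p ∈ H := hF
  obtain ⟨b, hbH, hFb⟩ : ∃ b ∈ H, G.F b ≠ 0 := by
    by_contra! hcon
    have hlt : Submodule.span K {p} < H := lt_of_le_of_ne ((Submodule.span_singleton_le_iff_mem _ _).2 hpH)
      fun h => by
        have h' := congrArg (fun U : Submodule K (Fin 4 → K) => Module.finrank K U) h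
        simp only [finrank_span_singleton hp, H] at h'
        omega
    obtain ⟨h, hhH, hh'⟩ := SetLike.exists_of_lt hlt
    obtain ⟨x, hx, hx'⟩ := nondeg hsm hp hF hq hhH hh' (hcon h hhH)
    exact hx' (G.T_eq_zero_of_F hcon hhH hhH hx)
  have hbp : b ∉ Submodule.span K {p} := fun h => by
    obtain ⟨r, rfl⟩ := Submodule.mem_span_singleton.1 h
    exact hFb (by rw [G.F_smul, hF, mul_zero])
  have hli : ∀ s t : K, s • p + t • b = 0 → s = 0 ∧ t = 0 := fun s t h => by
    have ht : t = 0 := by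
      by_contra ht
      refine hbp (Submodule.mem_span_singleton.2 ⟨-(t⁻¹ * s), ?_⟩)
      have h' := congrArg (fun x => t⁻¹ • x) h
      simp only [smul_add, smul_smul, inv_mul_cancel₀ ht, one_smul, smul_zero] at h'
      linear_combination (norm := module) -h'
    subst ht
    simp only [zero_smul, add_zero, smul_eq_zero] at h
    exact ⟨h.resolve_right hp, rfl⟩
  let P2 := Submodule.span K {p, b}
  have hP2 : P2 < H := lt_of_le_of_ne (Submodule.span_le.2 (by rintro x (rfl | rfl) <;> assumption))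
    fun h => by
      have h' := finrank_span_pair_le p b
      have h3 := congrArg (fun U : Submodule K (Fin 4 → K) => Module.finrank K U) h
      simp only [P2, H] at h3
      omega
  obtain ⟨a, haH, ha'⟩ := SetLike.exists_of_lt hP2
  have hli3 : ∀ r s t : K, r • p + s • a + t • b = 0 → r = 0 ∧ s = 0 ∧ t = 0 := fun r s t h => by
    have hs : s = 0 := by
      by_contra hs
      refine ha' (Submodule.mem_span_pair.2 ⟨-(s⁻¹ * r), -(s⁻¹ * t), ?_⟩)
      have h' := congrArg (fun x => s⁻¹ • x) h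
      simp only [smul_add, smul_smul, inv_mul_cancel₀ hs, one_smul, smul_zero] at h'
      linear_combination (norm := module) -h'
    subst hs
    obtain ⟨h1, h2⟩ := hli r t (by simpa using h)
    exact ⟨h1, rfl, h2⟩
  have hgen : ∀ x ∈ H, x ∈ Submodule.span K {p, b} ⊔ Submodule.span K {a} := by
    intro x hx
    have hlt : P2 < P2 ⊔ Submodule.span K {a} := lt_of_le_of_ne le_sup_left fun h =>
      ha' (h.symm ▸ Submodule.mem_sup_right (Submodule.mem_span_singleton_self a))
    have h1 := Submodule.finrank_lt_finrank_of_lt hlt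
    have h2 : 2 ≤ Module.finrank K P2 := by
      have hsp : Submodule.span K {p} < P2 := lt_of_le_of_ne (Submodule.span_mono (by simp))
        fun h => hbp (h ▸ Submodule.subset_span (by simp))
      have := Submodule.finrank_lt_finrank_of_lt hsp
      rw [finrank_span_singleton hp] at this
      omega
    have hEq : P2 ⊔ Submodule.span K {a} = H :=
      Submodule.eq_of_le_of_finrank_le (sup_le hP2.le ((Submodule.span_singleton_le_iff_mem _ _).2 haH))
        (by simp only [H]; omega)
    exact hEq ▸ hx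
  let P : Polynomial K :=
    Polynomial.C (G.F b) * Polynomial.X ^ 3 + Polynomial.C (3 * G.T a b b) * Polynomial.X ^ 2
      + Polynomial.C (3 * G.T a a b) * Polynomial.X + Polynomial.C (G.F a)
  have hdeg : P.natDegree = 3 := Polynomial.natDegree_cubic hFb
  have hP0 : P ≠ 0 := fun h => by simp [h] at hdeg
  have hP : ∀ s, P.eval s = G.F (a + s • b) := fun s => by
    rw [G.F_add_smul]
    simp only [P, Polynomial.eval_add, Polynomial.eval_mul, Polynomial.eval_C, Polynomial.eval_pow,
      Polynomial.eval_X]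
    ring
  have hdP : ∀ s, P.derivative.eval s = 3 * G.T (a + s • b) (a + s • b) b := fun s => by
    simp only [P, Polynomial.derivative_add, Polynomial.derivative_mul, Polynomial.derivative_C,
      Polynomial.derivative_X_pow, Polynomial.derivative_X, map_add, map_smul, LinearMap.add_apply,
      LinearMap.smul_apply, smul_eq_mul, Polynomial.eval_add, Polynomial.eval_mul, Polynomial.eval_C,
      Polynomial.eval_pow, Polynomial.eval_X, Polynomial.eval_zero, Polynomial.eval_one, G.symm₁₂ b a b,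
      Cubic.F]
    ring
  have hmem : ∀ s, a + s • b ∈ H := fun s => H.add_mem haH (H.smul_mem s hbH)
  have hnd : P.roots.Nodup := by
    rw [Multiset.nodup_iff_count_le_one]
    intro s
    rw [Polynomial.count_roots]
    by_contra hlt
    rw [not_le, Polynomial.one_lt_rootMultiplicity_iff_isRoot hP0] at hlt
    obtain ⟨h1, h2⟩ := hlt
    have h1' : G.F (a + s • b) = 0 := (hP s).symm.trans h1
    have h2' : G.T (a + s • b) (a + s • b) b = 0 := by
      have := (hdP s).symm.trans h2
      simpa using this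
    have hnp : a + s • b ∉ Submodule.span K {p} := fun h => by
      obtain ⟨r, hr⟩ := Submodule.mem_span_singleton.1 h
      exact one_ne_zero (hli3 (-r) 1 s (by rw [neg_smul, hr]; module)).2.1
    obtain ⟨x, hx, hx'⟩ := nondeg hsm hp hF hq (hmem s) hnp h1'
    refine hx' ?_
    obtain ⟨y, hy, z, hz, rfl⟩ := Submodule.mem_sup.1 (hgen x hx)
    obtain ⟨r₁, r₂, rfl⟩ := Submodule.mem_span_pair.1 hy
    obtain ⟨r₃, rfl⟩ := Submodule.mem_span_singleton.1 hz
    have hp' : G.T (a + s • b) (a + s • b) p = 0 := by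
      rw [G.symm₁₃]; exact hq _ _ (hmem s) (hmem s)
    have ha2 : G.T (a + s • b) (a + s • b) a = 0 := by
      have : G.T (a + s • b) (a + s • b) (a + s • b) = 0 := h1'
      rw [map_add, map_smul, h2', smul_zero, add_zero] at this
      exact this
    rw [map_add, map_add, map_smul, map_smul, map_smul, hp', h2', ha2]
    simp
  have hcard : P.roots.toFinset.card = 3 := by
    rw [Multiset.toFinset_card_of_nodup hnd]
    exact hdeg ▸ IsAlgClosed.card_roots_eq_natDegree
  let r : Fin 3 → K := fun i => (P.roots.toFinset.equivFinOfCardEq hcard).symm i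
  have hr : Function.Injective r := Subtype.val_injective.comp (Equiv.injective _)
  have hr0 : ∀ i, G.F (a + r i • b) = 0 := fun i => by
    rw [← hP]
    exact (Polynomial.mem_roots hP0).1 (Multiset.mem_toFinset.1 ((P.roots.toFinset.equivFinOfCardEq hcard).symm i).2)
  refine ⟨fun i => Submodule.span K {p, a + r i • b}, fun i j hij => hr ?_, fun i => ⟨?_, ?_, fun u hu => ?_⟩⟩
  · have hij' : Submodule.span K {p, a + r i • b} = Submodule.span K {p, a + r j • b} := hij
    have : a + r i • b ∈ Submodule.span K {p, a + r j • b} := hij' ▸ Submodule.subset_span (by simp)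
    obtain ⟨x, y, hxy⟩ := Submodule.mem_span_pair.1 this
    obtain ⟨-, hy, hz⟩ := hli3 x (y - 1) (y * r j - r i) (by
      rw [sub_smul, sub_smul, one_smul, mul_smul]
      linear_combination (norm := module) hxy)
    linear_combination -hz + r j * hy
  · refine le_antisymm ?_ ?_
    · exact finrank_span_pair_le p _
    · have hsp : Submodule.span K {p} < Submodule.span K {p, a + r i • b} :=
        lt_of_le_of_ne (Submodule.span_mono (by simp)) fun h => by
          have : a + r i • b ∈ Submodule.span K {p} := h ▸ Submodule.subset_span (by simp)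
          obtain ⟨x, hx⟩ := Submodule.mem_span_singleton.1 this
          exact one_ne_zero (hli3 (-x) 1 (r i) (by rw [neg_smul, hx]; module)).2.1
      have := Submodule.finrank_lt_finrank_of_lt hsp
      rw [finrank_span_singleton hp] at this
      exact this
  · exact Submodule.subset_span (by simp)
  · obtain ⟨x, y, rfl⟩ := Submodule.mem_span_pair.1 hu
    rw [G.F_comb₂, hF, hr0, show G.T p p (a + r i • b) = 0 from hmem _, hq _ _ (hmem _) (hmem _)]
    ring

theorem lines_through (hsm : G.Smooth) {v : Fin 4 → K} (hv : v ≠ 0) (hF : G.F v = 0) :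
    ∃ H : Submodule K (Fin 4 → K), Module.finrank K H = 3 ∧
      (∀ U : Submodule K (Fin 4 → K), v ∈ U → (Module.finrank K U = 2 ∧ ∀ u ∈ U, G.F u = 0) → U ≤ H) ∧
      ∀ U : Fin 4 → Submodule K (Fin 4 → K),
        (∀ i, Module.finrank K (U i) = 2 ∧ v ∈ U i ∧ ∀ u ∈ U i, G.F u = 0) → ¬ Function.Injective U := by
  refine ⟨LinearMap.ker (G.T v v), ?_, fun U hvU hU u hu => (T_e_line hvU hu hU.2).1, fun U hU hinj => ?_⟩
  · have := finrank_ker_tangent hsm hv hF
    rw [Module.finrank_fin_fun] at this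
    omega
  · have hE : G.HasThreeLines v := ⟨fun i => U i.castSucc, hinj.comp (Fin.castSucc_injective 3), fun i => hU _⟩
    obtain ⟨w₀, hw₀, w₁, hw₁, hU₀, hU₁, hcoord⟩ :=
      exists_coord hsm hv (fun h => absurd (hinj h) (by decide)) (hU 0) (hU 1)
    have hother : ∀ i : Fin 4, i ≠ 0 → i ≠ 1 → ∃ β γ : K, β ≠ 0 ∧ γ ≠ 0 ∧
        U i = Submodule.span K {v, β • w₀ + γ • w₁} ∧
        β * G.T w₀ w₀ w₁ + γ * G.T w₀ w₁ w₁ = 0 := by
      intro i hi0 hi1
      obtain ⟨w, hw, hw', hUi⟩ := exists_other (hU i).1 (hU i).2.1 hv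
      obtain ⟨α, β, γ, rfl⟩ := hcoord w (T_e_line (hU i).2.1 hw (hU i).2.2).1
      have hle : ∀ {j}, α • v + β • w₀ + γ • w₁ ∈ U j → U i = U j := fun {j} hmem => by
        refine Submodule.eq_of_le_of_finrank_le ?_ (by rw [(hU i).1, (hU j).1])
        rw [hUi]
        exact Submodule.span_le.2 (by rintro x (rfl | rfl); exacts [(hU j).2.1, hmem])
      have hβ : β ≠ 0 := fun h0 => hi1 (hinj (hle (by
        rw [hU₁, Submodule.mem_span_pair]; exact ⟨α, γ, by rw [h0, zero_smul, add_zero]⟩)))
      have hγ : γ ≠ 0 := fun h0 => hi0 (hinj (hle (by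
        rw [hU₀, Submodule.mem_span_pair]; exact ⟨α, β, by rw [h0, zero_smul, add_zero]⟩)))
      have hmem' : β • w₀ + γ • w₁ ∈ U i := by
        have := sub_mem hw (Submodule.smul_mem _ α (hU i).2.1)
        rwa [add_assoc, add_sub_cancel_left] at this
      refine ⟨β, γ, hβ, hγ, ?_, ?_⟩
      · rw [hUi]
        refine le_antisymm (Submodule.span_le.2 ?_) (Submodule.span_le.2 ?_)
        · rintro x (rfl | rfl)
          · exact Submodule.subset_span (by simp)
          · exact Submodule.mem_span_pair.2 ⟨α, 1, by module⟩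
        · rintro x (rfl | rfl)
          · exact Submodule.subset_span (by simp)
          · exact Submodule.mem_span_pair.2 ⟨-α, 1, by module⟩
      · have h := (hU i).2.2 _ hmem'
        rw [G.F_comb₂, (hU 0).2.2 _ hw₀, (hU 1).2.2 _ hw₁] at h
        have h3 : (3 * β * γ) * (β * G.T w₀ w₀ w₁ + γ * G.T w₀ w₁ w₁) = 0 := by linear_combination h
        simpa [hβ, hγ] using h3
    obtain ⟨β₂, γ₂, hβ₂, hγ₂, hU₂, h₂⟩ := hother 2 (by decide) (by decide)
    obtain ⟨β₃, γ₃, hβ₃, hγ₃, hU₃, h₃⟩ := hother 3 (by decide) (by decide)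
    have hdet : β₂ * γ₃ - β₃ * γ₂ ≠ 0 := fun h0 => by
      have heq : U 2 = U 3 := by
        have hs : β₂ • w₀ + γ₂ • w₁ = (β₂ / β₃) • (β₃ • w₀ + γ₃ • w₁) := by
          rw [smul_add, smul_smul, smul_smul, div_mul_cancel₀ _ hβ₃]
          congr 2
          field_simp
          linear_combination -h0
        refine Submodule.eq_of_le_of_finrank_le ?_ (by rw [(hU 2).1, (hU 3).1])
        rw [hU₂, hU₃]
        refine Submodule.span_le.2 ?_
        rintro x (rfl | rfl)
        · exact Submodule.subset_span (by simp)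
        · rw [SetLike.mem_coe, hs]
          exact Submodule.smul_mem _ _ (Submodule.subset_span (by simp))
      exact absurd (hinj heq) (by decide)
    have hA : G.T w₀ w₀ w₁ = 0 := by
      have : (β₂ * γ₃ - β₃ * γ₂) * G.T w₀ w₀ w₁ = 0 := by linear_combination γ₃ * h₂ - γ₂ * h₃
      simpa [hdet] using this
    have hB : G.T w₀ w₁ w₁ = 0 := by
      have : γ₂ * G.T w₀ w₁ w₁ = 0 := by linear_combination h₂ - β₂ * hA
      simpa [hγ₂] using this
    have hq : ∀ x y, G.T v v x = 0 → G.T v v y = 0 → G.T v x y = 0 := fun x y => quad_zero hsm hv hE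
    have hw₀' : w₀ ∉ Submodule.span K {v} := fun h => by
      have h' := (hU 0).1
      rw [hU₀, Set.pair_comm, Submodule.span_insert_eq_span h, finrank_span_singleton hv] at h'
      omega
    obtain ⟨x, hx, hx'⟩ := nondeg hsm hv hF hq (T_e_line (hU 0).2.1 hw₀ (hU 0).2.2).1 hw₀' ((hU 0).2.2 _ hw₀)
    obtain ⟨α, β, γ, rfl⟩ := hcoord x hx
    refine hx' ?_
    have e0 := T_e_line (hU 0).2.1 hw₀ (hU 0).2.2
    simp only [map_add, map_smul, smul_eq_mul, hA, show G.T w₀ w₀ w₀ = 0 from e0.2.2]
    rw [G.symm₁₃, e0.2.1]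
    ring

end Groth.Agent.CubicLib
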