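import Mathlib

/-! `V(σ₂, σ₄) ⊂ A⁵` is irreducible (S12437). -/

noncomputable section

set_option linter.style.haveILetI false

universe u

open Polynomial

namespace Groth.Agent.CubicLib.EsymmIrred

/-- The radical of `(g2 + X g1, g4 + X g3)` is prime when the elimination element `g1 g4 - g2 g3` is prime, does
not divide `g1`, and no component lies in `g1 = 0` for height reasons. -/
theorem isPrime_radical_of {A : Type u} [CommRing A] [IsDomain A] [IsNoetherianRing A] (g1 g2 g3 g4 : A)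
    (hQp : (Ideal.span {g1 * g4 - g2 * g3}).IsPrime) (hQg : ¬ g1 * g4 - g2 * g3 ∣ g1)
    (hlow : ∀ q0 : Ideal A, q0.IsPrime → g1 ∈ q0 → g2 ∈ q0 →
      ∃ a b : Ideal A, a.IsPrime ∧ b.IsPrime ∧ a ≠ ⊥ ∧ a < b ∧ b ≤ q0)
    (hhigh : ∀ q0 : Ideal A, q0.IsPrime → g1 ∈ q0 → g2 ∈ q0 → g3 ∈ q0 → g4 ∈ q0 →
      ∃ a b : Ideal A, a.IsPrime ∧ b.IsPrime ∧ a ≠ ⊥ ∧ a < b ∧ b < q0) :
    (Ideal.span ({C g2 + X * C g1, C g4 + X * C g3} : Set A[X])).radical.IsPrime := by
  let I := Ideal.span ({C g2 + X * C g1, C g4 + X * C g3} : Set A[X])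
  haveI := hQp
  let Qe := g1 * g4 - g2 * g3
  let D := A ⧸ Ideal.span {Qe}
  let K := FractionRing D
  let π : A →+* K := (algebraMap D K).comp (Ideal.Quotient.mk _)
  have hπ : ∀ a, π a = 0 ↔ Qe ∣ a := fun a => by
    simp only [π, RingHom.comp_apply]
    rw [map_eq_zero_iff _ (IsFractionRing.injective D K), Ideal.Quotient.eq_zero_iff_mem,
      Ideal.mem_span_singleton]
  have hg1 : π g1 ≠ 0 := fun h => hQg ((hπ _).1 h)
  let Φ : A[X] →+* K := eval₂RingHom π (-(π g2) / π g1)
  let P := RingHom.ker Φ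
  haveI hPp : P.IsPrime := RingHom.ker_isPrime Φ
  have hQI : C Qe ∈ I := Ideal.mem_span_pair.2 ⟨-C g3, C g1, by
    simp only [Qe, map_sub, map_mul]; ring⟩
  have hs2 : Φ (C g2 + X * C g1) = 0 := by
    simp only [Φ, coe_eval₂RingHom, eval₂_add, eval₂_mul, eval₂_C, eval₂_X]
    rw [div_mul_cancel₀ _ hg1, add_neg_cancel]
  have hs4 : Φ (C g4 + X * C g3) = 0 := by
    simp only [Φ, coe_eval₂RingHom, eval₂_add, eval₂_mul, eval₂_C, eval₂_X]
    have : π Qe = 0 := (hπ _).2 dvd_rfl
    simp only [Qe, map_sub, map_mul] at this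
    rw [div_mul_eq_mul_div, add_div' _ _ _ hg1, div_eq_zero_iff]
    exact Or.inl (by linear_combination this)
  have hIP : I ≤ P := Ideal.span_le.2 fun x hx => by
    rcases hx with rfl | rfl
    exacts [hs2, hs4]
  have hred : ∀ c : A[X], ∃ (n : ℕ) (a : A), C g1 ^ n * c - C a ∈ I := fun c => by
    induction c using Polynomial.induction_on with
    | C a => exact ⟨0, a, by simp⟩
    | add p q hp hq =>
      obtain ⟨n, a, ha⟩ := hp
      obtain ⟨m, b, hb⟩ := hq
      refine ⟨n + m, g1 ^ m * a + g1 ^ n * b, ?_⟩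
      have e : C g1 ^ (n + m) * (p + q) - C (g1 ^ m * a + g1 ^ n * b) =
          C g1 ^ m * (C g1 ^ n * p - C a) + C g1 ^ n * (C g1 ^ m * q - C b) := by
        simp only [map_add, map_mul, map_pow]; ring
      rw [e]
      exact add_mem (I.mul_mem_left _ ha) (I.mul_mem_left _ hb)
    | monomial i a hi =>
      obtain ⟨n, b, hb⟩ := hi
      refine ⟨n + 1, -g2 * b, ?_⟩
      have e : C g1 ^ (n + 1) * (C a * X ^ (i + 1)) - C (-g2 * b) =
          (X * C g1) * (C g1 ^ n * (C a * X ^ i) - C b) + C b * (C g2 + X * C g1) := by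
        simp only [map_neg, map_mul]; ring
      rw [e]
      exact add_mem (I.mul_mem_left _ hb) (I.mul_mem_left _ (Ideal.subset_span (Or.inl rfl)))
  have hPI : ∀ c ∈ P, ∃ n, C g1 ^ n * c ∈ I := fun c hc => by
    obtain ⟨n, a, ha⟩ := hred c
    refine ⟨n, ?_⟩
    have h0 : π a = 0 := by
      have := hIP ha
      rw [RingHom.mem_ker, map_sub, map_mul, RingHom.mem_ker.1 hc, mul_zero, zero_sub, neg_eq_zero] at this
      simpa [Φ] using this
    obtain ⟨b, rfl⟩ := (hπ a).1 h0
    have := I.add_mem ha (show C (Qe * b) ∈ I by rw [map_mul]; exact I.mul_mem_right _ hQI)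
    rwa [sub_add_cancel] at this
  have hno : ∀ q ∈ I.minimalPrimes, C g1 ∉ q := by
    intro q hq h1
    haveI := hq.1.1
    have hle : q.height ≤ 2 :=
      (Ideal.height_le_card_of_mem_minimalPrimes_span (Set.toFinite _) hq).trans (by
        exact_mod_cast (Set.ncard_insert_le _ _).trans (by simp))
    haveI : q.FiniteHeight := q.finiteHeight_iff.2 (Or.inr (ne_top_of_le_ne_top (by simp) hle))
    have hmem : ∀ x ∈ ({C g2 + X * C g1, C g4 + X * C g3} : Set A[X]), x ∈ q := fun x hx =>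
      hq.1.2 (Ideal.subset_span hx)
    let q0 : Ideal A := q.comap C
    have h2 : g2 ∈ q0 := by
      have := q.sub_mem (hmem _ (Or.inl rfl)) (q.mul_mem_left X h1)
      simpa [q0] using this
    haveI hq0 : q0.IsPrime := Ideal.IsPrime.comap _
    have hC : ∀ (J : Ideal A) (x : A), C x ∈ J.map (C : A →+* A[X]) ↔ x ∈ J := fun J x => by
      refine ⟨fun h => ?_, fun h => Ideal.mem_map_of_mem _ h⟩
      simpa using Ideal.mem_map_C_iff.1 h 0
    have hmono : ∀ {I J : Ideal A}, I < J → I.map (C : A →+* A[X]) < J.map C := fun {I J} h =>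
      lt_of_le_of_ne (Ideal.map_mono h.le) fun e => h.not_ge fun x hx => (hC I x).1 (e ▸ (hC J x).2 hx)
    have h0q : q0.map (C : A →+* A[X]) ≤ q := Ideal.map_le_iff_le_comap.2 le_rfl
    obtain ⟨a, b, ha, hb, ha0, hab, hbq⟩ : ∃ a b : Ideal A, a.IsPrime ∧ b.IsPrime ∧ a ≠ ⊥ ∧ a < b ∧
        b.map (C : A →+* A[X]) < q := by
      rcases eq_or_lt_of_le h0q with heq | hlt
      · have h4 := Ideal.mem_map_C_iff.1 (heq ▸ hmem _ (Or.inr rfl) : C g4 + X * C g3 ∈ q0.map C)
        obtain ⟨a, b, ha, hb, ha0, hab, hbq⟩ := hhigh q0 hq0 h1 h2 (by simpa using h4 1) (by simpa using h4 0)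
        exact ⟨a, b, ha, hb, ha0, hab, (hmono hbq).trans_le h0q⟩
      · obtain ⟨a, b, ha, hb, ha0, hab, hbq⟩ := hlow q0 hq0 h1 h2
        exact ⟨a, b, ha, hb, ha0, hab, (Ideal.map_mono hbq).trans_lt hlt⟩
    haveI : (a.map (C : A →+* A[X])).IsPrime := (by haveI := ha; exact Ideal.isPrime_map_C_of_isPrime)
    haveI : (b.map (C : A →+* A[X])).IsPrime := (by haveI := hb; exact Ideal.isPrime_map_C_of_isPrime)
    have h0a : (⊥ : Ideal A[X]) < a.map C := bot_lt_iff_ne_bot.2 fun h =>
      ha0 (eq_bot_iff.2 fun x hx => by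
        have := (hC a x).2 hx
        rw [h, Ideal.mem_bot, C_eq_zero] at this
        exact this)
    have A' := Ideal.height_strict_mono_of_isPrime_of_isPrime (J := q) hbq
    haveI : (b.map (C : A →+* A[X])).FiniteHeight := (Ideal.finiteHeight_iff _).2 (Or.inr A'.ne_top)
    have B' := Ideal.height_strict_mono_of_isPrime_of_isPrime (J := b.map C) (hmono hab)
    haveI : (a.map (C : A →+* A[X])).FiniteHeight := (Ideal.finiteHeight_iff _).2 (Or.inr B'.ne_top)
    have C' := Ideal.height_strict_mono_of_isPrime_of_isPrime (J := a.map C) h0a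
    have e1 : (1 : ℕ∞) ≤ (a.map (C : A →+* A[X])).height :=
      Order.one_le_iff_pos.2 (lt_of_le_of_lt bot_le C')
    have e2 : (2 : ℕ∞) ≤ (b.map (C : A →+* A[X])).height :=
      calc (2 : ℕ∞) = 1 + 1 := by norm_num
        _ ≤ (a.map (C : A →+* A[X])).height + 1 := add_le_add_left e1 1
        _ ≤ _ := (ENat.add_one_le_iff B'.ne_top).2 B'
    exact hle.not_gt (e2.trans_lt A')
  have : I.radical = P := by
    refine le_antisymm ((Ideal.IsPrime.radical_le_iff hPp).2 hIP) ?_
    rw [← Ideal.sInf_minimalPrimes]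
    refine le_sInf fun q hq c hc => ?_
    haveI := hq.1.1
    obtain ⟨n, hn⟩ := hPI c hc
    exact (‹q.IsPrime›.mem_or_mem (hq.1.2 hn)).resolve_left fun h =>
      hno q hq (‹q.IsPrime›.mem_of_pow_mem n h)
  exact this.symm ▸ hPp

variable (k : Type u) [Field k]

/-- Polynomials in three variables. -/
abbrev B := MvPolynomial (Fin 3) k

def f1 : B k := MvPolynomial.X 0 + MvPolynomial.X 1 + MvPolynomial.X 2
def f2 : B k := MvPolynomial.X 0 * MvPolynomial.X 1 + MvPolynomial.X 0 * MvPolynomial.X 2 +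
  MvPolynomial.X 1 * MvPolynomial.X 2
def f3 : B k := MvPolynomial.X 0 * MvPolynomial.X 1 * MvPolynomial.X 2

/-- Elementary symmetric polynomials in four variables, the first being `X`. -/
def g1 : (B k)[X] := X + C (f1 k)
def g2 : (B k)[X] := C (f1 k) * X + C (f2 k)
def g3 : (B k)[X] := C (f2 k) * X + C (f3 k)
def g4 : (B k)[X] := C (f3 k) * X

/-- The elimination quadric. -/
def Q : (B k)[X] := g1 k * g4 k - g2 k * g3 k

theorem Q_eq : Q k = C (f3 k - f1 k * f2 k) * X ^ 2 + C (-(f2 k) ^ 2) * X + C (-(f2 k * f3 k)) := by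
  simp only [Q, g1, g2, g3, g4, map_sub, map_mul, map_neg, map_pow]
  ring

theorem irr_X (i : Fin 3) : Irreducible (MvPolynomial.X i : B k) := by
  refine irreducible_iff.2 ⟨fun h => ?_, fun a b h => ?_⟩
  · simpa using (h.map (MvPolynomial.constantCoeff : B k →+* k)).ne_zero
  · have hd := congrArg MvPolynomial.totalDegree h
    have ha : a ≠ 0 := fun h0 => by simp [h0] at h
    have hb : b ≠ 0 := fun h0 => by simp [h0] at h
    rw [MvPolynomial.totalDegree_X, MvPolynomial.totalDegree_mul_of_isDomain ha hb] at hd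
    rcases Nat.eq_zero_or_pos a.totalDegree with h0 | h0
    · left
      obtain ⟨c, hc⟩ : ∃ c, a = MvPolynomial.C c := ⟨_, MvPolynomial.totalDegree_eq_zero_iff_eq_C.1 h0⟩
      rw [hc] at ha ⊢
      exact (isUnit_iff_ne_zero.2 fun h => ha (by rw [h, map_zero])).map _
    · right
      obtain ⟨c, hc⟩ : ∃ c, b = MvPolynomial.C c :=
        ⟨_, MvPolynomial.totalDegree_eq_zero_iff_eq_C.1 (by omega)⟩
      rw [hc] at hb ⊢
      exact (isUnit_iff_ne_zero.2 fun h => hb (by rw [h, map_zero])).map _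

theorem isUnit_of_dvd_f2_f3 {r : B k} (hr : Irreducible r) (h2 : r ∣ f2 k) (h3 : r ∣ f3 k) : False := by
  have hp : Prime r := hr.prime
  obtain ⟨i, hi⟩ : ∃ i : Fin 3, Associated r (MvPolynomial.X i) := by
    rcases hp.dvd_or_dvd h3 with h | h
    · rcases hp.dvd_or_dvd h with h | h
      · exact ⟨0, hr.associated_of_dvd (irr_X k 0) h⟩
      · exact ⟨1, hr.associated_of_dvd (irr_X k 1) h⟩
    · exact ⟨2, hr.associated_of_dvd (irr_X k 2) h⟩
  obtain ⟨c, hc⟩ := hi.symm.dvd.trans h2
  have := congrArg (MvPolynomial.eval fun j => if j = i then (0 : k) else 1) hc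
  fin_cases i <;> simp [f2] at this

variable [CharZero k]

theorem discr_not_square (w : B k) :
    (-(f2 k) ^ 2) ^ 2 - 4 * (f3 k - f1 k * f2 k) * (-(f2 k * f3 k)) ≠ w ^ 2 := by
  intro h
  let ev : B k →+* k[X] := MvPolynomial.eval₂Hom (C : k →+* k[X]) ![X, 1, 1]
  let v := ev w
  have x0 : ev (MvPolynomial.X 0) = X := by simp [ev]
  have x1 : ev (MvPolynomial.X 1) = 1 := by simp [ev]
  have x2 : ev (MvPolynomial.X 2) = 1 := by simp [ev]
  have y1 : ev (f1 k) = X + 2 := by rw [f1, map_add, map_add, x0, x1, x2]; ring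
  have y2 : ev (f2 k) = 2 * X + 1 := by rw [f2, map_add, map_add, map_mul, map_mul, map_mul, x0, x1, x2]; ring
  have y3 : ev (f3 k) = X := by rw [f3, map_mul, map_mul, x0, x1, x2]; ring
  have h' : (2 * X + 1 : k[X]) ^ 4 + 4 * (X - (X + 2) * (2 * X + 1)) * ((2 * X + 1) * X) = v ^ 2 := by
    have h2 := congrArg ev h
    simp only [map_sub, map_mul, map_pow, map_neg, map_ofNat, y1, y2, y3] at h2
    linear_combination h2
  have e0 := congrArg (Polynomial.eval (-1 / 2 : k)) h'
  have e1 := congrArg (fun p => Polynomial.eval (-1 / 2 : k) (derivative p)) h'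
  simp only [eval_sub, eval_mul, eval_pow, eval_add, eval_X, eval_one, eval_ofNat] at e0
  have hv : v.eval (-1 / 2 : k) = 0 := by
    norm_num at e0
    first | exact e0 | exact e0.symm | exact (by rw [neg_div]; exact (pow_eq_zero_iff two_ne_zero).1 e0.symm)
  simp [derivative_mul, derivative_pow, hv] at e1
  norm_num at e1

theorem irreducible_Q : Irreducible (Q k) := by
  let a := f3 k - f1 k * f2 k
  let b := -(f2 k) ^ 2
  let c := -(f2 k * f3 k)
  have ha : a ≠ 0 := fun h => by
    have := congrArg (MvPolynomial.eval ![(0 : k), 1, 1]) h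
    simp [a, f1, f2, f3] at this
  have hprim : (Q k).IsPrimitive := by
    intro r hr
    rw [Polynomial.C_dvd_iff_dvd_coeff] at hr
    have e : ∀ i, (Q k).coeff i = (C a * X ^ 2 + C b * X + C c).coeff i := fun i => by rw [Q_eq]
    have h0 : r ∣ a := by simpa [e, coeff_add, coeff_C_mul, coeff_X_pow, coeff_X, coeff_C] using hr 2
    have h1 : r ∣ b := by simpa [e, coeff_add, coeff_C_mul, coeff_X_pow, coeff_X, coeff_C] using hr 1
    by_contra hu
    obtain ⟨q, hq, hqr⟩ := WfDvdMonoid.exists_irreducible_factor hu fun h => ha (zero_dvd_iff.1 (h ▸ h0))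
    have hq2 : q ∣ f2 k := hq.prime.dvd_of_dvd_pow (dvd_neg.1 (hqr.trans h1))
    have hq3 : q ∣ f3 k := by
      have := dvd_add (hqr.trans h0) (hq2.mul_left (f1 k))
      simpa [a] using this
    exact isUnit_of_dvd_f2_f3 k hq hq2 hq3
  let K := FractionRing (B k)
  rw [hprim.irreducible_iff_irreducible_map_fraction_map (K := K)]
  let φ := algebraMap (B k) K
  have hm : (Q k).map φ = C (φ a) * X ^ 2 + C (φ b) * X + C (φ c) := by
    simp [Q_eq, a, b, c, φ]
  have hd : ((Q k).map φ).natDegree = 2 := by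
    rw [hm]
    exact natDegree_quadratic ((map_ne_zero_iff φ (IsFractionRing.injective _ K)).2 ha)
  change Irreducible ((Q k).map φ)
  rw [irreducible_iff_roots_eq_zero_of_degree_le_three hd.ge (hd.le.trans (by omega))]
  refine Multiset.eq_zero_of_forall_notMem fun r hr => ?_
  have hr' := (mem_roots'.1 hr).2
  rw [IsRoot, hm] at hr'
  simp only [eval_add, eval_mul, eval_C, eval_pow, eval_X] at hr'
  have hs : φ (b ^ 2 - 4 * a * c) = (2 * φ a * r + φ b) ^ 2 := by
    rw [map_sub, map_mul, map_mul, map_pow, map_ofNat]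
    linear_combination (-4 * φ a) * hr'
  obtain ⟨w, hw⟩ := IsIntegrallyClosed.exists_algebraMap_eq_of_isIntegral_pow (R := B k)
    (x := 2 * φ a * r + φ b) two_pos (hs ▸ isIntegral_algebraMap)
  exact discr_not_square k w (IsFractionRing.injective (B k) K (by rw [map_pow, hw, ← hs]))

theorem isPrime_radical :
    (Ideal.radical (R := (B k)[X][X])
      (Ideal.span ({C (g2 k) + X * C (g1 k), C (g4 k) + X * C (g3 k)} : Set (B k)[X][X]))).IsPrime := by
  have hdeg : (Q k).natDegree = 2 := by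
    rw [Q_eq]
    refine natDegree_quadratic fun h => ?_
    have := congrArg (MvPolynomial.eval ![(0 : k), 1, 1]) h
    simp [f1, f2, f3] at this
  have hg1d : (g1 k).natDegree = 1 := natDegree_X_add_C _
  refine isPrime_radical_of (A := (B k)[X]) (g1 k) (g2 k) (g3 k) (g4 k)
    ((Ideal.span_singleton_prime (irreducible_Q k).ne_zero).2 (irreducible_Q k).prime) (fun h => ?_)
    (fun q0 hq0 h1 h2 => ?_) fun q0 hq0 h1 h2 hg3 hg4 => ?_
  · have := natDegree_le_of_dvd h (fun h0 => by rw [h0, natDegree_zero] at hg1d; omega)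
    change (Q k).natDegree ≤ _ at this
    omega
  · let p1 : Ideal (B k)[X] := Ideal.span {g1 k}
    have hg1eq : g1 k = X - C (-f1 k) := by simp [g1]
    have hp1 : p1.IsPrime := (Ideal.span_singleton_prime (hg1eq ▸ X_sub_C_ne_zero _)).2
      (hg1eq ▸ prime_X_sub_C _)
    refine ⟨p1, q0, hp1, hq0, fun h => ?_, lt_of_le_of_ne ((Ideal.span_singleton_le_iff_mem _).2 h1) fun h => ?_, le_rfl⟩
    · rw [Ideal.span_singleton_eq_bot] at h
      rw [h, natDegree_zero] at hg1d
      omega
    · rw [← h, Ideal.mem_span_singleton] at h2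
      obtain ⟨t, ht⟩ := h2
      have := congrArg (fun p : (B k)[X] => MvPolynomial.eval ![(-1 : k), 0, 0] (p.eval 1)) ht
      simp [g1, g2, f1, f2] at this
  · have hx : (X : (B k)[X]) ∈ q0 ∧ ∀ i, C (MvPolynomial.X i) ∈ q0 := by
      have key : ∀ y : (B k)[X], y ^ 4 - g1 k * y ^ 3 + g2 k * y ^ 2 - g3 k * y + g4 k = 0 → y ∈ q0 :=
        fun y hy => hq0.mem_of_pow_mem 4 (by
          rw [show y ^ 4 = y ^ 3 * g1 k - y ^ 2 * g2 k + y * g3 k - g4 k by linear_combination hy]
          exact q0.sub_mem (q0.add_mem (q0.sub_mem (q0.mul_mem_left _ h1) (q0.mul_mem_left _ h2))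
            (q0.mul_mem_left _ hg3)) hg4)
      refine ⟨key _ ?_, fun i => key _ ?_⟩
      · simp only [g1, g2, g3, g4]; ring
      · fin_cases i <;> simp only [g1, g2, g3, g4, f1, f2, f3, map_add, map_mul, Fin.zero_eta, Fin.mk_one,
          Fin.reduceFinMk] <;> ring
    let e0 : (B k)[X] →+* B k := evalRingHom 0
    let e1 : B k →+* B k := (MvPolynomial.aeval (fun i => if i = 0 then (0 : B k) else MvPolynomial.X i) :
      B k →ₐ[k] B k).toRingHom
    let r1 := RingHom.ker e0
    let r2 := RingHom.ker (e1.comp e0)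
    have hX : (X : (B k)[X]) ∈ r1 := by simp [r1, e0]
    refine ⟨r1, r2, RingHom.ker_isPrime _, RingHom.ker_isPrime _, fun h => ?_,
      lt_of_le_of_ne (fun x hx => by rw [RingHom.mem_ker, RingHom.comp_apply, RingHom.mem_ker.1 hx, map_zero])
        fun h => ?_, lt_of_le_of_ne (fun x hxr => ?_) fun h => ?_⟩
    · rw [h, Ideal.mem_bot] at hX
      exact X_ne_zero hX
    · have : C (MvPolynomial.X 0) ∈ r1 := by rw [h]; simp [r2, e0, e1]
      simp [r1, e0] at this
    · have hb : ∀ b : B k, C (b - e1 b) ∈ q0 := fun b => by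
        induction b using MvPolynomial.induction_on with
        | C c => simp [e1]
        | add p r hp hr => rw [map_add e1, add_sub_add_comm, map_add]; exact q0.add_mem hp hr
        | mul_X p i hp =>
          have e : e1 (p * MvPolynomial.X i) = e1 p * (if i = 0 then 0 else MvPolynomial.X i) := by simp [e1]
          rw [e]
          by_cases hi : i = 0
          · rw [if_pos hi, mul_zero, sub_zero, map_mul]
            exact q0.mul_mem_left _ (hi ▸ hx.2 i)
          · rw [if_neg hi, ← sub_mul, map_mul]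
            exact q0.mul_mem_right _ hp
      have h0 := hb (x.eval 0)
      rw [show e1 (x.eval 0) = 0 from hxr, sub_zero] at h0
      obtain ⟨t, ht⟩ : (X : (B k)[X]) ∣ x - C (x.eval 0) := by
        rw [X_dvd_iff]; simp [coeff_zero_eq_eval_zero]
      rw [show x = X * t + C (x.eval 0) by rw [← ht]; ring]
      exact q0.add_mem (q0.mul_mem_right _ hx.1) h0
    · have := hx.2 1
      rw [← h] at this
      simp [r2, e0, e1] at this

end Groth.Agent.CubicLib.EsymmIrred
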