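import Groth.Agent.CubicLib.Tritangent
import Groth.Agent.CubicLib.Bridge

/-! Finiteness of lines away from the ruled case; tangent sections off the lines. -/

namespace Groth.Agent.CubicLib

open Module

universe u

variable {K : Type u} [Field K] [IsAlgClosed K] [CharZero K] {G : Cubic K (Fin 4 → K)}

/-- At a smooth point off all lines the tangent section is not a union of lines. -/
theorem false_of_product {f : MvPolynomial (Fin 4) K} (hG : ∀ v, MvPolynomial.eval v f = G.F v)
    (hd : ∀ v i, MvPolynomial.eval v (MvPolynomial.pderiv i f) = 3 * G.T v v (Pi.single i 1))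
    {q : Fin 4 → K} (hq0 : q ≠ 0) (hFq : G.F q = 0) (hqL : ∀ U, IsLine G U → q ∉ U)
    {L₁ L₂ L₃ : MvPolynomial (Fin 4) K} (h₁ : L₁.IsHomogeneous 1) (h₂ : L₂.IsHomogeneous 1)
    (h₃ : L₃.IsHomogeneous 1)
    (hmem : f - L₁ * L₂ * L₃ ∈ Ideal.span {∑ i : Fin 4,
      MvPolynomial.C (MvPolynomial.eval q (MvPolynomial.pderiv i f)) * MvPolynomial.X i}) : False := by
  obtain ⟨c, hc⟩ := Ideal.mem_span_singleton'.1 hmem
  have hev : ∀ v, G.T q q v = 0 →
      G.F v = MvPolynomial.eval v L₁ * MvPolynomial.eval v L₂ * MvPolynomial.eval v L₃ := fun v hv => by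
    have := congrArg (MvPolynomial.eval v) hc
    simp only [map_mul, map_sub, hG, map_sum, MvPolynomial.eval_C, MvPolynomial.eval_X, hd] at this
    have h0 : ∑ i, 3 * G.T q q (Pi.single i 1) * v i = 3 * G.T q q v := by
      conv_rhs => rw [pi_eq_sum_univ' v, map_sum, Finset.mul_sum]
      exact Finset.sum_congr rfl fun i _ => by rw [map_smul, smul_eq_mul]; ring
    rw [h0, hv, mul_zero, mul_zero] at this
    linear_combination -this
  have hlin : ∀ L : MvPolynomial (Fin 4) K, L.IsHomogeneous 1 →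
      ∃ l : (Fin 4 → K) →ₗ[K] K, ∀ v, MvPolynomial.eval v L = l v := fun L hL => by
    obtain ⟨c, l, hl⟩ := exists_affine L hL.totalDegree_le
    have hc0 : c = 0 := by
      have := hl 0
      rw [map_zero, add_zero, MvPolynomial.eval_zero, MvPolynomial.constantCoeff_eq, hL.coeff_eq_zero (by simp)] at this
      exact this.symm
    exact ⟨l, fun v => by rw [hl, hc0, zero_add]⟩
  obtain ⟨l₁, hl₁⟩ := hlin L₁ h₁
  obtain ⟨l₂, hl₂⟩ := hlin L₂ h₂
  obtain ⟨l₃, hl₃⟩ := hlin L₃ h₃
  have hq3 := hev q hFq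
  rw [hFq, hl₁, hl₂, hl₃] at hq3
  obtain ⟨l, hlq, hlF⟩ : ∃ l : (Fin 4 → K) →ₗ[K] K, l q = 0 ∧ ∀ v, G.T q q v = 0 → l v = 0 → G.F v = 0 := by
    rcases mul_eq_zero.1 hq3.symm with h | h
    · rcases mul_eq_zero.1 h with h | h
      · exact ⟨l₁, h, fun v hv hl => by rw [hev v hv, hl₁, hl]; simp⟩
      · exact ⟨l₂, h, fun v hv hl => by rw [hev v hv, hl₂, hl]; simp⟩
    · exact ⟨l₃, h, fun v hv hl => by rw [hev v hv, hl₃, hl]; simp⟩
  obtain ⟨v, hv, hvq⟩ : ∃ v, (G.T q q v = 0 ∧ l v = 0) ∧ v ∉ Submodule.span K {q} := by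
    by_contra! h
    have hk := LinearMap.finrank_range_add_finrank_ker ((G.T q q).prod l)
    have hr := (Submodule.finrank_le (LinearMap.range ((G.T q q).prod l)))
    rw [Module.finrank_prod, Module.finrank_self] at hr
    have hle : LinearMap.ker ((G.T q q).prod l) ≤ Submodule.span K {q} := fun v hv => by
      exact h v ⟨congrArg Prod.fst (LinearMap.mem_ker.1 hv), congrArg Prod.snd (LinearMap.mem_ker.1 hv)⟩
    have h1 := Submodule.finrank_mono hle
    rw [finrank_span_singleton hq0] at h1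
    rw [Module.finrank_fin_fun] at hk
    omega
  refine hqL (line q v) ⟨finrank_line ((LinearIndependent.pair_iff' hq0).2 fun c hc' =>
    hvq (hc' ▸ Submodule.mem_span_singleton.2 ⟨c, rfl⟩)), fun u hu => ?_⟩ (Submodule.subset_span (by simp))
  obtain ⟨A, B, rfl⟩ := mem_line.1 hu
  refine hlF _ ?_ ?_
  · rw [map_add, map_smul, map_smul, hv.1, show G.T q q q = 0 from hFq]; simp
  · rw [map_add, map_smul, map_smul, hv.2, hlq]; simp

/-- Without a line of singular points there are finitely many lines, and all points off them and off one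
further subspace are smooth. -/
theorem finite_lines_of_no_singular_line (hirr : G.Irred) (hcone : ∀ a : Fin 4 → K, a ≠ 0 → G.T a ≠ 0)
    (hscroll : ∀ U : Submodule K (Fin 4 → K), finrank K U = 2 → ∃ x ∈ U, ∃ w, G.T x x w ≠ 0) :
    ∃ W : Submodule K (Fin 4 → K), finrank K W ≤ 2 ∧ (lines G).Finite ∧
      ∀ q, q ≠ 0 → G.F q = 0 → q ∉ W → (∀ U, IsLine G U → q ∉ U) → ∃ m, G.T q q m ≠ 0 := by
  by_cases hsm : G.Smooth
  · exact ⟨⊥, by simp, finite_lines_smooth hirr hsm, fun q hq hF _ _ => hsm q hq hF⟩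
  simp only [Cubic.Smooth, not_forall, not_exists, not_not] at hsm
  obtain ⟨o, ho, -, hsing⟩ := hsm
  refine ⟨Submodule.span K {o}, by rw [finrank_span_singleton ho]; norm_num,
    finite_lines_singular hirr ho hsing (hcone o ho) hscroll, fun q hq hF hqo hqL => ?_⟩
  by_contra! hq'
  refine hqL (line o q) ⟨finrank_line ((LinearIndependent.pair_iff' ho).2 fun c hc' =>
    hqo (hc' ▸ Submodule.mem_span_singleton.2 ⟨c, rfl⟩)), fun u hu => ?_⟩ (Submodule.subset_span (by simp))
  obtain ⟨A, B, rfl⟩ := mem_line.1 hu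
  rw [G.F_comb₂, hsing, show G.F o = 0 from hsing o, hF, G.symm₁₃ o q q, hq']
  ring

/-- All singular points lie on a line of singular points. -/
theorem mem_singular_line (hirr : G.Irred) {U : Submodule K (Fin 4 → K)} (hU : finrank K U = 2)
    (hsing : ∀ x ∈ U, ∀ w, G.T x x w = 0) {x : Fin 4 → K} (hx : ∀ w, G.T x x w = 0) : x ∈ U := by
  by_contra hxU
  obtain ⟨b, hb⟩ := exists_linearIndependent_of_le_finrank (R := K) (M := U) (n := 2) hU.ge
  set o : Fin 4 → K := (b 0 : Fin 4 → K)
  set z : Fin 4 → K := (b 1 : Fin 4 → K)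
  have hoz : LinearIndependent K ![o, z] := by
    have e : ![o, z] = U.subtype ∘ b := by funext i; fin_cases i <;> rfl
    rw [e]; exact hb.map' _ U.ker_subtype
  have hUe : U = line o z := eq_line (b 0).2 (b 1).2 hU hoz
  have hli : LinearIndependent K ![o, z, x] := Fintype.linearIndependent_iff.2 fun c hc => by
    simp only [Fin.sum_univ_three, Matrix.cons_val_zero, Matrix.cons_val_one, Matrix.cons_val] at hc
    have h2 : c 2 = 0 := by
      by_contra h2
      refine hxU ((Submodule.smul_mem_iff U h2).1 ?_)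
      rw [hUe]
      exact mem_line.2 ⟨-c 0, -c 1, by linear_combination (norm := module) -hc⟩
    rw [h2, zero_smul, add_zero] at hc
    obtain ⟨h0, h1⟩ := LinearIndependent.pair_iff.1 hoz _ _ hc
    intro i; fin_cases i <;> assumption
  obtain ⟨u, hu, hFu⟩ := no_hyperplane hirr (plane o z x) (finrank_plane hli)
  obtain ⟨a, b', c, rfl⟩ := mem_plane.1 hu
  refine hFu ?_
  rw [show a • o + b' • z + c • x = (a • o + b' • z) + c • x from rfl, G.F_add_smul]
  have hy : a • o + b' • z ∈ U := add_mem (U.smul_mem _ (b 0).2) (U.smul_mem _ (b 1).2)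
  rw [G.symm₁₃ (a • o + b' • z) x x, show G.F (a • o + b' • z) = 0 from hsing _ hy _, hsing _ hy, hx,
    show G.F x = 0 from hx x]
  ring

end Groth.Agent.CubicLib
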