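import Mathlib.RingTheory.MvPolynomial.EulerIdentity
import Mathlib.Algebra.MvPolynomial.Funext
import Mathlib.LinearAlgebra.Matrix.ToLin
import Mathlib.Algebra.CharZero.Defs
import Mathlib.Tactic.LinearCombination

/-! Cubic forms as symmetric trilinear forms. -/

namespace Groth.Agent.CubicLib

open MvPolynomial

universe u v

variable {K : Type u} [Field K]

theorem pderiv_comm' {σ : Type v} (i j : σ) (f : MvPolynomial σ K) :
    pderiv i (pderiv j f) = pderiv j (pderiv i f) := by
  classical
  rcases eq_or_ne i j with rfl | hij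
  · rfl
  ext m
  simp only [coeff_pderiv]
  rw [add_right_comm m (Finsupp.single j 1) (Finsupp.single i 1)]
  simp [Finsupp.add_apply, Finsupp.single_eq_of_ne hij, Finsupp.single_eq_of_ne hij.symm, mul_right_comm]

/-- A symmetric trilinear form. -/
structure Cubic (K : Type u) [Field K] (V : Type v) [AddCommGroup V] [Module K V] where
  /-- the trilinear form -/
  T : V →ₗ[K] V →ₗ[K] V →ₗ[K] K
  symm₁₂ : ∀ a b c, T a b c = T b a c
  symm₂₃ : ∀ a b c, T a b c = T a c b

namespace Cubic

variable {V : Type v} [AddCommGroup V] [Module K V] (G : Cubic K V)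

/-- the cubic function -/
def F (v : V) : K := G.T v v v

theorem symm₁₃ (a b c : V) : G.T a b c = G.T c b a := by
  rw [G.symm₁₂ a b c, G.symm₂₃ b a c, G.symm₁₂ b c a]

theorem F_add_smul (v w : V) (t : K) :
    G.F (v + t • w) = G.F v + 3 * t * G.T v v w + 3 * t ^ 2 * G.T v w w + t ^ 3 * G.F w := by
  simp only [F, map_add, map_smul, LinearMap.add_apply, LinearMap.smul_apply, smul_eq_mul]
  rw [G.symm₁₂ w v v, G.symm₂₃ v w v, G.symm₁₂ w v w, G.symm₂₃ w w v, G.symm₁₂ w v w]
  ring

theorem F_smul (c : K) (v : V) : G.F (c • v) = c ^ 3 * G.F v := by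
  simp only [F, map_smul, LinearMap.smul_apply, smul_eq_mul]
  ring

theorem F_comb₂ (v w : V) (s t : K) :
    G.F (s • v + t • w) =
      s ^ 3 * G.F v + 3 * s ^ 2 * t * G.T v v w + 3 * s * t ^ 2 * G.T v w w + t ^ 3 * G.F w := by
  simp only [G.F_add_smul (s • v) w t, G.F_smul, map_smul, LinearMap.smul_apply, smul_eq_mul]
  ring

theorem F_comb₃ (a b c : V) (x y z : K) :
    G.F (x • a + y • b + z • c) =
      x ^ 3 * G.F a + y ^ 3 * G.F b + z ^ 3 * G.F c
        + 3 * x ^ 2 * y * G.T a a b + 3 * x ^ 2 * z * G.T a a c + 3 * x * y ^ 2 * G.T a b b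
        + 3 * y ^ 2 * z * G.T b b c + 3 * x * z ^ 2 * G.T a c c + 3 * y * z ^ 2 * G.T b c c
        + 6 * x * y * z * G.T a b c := by
  rw [G.F_add_smul (x • a + y • b) c z, G.F_comb₂]
  simp only [map_add, map_smul, LinearMap.add_apply, LinearMap.smul_apply, smul_eq_mul]
  rw [G.symm₁₂ b a c]
  ring

/-- `f` vanishes on the submodule iff the trilinear form does (char 0). -/
theorem T_eq_zero_of_F [CharZero K] {U : Submodule K V} (h : ∀ u ∈ U, G.F u = 0)
    {a b c : V} (ha : a ∈ U) (hb : b ∈ U) (hc : c ∈ U) : G.T a b c = 0 := by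
  have h2 : ∀ a ∈ U, ∀ b ∈ U, G.T a a b = 0 := fun a ha b hb => by
    have h1 := G.F_comb₂ a b 1 1
    have h3 := G.F_comb₂ a b 1 (-1)
    rw [h _ (add_mem (U.smul_mem _ ha) (U.smul_mem _ hb)), h a ha, h b hb] at h1 h3
    have : 6 * G.T a a b = 0 := by linear_combination h3 - h1
    simpa using this
  have h4 := h2 (a + b) (add_mem ha hb) c hc
  simp only [map_add, LinearMap.add_apply] at h4
  rw [h2 a ha c hc, h2 b hb c hc, G.symm₁₂ b a c] at h4
  simpa using (show 2 * G.T a b c = 0 by linear_combination h4)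

end Cubic

variable {ι : Type v} [Fintype ι]

theorem exists_cubic [DecidableEq ι] [CharZero K] (f : MvPolynomial ι K) (hf : f.IsHomogeneous 3) :
    ∃ G : Cubic K (ι → K), (∀ v, eval v f = G.F v) ∧
      (∀ v i, eval v (pderiv i f) = 3 * G.T v v (Pi.single i 1)) ∧
      ∀ v i j, eval v (pderiv i (pderiv j f)) = 6 * G.T v (Pi.single i 1) (Pi.single j 1) := by
  let a : ι → ι → ι → K := fun i j k => coeff 0 (pderiv k (pderiv j (pderiv i f)))
  have ha₁ : ∀ i j k, a i j k = a j i k := fun i j k => by simp only [a, pderiv_comm' j i]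
  have ha₂ : ∀ i j k, a i j k = a i k j := fun i j k => by
    simp only [a, pderiv_comm' k j (pderiv i f)]
  let T : (ι → K) →ₗ[K] (ι → K) →ₗ[K] (ι → K) →ₗ[K] K :=
    ∑ i, ∑ j, ∑ k, ((6 : K)⁻¹ * a i j k) •
      (LinearMap.proj i : (ι → K) →ₗ[K] K).smulRight
        ((LinearMap.proj j : (ι → K) →ₗ[K] K).smulRight (LinearMap.proj k : (ι → K) →ₗ[K] K))
  have hT : ∀ u v w, T u v w = ∑ i, ∑ j, ∑ k, (6 : K)⁻¹ * a i j k * (u i * v j * w k) := fun u v w => by
    simp only [T, LinearMap.sum_apply, LinearMap.smul_apply, LinearMap.smulRight_apply,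
      LinearMap.proj_apply, smul_eq_mul, mul_assoc]
  have hsym₁ : ∀ u v w, T u v w = T v u w := fun u v w => by
    rw [hT, hT, Finset.sum_comm]
    refine Finset.sum_congr rfl fun i _ => Finset.sum_congr rfl fun j _ => Finset.sum_congr rfl fun k _ => ?_
    rw [ha₁]
    ring
  have hsym₂ : ∀ u v w, T u v w = T u w v := fun u v w => by
    rw [hT, hT]
    refine Finset.sum_congr rfl fun i _ => ?_
    rw [Finset.sum_comm]
    refine Finset.sum_congr rfl fun j _ => Finset.sum_congr rfl fun k _ => ?_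
    rw [ha₂]
    ring
  let G : Cubic K (ι → K) := ⟨T, hsym₁, hsym₂⟩
  have h0 : ∀ i j k v, eval v (pderiv k (pderiv j (pderiv i f))) = a i j k := by
    intro i j k v
    have hh : (pderiv k (pderiv j (pderiv i f))).IsHomogeneous 0 := by
      simpa using ((hf.pderiv (i := i)).pderiv (i := j)).pderiv (i := k)
    rw [← totalDegree_zero_iff_isHomogeneous, totalDegree_eq_zero_iff_eq_C] at hh
    rw [hh, eval_C]
  have h1 : ∀ i j v, eval v (pderiv j (pderiv i f)) = ∑ k, v k * a i j k := by
    intro i j v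
    have hh : (pderiv j (pderiv i f)).IsHomogeneous 1 := by
      simpa using (hf.pderiv (i := i)).pderiv (i := j)
    have h' := congrArg (eval v) hh.sum_X_mul_pderiv
    simpa [map_sum, h0] using h'.symm
  have h2 : ∀ i v, 2 * eval v (pderiv i f) = ∑ j, ∑ k, v j * v k * a i j k := by
    intro i v
    have hh : (pderiv i f).IsHomogeneous 2 := by simpa using hf.pderiv (i := i)
    have h' := congrArg (eval v) hh.sum_X_mul_pderiv
    simp only [map_sum, map_mul, eval_X, h1, Finset.mul_sum, map_nsmul, nsmul_eq_mul, Nat.cast_ofNat, map_ofNat] at h'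
    rw [← h']
    exact Finset.sum_congr rfl fun j _ => Finset.sum_congr rfl fun k _ => (mul_assoc _ _ _).symm
  have h3 : ∀ v, 6 * eval v f = ∑ i, ∑ j, ∑ k, v i * v j * v k * a i j k := by
    intro v
    have h' := congrArg (eval v) hf.sum_X_mul_pderiv
    simp only [map_sum, map_mul, eval_X, map_nsmul, nsmul_eq_mul, Nat.cast_ofNat, map_ofNat] at h'
    have e : (2 : K) * (3 * eval v f) = ∑ i, v i * (2 * eval v (pderiv i f)) := by
      rw [← h', Finset.mul_sum]
      exact Finset.sum_congr rfl fun i _ => by ring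
    rw [show (6 : K) * eval v f = 2 * (3 * eval v f) by ring, e]
    refine Finset.sum_congr rfl fun i _ => ?_
    simp only [h2, Finset.mul_sum]
    exact Finset.sum_congr rfl fun j _ => Finset.sum_congr rfl fun k _ => by ring
  have hsingle : ∀ (u w : ι → K) i, T u w (Pi.single i 1) = ∑ j, ∑ k, (6 : K)⁻¹ * a i j k * (u j * w k) := by
    intro u w i
    rw [hsym₂, hsym₁, hT]
    rw [Finset.sum_eq_single i]
    · simp
    · intro b _ hb
      simp [Pi.single_eq_of_ne hb]
    · simp
  refine ⟨G, fun v => ?_, fun v i => ?_, fun v i j => ?_⟩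
  · show _ = T v v v
    rw [hT]
    have h6 : (6 : K) ≠ 0 := by norm_num
    rw [← inv_mul_cancel_left₀ h6 (eval v f), h3]
    simp only [Finset.mul_sum]
    exact Finset.sum_congr rfl fun i _ => Finset.sum_congr rfl fun j _ => Finset.sum_congr rfl fun k _ => by ring
  · show _ = 3 * T v v (Pi.single i 1)
    rw [hsingle]
    have h2' := h2 i v
    rw [← inv_mul_cancel_left₀ (two_ne_zero : (2 : K) ≠ 0) (eval v (pderiv i f)), h2']
    simp only [Finset.mul_sum]
    refine Finset.sum_congr rfl fun j _ => Finset.sum_congr rfl fun k _ => ?_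
    have h23 : (2 : K)⁻¹ = 3 * (6 : K)⁻¹ := by norm_num
    rw [h23]
    ring
  · show _ = 6 * T v (Pi.single i 1) (Pi.single j 1)
    rw [h1, hsingle, Finset.mul_sum]
    refine Finset.sum_congr rfl fun k _ => ?_
    rw [Finset.sum_eq_single i]
    · rw [ha₂ j k i, ha₁ j i k]
      simp only [Pi.single_eq_same, mul_one]
      rw [← mul_assoc, ← mul_assoc, mul_inv_cancel₀ (by norm_num : (6:K) ≠ 0), one_mul, mul_comm]
    · intro b _ hb
      simp [Pi.single_eq_of_ne hb]
    · simp

theorem eval_substitution {n m : Type*} [Fintype m] (f : MvPolynomial n K) (A : Matrix n m K) (v : m → K) :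
    eval v (aeval (fun i => ∑ j, C (A i j) * X j) f) = eval (A.mulVec v) f := by
  simp only [aeval_def, algebraMap_eq]
  rw [eval₂_comp_left (eval v)]
  congr 1
  · ext r; simp
  · funext i; simp [Matrix.mulVec, dotProduct]

theorem substitution_eq_iff {n : Type*} [Fintype n] [Infinite K] (f g : MvPolynomial n K) (c : K)
    (A : Matrix n n K) :
    aeval (fun i => ∑ j, C (A i j) * X j) f = C c * g ↔ ∀ v, eval (A.mulVec v) f = c * eval v g := by
  constructor
  · intro h v
    rw [← eval_substitution, h, map_mul, eval_C]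
  · intro h
    refine MvPolynomial.funext fun v => ?_
    rw [eval_substitution, h, map_mul, eval_C]

end Groth.Agent.CubicLib
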