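import Groth.Agent.CubicLib.Weierstrass

/-! The Hesse pencil: flexes and their symmetries. -/

namespace Groth.Agent.CubicLib

universe u v

variable {K : Type u} [Field K]

namespace Cubic

variable {V : Type v} [AddCommGroup V] [Module K V] (G : Cubic K V)

theorem polar₃ (a b c : V) :
    6 * G.T a b c = G.F (a + b + c) - G.F (a + b) - G.F (a + c) - G.F (b + c) + G.F a + G.F b + G.F c := by
  have h1 := G.F_comb₃ a b c 1 1 1
  have h2 := G.F_comb₂ a b 1 1
  have h3 := G.F_comb₂ a c 1 1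
  have h4 := G.F_comb₂ b c 1 1
  rw [one_smul, one_smul] at h2 h3 h4
  rw [one_smul, one_smul, one_smul] at h1
  rw [h1, h2, h3, h4]
  ring

theorem exists_pullback (E : V ≃ₗ[K] V) (c : K) (hc : c ≠ 0) :
    ∃ G' : Cubic K V, (∀ p, G'.F p = c * G.F (E p)) ∧ ∀ p, G'.IsFlex p ↔ G.IsFlex (E p) := by
  let T' : V →ₗ[K] V →ₗ[K] V →ₗ[K] K :=
    LinearMap.mk₂ K (fun a b => c • ((G.T (E a) (E b)).comp E.toLinearMap))
      (fun a a' b => by ext x; simp [mul_add]) (fun r a b => by ext x; simp; ring)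
      (fun a b b' => by ext x; simp [mul_add]) (fun r a b => by ext x; simp; ring)
  have hT : ∀ a b d, T' a b d = c * G.T (E a) (E b) (E d) := fun a b d => by simp [T']
  refine ⟨⟨T', fun a b d => by rw [hT, hT, G.symm₁₂], fun a b d => by rw [hT, hT, G.symm₂₃]⟩,
    fun p => hT p p p, fun p => ⟨?_, ?_⟩⟩
  · rintro ⟨h0, w, hli, h1, h2⟩
    simp only [hT, Cubic.F, mul_eq_zero, hc, false_or] at h0 h1 h2
    refine ⟨h0, E w, ?_, h1, h2⟩
    rw [LinearIndependent.pair_iff] at hli ⊢
    exact fun s t h => hli s t (E.injective (by simpa using h))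
  · rintro ⟨h0, w, hli, h1, h2⟩
    refine ⟨?_, E.symm w, ?_, ?_, ?_⟩
    · show T' p p p = 0
      rw [hT, show G.T (E p) (E p) (E p) = 0 from h0, mul_zero]
    · rw [LinearIndependent.pair_iff] at hli ⊢
      exact fun s t h => hli s t (by simpa using congrArg E h)
    · rw [hT, LinearEquiv.apply_symm_apply, h1, mul_zero]
    · rw [hT, LinearEquiv.apply_symm_apply, h2, mul_zero]

end Cubic

theorem hesse_crit {k : K} (hk : k ^ 3 ≠ 1) {p : Fin 3 → K} (h₀ : p 0 ^ 2 = k * (p 1 * p 2))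
    (h₁ : p 1 ^ 2 = k * (p 0 * p 2)) (h₂ : p 2 ^ 2 = k * (p 0 * p 1)) : p = 0 := by
  have h : (1 - k ^ 3) * (p 0 * p 1 * p 2) ^ 2 = 0 := by
    linear_combination (p 1 ^ 2 * p 2 ^ 2) * h₀ + (k * (p 1 * p 2) * p 2 ^ 2) * h₁
      + (k * (p 1 * p 2) * (k * (p 0 * p 2))) * h₂
  have hprod : p 0 * p 1 * p 2 = 0 := by
    simpa [sub_eq_zero, Ne.symm hk] using h
  have e0 : p 0 = 0 := by
    have : p 0 ^ 3 = 0 := by linear_combination p 0 * h₀ + k * hprod
    simpa using this
  have e1 : p 1 = 0 := by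
    have : p 1 ^ 3 = 0 := by linear_combination p 1 * h₁ + k * hprod
    simpa using this
  have e2 : p 2 = 0 := by
    have : p 2 ^ 3 = 0 := by linear_combination p 2 * h₂ + k * hprod
    simpa using this
  ext i; fin_cases i <;> assumption

/-- the trilinear form of the Hesse cubic, times two -/
def hesseT (k : K) (a b d : Fin 3 → K) : K :=
  2 * (a 0 * b 0 * d 0 + a 1 * b 1 * d 1 + a 2 * b 2 * d 2)
    - k * (a 0 * b 1 * d 2 + a 0 * b 2 * d 1 + a 1 * b 0 * d 2 + a 1 * b 2 * d 0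
      + a 2 * b 0 * d 1 + a 2 * b 1 * d 0)

variable [CharZero K]

theorem T_hesse {G : Cubic K (Fin 3 → K)} {k : K} (hG : ∀ P, G.F P = hesse k P)
    (a b d : Fin 3 → K) : 2 * G.T a b d = hesseT k a b d := by
  have h : 6 * G.T a b d = 3 * hesseT k a b d := by
    rw [G.polar₃]
    simp only [hG, hesse, hesseT, Pi.add_apply]
    ring
  exact mul_left_cancel₀ (three_ne_zero : (3 : K) ≠ 0) (by linear_combination h)

theorem hesse_nonSing {G : Cubic K (Fin 3 → K)} {k : K} (hk : k ^ 3 ≠ 1)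
    (hG : ∀ P, G.F P = hesse k P) : G.NonSing := by
  intro p hp _
  by_contra! hcon
  refine hp (hesse_crit hk ?_ ?_ ?_)
  · have := T_hesse hG p p (Pi.single 0 1)
    rw [hcon, hesseT] at this
    simp at this
    linear_combination -(1 / 2 : K) * this
  · have := T_hesse hG p p (Pi.single 1 1)
    rw [hcon, hesseT] at this
    simp at this
    linear_combination -(1 / 2 : K) * this
  · have := T_hesse hG p p (Pi.single 2 1)
    rw [hcon, hesseT] at this
    simp at this
    linear_combination -(1 / 2 : K) * this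

theorem flex_xyz {G : Cubic K (Fin 3 → K)} {k : K} (hk : k ^ 3 ≠ 1)
    (hG : ∀ P, G.F P = hesse k P) {v : Fin 3 → K} (hv : v ≠ 0) (hflex : G.IsFlex v) :
    v 0 * v 1 * v 2 = 0 := by
  classical
  obtain ⟨hFv, w, hli, h1, h2⟩ := hflex
  have hns := hesse_nonSing hk hG
  obtain ⟨z, hz⟩ := hns v hv hFv
  let σ := G.T v w z / G.T v v z
  let u := w - σ • v
  have hu : u ≠ 0 := fun h => by
    have := (LinearIndependent.pair_iff.1 hli) (-σ) 1 (by rw [← h]; simp only [u]; module)
    exact one_ne_zero this.2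
  -- `T(v,u,·) = 0`
  have hTu : ∀ y, G.T v u y = 0 := by
    intro y
    let Φ : (Fin 3 → K) →ₗ[K] (Fin 3 → K) := Fintype.linearCombination K ![v, w, z]
    have hΦ : ∀ P, Φ P = P 0 • v + P 1 • w + P 2 • z := fun P => by
      simp [Φ, Fintype.linearCombination_apply, Fin.sum_univ_three]
    have hinj : Function.Injective Φ := by
      rw [injective_iff_map_eq_zero]
      intro P hP
      rw [hΦ] at hP
      have h0 := congrArg (G.T v v) hP
      simp only [map_add, map_smul, map_zero, show G.T v v v = 0 from hFv, h1, smul_eq_mul, mul_zero,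
        zero_add, mul_eq_zero] at h0
      have hP2 : P 2 = 0 := h0.resolve_right hz
      rw [hP2, zero_smul, add_zero] at hP
      obtain ⟨a, b⟩ := LinearIndependent.pair_iff.1 hli _ _ hP
      ext i; fin_cases i <;> assumption
    obtain ⟨P, rfl⟩ := LinearMap.injective_iff_surjective.1 hinj y
    rw [hΦ]
    simp only [u, map_add, map_sub, map_smul, LinearMap.sub_apply, LinearMap.smul_apply, smul_eq_mul,
      h1, h2, show G.T v v v = 0 from hFv, G.symm₂₃ v w v, σ]
    field_simp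
    ring
  let M : Matrix (Fin 3) (Fin 3) K :=
    !![2 * v 0, -(k * v 2), -(k * v 1); -(k * v 2), 2 * v 1, -(k * v 0); -(k * v 1), -(k * v 0), 2 * v 2]
  have hMu : M.mulVec u = 0 := by
    have h := fun i => T_hesse hG v u (Pi.single i 1)
    simp only [hTu, mul_zero, hesseT] at h
    ext i
    fin_cases i
    · have h' := h 0
      simp at h'
      simp [M, Matrix.mulVec, dotProduct, Fin.sum_univ_three]
      linear_combination -h'
    · have h' := h 1
      simp at h'
      simp [M, Matrix.mulVec, dotProduct, Fin.sum_univ_three]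
      linear_combination -h'
    · have h' := h 2
      simp at h'
      simp [M, Matrix.mulVec, dotProduct, Fin.sum_univ_three]
      linear_combination -h'
  have hdet : M.det = 0 := Matrix.exists_mulVec_eq_zero_iff.1 ⟨u, hu, hMu⟩
  have hF : hesse k v = 0 := by rw [← hG]; exact hFv
  rw [hesse] at hF
  simp [M, Matrix.det_fin_three] at hdet
  have : (1 - k ^ 3) * (v 0 * v 1 * v 2) = 0 := by linear_combination (1 / 8 : K) * hdet + (k ^ 2 / 4) * hF
  simpa [sub_eq_zero, Ne.symm hk, mul_eq_zero] using this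

theorem flex_iff_nine {G : Cubic K (Fin 3 → K)} {k : K} (hk : k ^ 3 ≠ 1)
    (hG : ∀ P, G.F P = hesse k P) {v : Fin 3 → K} (hv : v ≠ 0) (hFv : G.F v = 0) :
    G.IsFlex v ↔
      ∃ γ c : K, γ ^ 3 = 1 ∧ (v = c • ![0, 1, -γ] ∨ v = c • ![-γ, 0, 1] ∨ v = c • ![1, -γ, 0]) := by
  have hF : hesse k v = 0 := by rw [← hG]; exact hFv
  rw [hesse] at hF
  constructor
  · intro hflex
    have hxyz := flex_xyz hk hG hv hflex
    have hne : ∀ i j l : Fin 3, v i = 0 → v j ^ 3 + v l ^ 3 = 0 → v j = 0 →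
        ({i, j, l} : Finset (Fin 3)) = Finset.univ → False := by
      intro i j l hi hs hj huniv
      refine hv (funext fun m => ?_)
      have hm : m ∈ ({i, j, l} : Finset (Fin 3)) := huniv ▸ Finset.mem_univ m
      rw [hj] at hs
      simp only [Finset.mem_insert, Finset.mem_singleton] at hm
      rcases hm with rfl | rfl | rfl
      · exact hi
      · exact hj
      · simpa using hs
    simp only [mul_eq_zero] at hxyz
    rcases hxyz with (h | h) | h
    · have hs : v 1 ^ 3 + v 2 ^ 3 = 0 := by rw [h] at hF; linear_combination hF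
      have h' : v 1 ≠ 0 := fun h' => hne 0 1 2 h hs h' (by decide)
      refine ⟨-v 2 / v 1, v 1, by rw [div_pow, div_eq_one_iff_eq (pow_ne_zero 3 h')]; linear_combination -hs, Or.inl ?_⟩
      ext i; fin_cases i <;> simp [h]
      field_simp
    · have hs : v 2 ^ 3 + v 0 ^ 3 = 0 := by rw [h] at hF; linear_combination hF
      have h' : v 2 ≠ 0 := fun h' => hne 1 2 0 h hs h' (by decide)
      refine ⟨-v 0 / v 2, v 2, by rw [div_pow, div_eq_one_iff_eq (pow_ne_zero 3 h')]; linear_combination -hs, Or.inr (Or.inl ?_)⟩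
      ext i; fin_cases i <;> simp [h]
      field_simp
    · have hs : v 0 ^ 3 + v 1 ^ 3 = 0 := by rw [h] at hF; linear_combination hF
      have h' : v 0 ≠ 0 := fun h' => hne 2 0 1 h hs h' (by decide)
      refine ⟨-v 1 / v 0, v 0, by rw [div_pow, div_eq_one_iff_eq (pow_ne_zero 3 h')]; linear_combination -hs, Or.inr (Or.inr ?_)⟩
      ext i; fin_cases i <;> simp [h]
      field_simp
  · rintro ⟨γ, c, hγ, hcase⟩
    rw [G.isFlex_iff v hFv]
    have hc : c ≠ 0 := fun h => hv (by rcases hcase with h' | h' | h' <;> simp [h', h])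
    rcases hcase with rfl | rfl | rfl
    · refine ⟨![1, -(k * γ), 0], ?_, fun t => ?_⟩
      · rw [LinearIndependent.pair_iff]
        intro s t h
        have a0 := congrFun h 0; have a1 := congrFun h 1
        simp at a0 a1
        refine ⟨?_, a0⟩
        simpa [a0, hc] using a1
      · simp only [hG, hesse, Pi.add_apply, Pi.smul_apply, Matrix.cons_val, smul_eq_mul]
        linear_combination -c ^ 3 * hγ
    · refine ⟨![0, 1, -(k * γ)], ?_, fun t => ?_⟩
      · rw [LinearIndependent.pair_iff]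
        intro s t h
        have a0 := congrFun h 1; have a1 := congrFun h 2
        simp at a0 a1
        refine ⟨?_, a0⟩
        simpa [a0, hc] using a1
      · simp only [hG, hesse, Pi.add_apply, Pi.smul_apply, Matrix.cons_val, smul_eq_mul]
        linear_combination -c ^ 3 * hγ
    · refine ⟨![-(k * γ), 0, 1], ?_, fun t => ?_⟩
      · rw [LinearIndependent.pair_iff]
        intro s t h
        have a0 := congrFun h 2; have a1 := congrFun h 0
        simp at a0 a1
        refine ⟨?_, a0⟩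
        simpa [a0, hc] using a1
      · simp only [hG, hesse, Pi.add_apply, Pi.smul_apply, Matrix.cons_val, smul_eq_mul]
        linear_combination -c ^ 3 * hγ

omit [CharZero K] in
/-- cyclic permutation of coordinates -/
theorem exists_cyc : ∃ E : (Fin 3 → K) ≃ₗ[K] (Fin 3 → K),
    (∀ P, E P = ![P 2, P 0, P 1]) ∧ ∀ k P, hesse k (E P) = hesse k P := by
  refine ⟨LinearEquiv.funCongrLeft K K (finRotate 3).symm, fun P => ?_, fun k P => ?_⟩
  · ext i; fin_cases i <;> rfl
  · have h0 : (LinearEquiv.funCongrLeft K K (finRotate 3).symm) P = ![P 2, P 0, P 1] := by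
      ext i; fin_cases i <;> rfl
    rw [h0]
    simp only [hesse, Matrix.cons_val]
    ring

omit [CharZero K] in
theorem exists_diag (γ : K) (hγ : γ ^ 3 = 1) : ∃ E : (Fin 3 → K) ≃ₗ[K] (Fin 3 → K),
    (∀ P, E P = ![P 0, γ * P 1, γ ^ 2 * P 2]) ∧ ∀ k P, hesse k (E P) = hesse k P := by
  refine ⟨LinearEquiv.ofLinearMap
    (Matrix.toLin' !![1, 0, 0; 0, γ, 0; 0, 0, γ ^ 2])
    (Matrix.toLin' !![1, 0, 0; 0, γ ^ 2, 0; 0, 0, γ]) ?_ ?_, fun P => ?_, fun k P => ?_⟩
  · refine LinearMap.ext fun P => ?_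
    ext i; fin_cases i <;> simp [Matrix.mulVec, dotProduct, Fin.sum_univ_three] <;>
      linear_combination P _ * hγ
  · refine LinearMap.ext fun P => ?_
    ext i; fin_cases i <;> simp [Matrix.mulVec, dotProduct, Fin.sum_univ_three] <;>
      linear_combination P _ * hγ
  · ext i; fin_cases i <;> simp [Matrix.mulVec, dotProduct, Fin.sum_univ_three]
  · change hesse k (Matrix.toLin' !![1, 0, 0; 0, γ, 0; 0, 0, γ ^ 2] P) = _
    rw [hesse, hesse]
    simp [Matrix.mulVec, dotProduct, Fin.sum_univ_three]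
    linear_combination (P 1 ^ 3 + (γ ^ 3 + 1) * P 2 ^ 3 - 3 * k * (P 0 * P 1 * P 2)) * hγ

omit [CharZero K] in
theorem exists_move {k : K} {v : Fin 3 → K}
    (h : ∃ γ c : K, γ ^ 3 = 1 ∧ (v = c • ![0, 1, -γ] ∨ v = c • ![-γ, 0, 1] ∨ v = c • ![1, -γ, 0])) :
    ∃ (E : (Fin 3 → K) ≃ₗ[K] (Fin 3 → K)) (d : K),
      (∀ P, hesse k (E P) = hesse k P) ∧ v = d • E ![0, 1, -1] := by
  obtain ⟨γ, c, hγ, hcase⟩ := h
  obtain ⟨C, hC, hC'⟩ := exists_cyc (K := K)
  obtain ⟨D, hD, hD'⟩ := exists_diag γ hγ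
  have h1 : (c * γ ^ 2) • D ![0, 1, -1] = c • ![0, 1, -γ] := by
    rw [hD]
    ext i; fin_cases i <;> simp
    · linear_combination c * hγ
    · linear_combination c * γ * hγ
  rcases hcase with rfl | rfl | rfl
  · exact ⟨D, c * γ ^ 2, hD' k, h1.symm⟩
  · refine ⟨D.trans C, c * γ ^ 2, fun P => by rw [LinearEquiv.trans_apply, hC', hD'], ?_⟩
    rw [LinearEquiv.trans_apply, ← map_smul, h1, map_smul, hC]
    simp
  · refine ⟨(D.trans C).trans C, c * γ ^ 2, fun P => by
      rw [LinearEquiv.trans_apply, LinearEquiv.trans_apply, hC', hC', hD'], ?_⟩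
    rw [LinearEquiv.trans_apply, LinearEquiv.trans_apply, ← map_smul, ← map_smul, h1, map_smul, map_smul, hC, hC]
    simp

omit [CharZero K] in
theorem exists_primitive [IsAlgClosed K] [NeZero (3 : K)] : ∃ ω : K, IsPrimitiveRoot ω 3 := by
  haveI : NeZero ((3 : ℕ) : K) := by simpa using ‹NeZero (3 : K)›
  exact HasEnoughRootsOfUnity.exists_primitiveRoot K 3

theorem eigen_plane [IsAlgClosed K] {B : (Fin 3 → K) →ₗ[K] (Fin 3 → K)} (a b : Fin 3 → K)
    (hli : LinearIndependent K ![a, b])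
    (h : ∀ γ : K, γ ^ 3 = 1 → ∃ d : K, B (a - γ • b) = d • (a - γ • b)) :
    ∃ d : K, B a = d • a ∧ B b = d • b := by
  obtain ⟨ω, hω⟩ := exists_primitive (K := K)
  have hω3 : ω ^ 3 = 1 := hω.pow_eq_one
  have hω1 : ω ≠ 1 := hω.ne_one (by norm_num)
  have hω2 : ω ^ 2 ≠ 1 := hω.pow_ne_one_of_pos_of_lt (by norm_num) (by norm_num)
  obtain ⟨d0, h0⟩ := h 1 (one_pow 3)
  obtain ⟨d1, h1⟩ := h ω hω3
  obtain ⟨d2, h2⟩ := h (ω ^ 2) (by rw [← pow_mul, pow_mul' ω 2 3, hω3, one_pow])
  -- `(a - ω² b) = -ω (a - b) + (1+ω) (a - ω b)`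
  have key : a - ω ^ 2 • b = (-ω) • (a - (1 : K) • b) + (1 + ω) • (a - ω • b) := by
    rw [show ω ^ 2 = -1 - ω by
      have : (ω - 1) * (ω ^ 2 + ω + 1) = 0 := by linear_combination hω3
      have := (mul_eq_zero.1 this).resolve_left (sub_ne_zero.2 hω1)
      linear_combination this]
    have : (ω + 1 + ω ^ 2 : K) = 0 := by
      have : (ω - 1) * (ω + 1 + ω ^ 2) = 0 := by linear_combination hω3
      exact (mul_eq_zero.1 this).resolve_left (sub_ne_zero.2 hω1)
    match_scalars
    · ring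
    · linear_combination this
  have h3 := h2
  rw [key, map_add, map_smul, map_smul, h0, h1] at h3
  have h4 : ((-ω) * (d0 - d2) + (1 + ω) * (d1 - d2)) • a
      + (-((-ω) * (d0 - d2)) - (1 + ω) * (d1 - d2) * ω) • b = 0 := by
    linear_combination (norm := module) h3
  obtain ⟨e1, e2⟩ := LinearIndependent.pair_iff.1 hli _ _ h4
  have hω0 : ω ≠ 0 := hω.ne_zero (by norm_num)
  have hd02 : d0 = d2 := by
    have : ω * (ω - 1) * (d0 - d2) = 0 := by linear_combination -ω * e1 - e2
    simpa [hω0, sub_eq_zero, hω1] using this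
  have hd12 : d1 = d2 := by
    have hne : (1 : K) + ω ≠ 0 := fun h' => hω2 (by linear_combination (ω - 1) * h')
    have : (1 + ω) * (d1 - d2) = 0 := by rw [hd02] at e1; linear_combination e1
    simpa [hne, sub_eq_zero] using this
  rw [hd02] at h0
  rw [hd12] at h1
  rw [map_sub, map_smul] at h0 h1
  have hb : (ω - 1) • B b = (ω - 1) • (d2 • b) := by linear_combination (norm := module) h0 - h1
  have hb' := smul_right_injective _ (sub_ne_zero.2 hω1) hb
  refine ⟨d2, ?_, hb'⟩
  rw [one_smul, hb'] at h0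
  linear_combination (norm := module) h0

theorem scalar_of_fix [IsAlgClosed K] {B : (Fin 3 → K) →ₗ[K] (Fin 3 → K)}
    (h : ∀ γ : K, γ ^ 3 = 1 → (∃ d : K, B ![0, 1, -γ] = d • ![0, 1, -γ]) ∧
      (∃ d : K, B ![-γ, 0, 1] = d • ![-γ, 0, 1]) ∧ ∃ d : K, B ![1, -γ, 0] = d • ![1, -γ, 0]) :
    ∃ d : K, ∀ P, B P = d • P := by
  let e : Fin 3 → Fin 3 → K := fun i => Pi.single i 1
  have hli : ∀ i j, i ≠ j → LinearIndependent K ![e i, e j] := fun i j hij => by
    rw [LinearIndependent.pair_iff]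
    intro s t hst
    have a := congrFun hst i
    have b := congrFun hst j
    simp [e, hij, hij.symm] at a b
    exact ⟨a, b⟩
  have v0 : ∀ γ : K, ![0, 1, -γ] = e 1 - γ • e 2 := fun γ => by ext i; fin_cases i <;> simp [e]
  have v1 : ∀ γ : K, ![-γ, 0, 1] = e 2 - γ • e 0 := fun γ => by ext i; fin_cases i <;> simp [e]
  have v2 : ∀ γ : K, ![1, -γ, 0] = e 0 - γ • e 1 := fun γ => by ext i; fin_cases i <;> simp [e]
  obtain ⟨d, hd1, hd2⟩ := eigen_plane (B := B) (e 1) (e 2) (hli 1 2 (by decide)) fun γ hγ => v0 γ ▸ (h γ hγ).1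
  obtain ⟨d', hd2', hd0'⟩ := eigen_plane (B := B) (e 2) (e 0) (hli 2 0 (by decide)) fun γ hγ => v1 γ ▸ (h γ hγ).2.1
  have hdd : d' = d := by
    have := congrFun (hd2'.symm.trans hd2) 2
    simpa [e] using this
  refine ⟨d, fun P => ?_⟩
  have hP : P = P 0 • e 0 + P 1 • e 1 + P 2 • e 2 := by ext i; fin_cases i <;> simp [e]
  rw [hP, map_add, map_add, map_smul, map_smul, map_smul, hd0', hd1, hd2, hdd]
  module

end Groth.Agent.CubicLib
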