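import Groth.Agent.CubicLib.Aut
import Groth.Prelude.Def_W4c5monodromycubicsHesse
import Mathlib.Algebra.CharZero.Infinite

/-! Statements about polynomials for plane cubics. -/

namespace Groth.Agent.CubicLib

open MvPolynomial

universe u

variable {K : Type u} [Field K] [CharZero K]

theorem eval_form (k : K) (v : Fin 3 → K) : eval v (HesseCubic.form k) = hesse k v := by
  simp [HesseCubic.form, hesse]

theorem form_isHomogeneous (k : K) : (HesseCubic.form k).IsHomogeneous 3 := by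
  have hX : ∀ i : Fin 3, (X i ^ 3 : MvPolynomial (Fin 3) K).IsHomogeneous 3 := fun i => by
    simpa using (isHomogeneous_X K i).pow 3
  refine IsHomogeneous.sub (((hX 0).add (hX 1)).add (hX 2)) ?_
  simpa using (isHomogeneous_C (Fin 3) (3 * k)).mul (((isHomogeneous_X K (0 : Fin 3)).mul (isHomogeneous_X K 1)).mul (isHomogeneous_X K 2))

theorem exists_plane_cubic (f : MvPolynomial (Fin 3) K) (hf : f.IsHomogeneous 3)
    (hsm : ∀ v : Fin 3 → K, v ≠ 0 → eval v f = 0 → ∃ i : Fin 3, eval v (pderiv i f) ≠ 0) :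
    ∃ G : Cubic K (Fin 3 → K), (∀ v, eval v f = G.F v) ∧
      (∀ v i j, eval v (pderiv i (pderiv j f)) = 6 * G.T v (Pi.single i 1) (Pi.single j 1)) ∧ G.NonSing := by
  obtain ⟨G, h1, h2, h3⟩ := exists_cubic f hf
  refine ⟨G, h1, h3, fun v hv hFv => ?_⟩
  obtain ⟨i, hi⟩ := hsm v hv (by rw [h1, hFv])
  refine ⟨Pi.single i 1, fun h => hi ?_⟩
  rw [h2, h, mul_zero]

variable [IsAlgClosed K]

/-- Hesse coordinates of a smooth plane cubic, with the flex dictionary. -/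
theorem exists_hesse_coords (f : MvPolynomial (Fin 3) K) (hf : f.IsHomogeneous 3)
    (hsm : ∀ v : Fin 3 → K, v ≠ 0 → eval v f = 0 → ∃ i : Fin 3, eval v (pderiv i f) ≠ 0) :
    ∃ (E : (Fin 3 → K) ≃ₗ[K] (Fin 3 → K)) (c k : K), c ≠ 0 ∧ k ^ 3 ≠ 1 ∧
      (∀ P, eval (E P) f = c * hesse k P) ∧
      ∀ P : Fin 3 → K, P ≠ 0 →
        ((eval (E P) f = 0 ∧ ∃ w : Fin 3 → K, LinearIndependent K ![E P, w] ∧
            ∀ t : K, eval (E P + t • w) f = t ^ 3 * eval w f) ↔
          ∃ γ d : K, γ ^ 3 = 1 ∧ (P = d • ![0, 1, -γ] ∨ P = d • ![-γ, 0, 1] ∨ P = d • ![1, -γ, 0])) := by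
  obtain ⟨G, h1, h2, hns⟩ := exists_plane_cubic f hf hsm
  obtain ⟨E, c, k, hc, hk, hE⟩ := exists_hesse f hf h1 h2 hns
  obtain ⟨G', hG', hflex⟩ := G.exists_pullback E c⁻¹ (inv_ne_zero hc)
  have hG'' : ∀ P, G'.F P = hesse k P := fun P => by rw [hG', hE, inv_mul_cancel_left₀ hc]
  refine ⟨E, c, k, hc, hk, fun P => by rw [h1, hE], fun P hP => ?_⟩
  simp only [h1]
  constructor
  · rintro ⟨h0, hw⟩
    exact (flex_iff_nine hk hG'' hP (by rw [hG', h0, mul_zero])).1 ((hflex P).2 ((G.isFlex_iff (E P) h0).2 hw))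
  · intro hnine
    have h0' : G'.F P = 0 := by
      rw [hG'', hesse]
      obtain ⟨γ, d, hγ, rfl | rfl | rfl⟩ := hnine <;>
        simp only [Pi.smul_apply, Matrix.cons_val, smul_eq_mul] <;> linear_combination -d ^ 3 * hγ
    have hfl := (hflex P).1 ((flex_iff_nine hk hG'' hP h0').2 hnine)
    exact ⟨hfl.1, (G.isFlex_iff (E P) hfl.1).1 hfl⟩

end Groth.Agent.CubicLib
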