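import Groth.Agent.CubicLib.Unirat

/-! Five rational points in general position. -/

namespace Groth.Agent.CubicLib

open Module

universe u

variable {k : Type u} [Field k] {G : Cubic k (Fin 4 → k)}

theorem hasFamily_of_nice [CharZero k] (hirr : G.Irred) {a w₁ w₂ : Fin 4 → k} (N : Nice G a w₁ w₂) :
    HasFamily G (k × (Fin 4 → k)) := by
  let q : k × (Fin 4 → k) → Fin 4 → k := fun p => G.res a (w₁ + p.1 • w₂)
  have hx : PolyFun k (fun p : k × (Fin 4 → k) => p.1) := PolyFun.linear (LinearMap.fst k k (Fin 4 → k))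
  have hu : PolyVec k (fun p : k × (Fin 4 → k) => p.2) := fun i =>
    PolyFun.linear ((LinearMap.proj (R := k) (φ := fun _ : Fin 4 => k) i).comp (LinearMap.snd k k (Fin 4 → k)))
  have hq : PolyVec k q :=
    PolyVec.res G (PolyVec.const a) (PolyVec.add (PolyVec.const w₁) (PolyVec.smul hx (PolyVec.const w₂)))
  refine ⟨fun p => G.res (q p) (G.T (q p) (q p) a • p.2 - G.T (q p) (q p) p.2 • a), ?_, fun p => ?_,
    fun l hl => ?_⟩
  · exact PolyVec.res G hq (PolyVec.sub (PolyVec.smul (PolyFun.trilin G hq hq (PolyVec.const a)) hu)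
      (PolyVec.smul (PolyFun.trilin G hq hq hu) (PolyVec.const a)))
  · refine G.F_res (G.F_res N.hF ?_) ?_
    · simp [N.h₁, N.h₂]
    · simp [mul_comm]
  · obtain ⟨x, u, h⟩ := N.infinite l hirr hl
    exact ⟨(x, u), h⟩

theorem exists_five_points [CharZero k] {W : Type u} [AddCommGroup W] [Module k W] (hfam : HasFamily G W)
    {a : Fin 4 → k} (ha : a ≠ 0) (hFa : G.F a = 0) :
    ∃ p : Fin 5 → Fin 4 → k, p 0 = a ∧ (∀ j, G.F (p j) = 0) ∧
      ∀ j : Fin 5, LinearIndependent k (fun i : Fin 4 => p (j.succAbove i)) := by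
  classical
  obtain ⟨φ, hφ, hF, hne⟩ := hfam
  -- avoid the spans of finitely many families of three vectors
  have avoid : ∀ s : Finset (Finset (Fin 4 → k)), (∀ t ∈ s, t.card ≤ 3) →
      ∃ y, G.F y = 0 ∧ ∀ t ∈ s, y ∉ Submodule.span k (t : Set (Fin 4 → k)) := by
    intro s hs
    have hl : ∀ t : {t // t ∈ s}, ∃ l : (Fin 4 → k) →ₗ[k] k, l ≠ 0 ∧
        Submodule.span k (t.1 : Set (Fin 4 → k)) ≤ LinearMap.ker l := fun t =>
      Submodule.exists_le_ker_of_lt_top _ (lt_top_iff_ne_top.2 fun h => by
        have h1 := (finrank_span_finset_le_card (R := k) t.1).trans (hs _ t.2)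
        rw [Set.finrank, h, finrank_top, Module.finrank_fin_fun] at h1
        omega)
    choose l hl0 hle using hl
    obtain ⟨w, hw⟩ := exists_common (Finset.univ : Finset {t // t ∈ s}) (f := fun t w => l t (φ w))
      (fun t _ => PolyFun.apply hφ (l t)) (fun t _ => hne _ (hl0 t))
    exact ⟨φ w, hF w, fun t ht hmem => hw ⟨t, ht⟩ (Finset.mem_univ _) (hle ⟨t, ht⟩ hmem)⟩
  obtain ⟨b, hb, hb'⟩ := avoid {{a}} (by simp)
  obtain ⟨c, hc, hc'⟩ := avoid {{a, b}} (by
    intro t ht
    rw [Finset.mem_singleton] at ht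
    subst ht
    exact Finset.card_le_two.trans (by norm_num))
  obtain ⟨d, hd, hd'⟩ := avoid {{a, b, c}} (by
    intro t ht
    rw [Finset.mem_singleton] at ht
    subst ht
    exact Finset.card_le_three)
  obtain ⟨e, he, he'⟩ := avoid {{a, b, c}, {a, b, d}, {a, c, d}, {b, c, d}} (by
    intro t ht
    simp only [Finset.mem_insert, Finset.mem_singleton] at ht
    rcases ht with rfl | rfl | rfl | rfl <;> exact Finset.card_le_three)
  simp only [Finset.mem_insert, Finset.mem_singleton, forall_eq_or_imp, forall_eq, Finset.coe_insert,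
    Finset.coe_singleton] at hb' hc' hd' he'
  obtain ⟨he1, he2, he3, he4⟩ := he'
  -- extending an independent family by a point outside its span
  have ext : ∀ {n : ℕ} (v : Fin n → Fin 4 → k) (y : Fin 4 → k), LinearIndependent k v →
      y ∉ Submodule.span k (Set.range v) → LinearIndependent k (Fin.snoc v y : Fin (n + 1) → Fin 4 → k) :=
    fun v y h hy => linearIndependent_fin_snoc.2 ⟨h, hy⟩
  have r1 : ∀ x : Fin 4 → k, Set.range ![x] = {x} := fun x => by simp
  have r2 : ∀ x y : Fin 4 → k, Set.range ![x, y] = {x, y} := fun x y => by simp [Set.pair_comm]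
  have r3 : ∀ x y z : Fin 4 → k, Set.range ![x, y, z] = {x, y, z} := fun x y z => by
    simp only [Matrix.range_cons, Matrix.range_empty, Set.union_empty]
    ext v; simp; tauto
  have i1 : LinearIndependent k ![a] := by
    rw [linearIndependent_unique_iff]; exact ha
  have i2 : LinearIndependent k ![a, b] := by
    have := ext ![a] b i1 (by rw [r1]; exact hb')
    convert this using 1
    funext i; fin_cases i <;> rfl
  have i3 : LinearIndependent k ![a, b, c] := by
    have := ext ![a, b] c i2 (by rw [r2]; exact hc')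
    convert this using 1
    funext i; fin_cases i <;> rfl
  have i4 : LinearIndependent k ![a, b, c, d] := by
    have := ext ![a, b, c] d i3 (by rw [r3]; exact hd')
    convert this using 1
    funext i; fin_cases i <;> rfl
  have sub : ∀ s : Fin 3 → Fin 4, Function.Injective s → ∀ v : Fin 3 → Fin 4 → k,
      (∀ i, v i = ![a, b, c, d] (s i)) → ∀ y, y ∉ Submodule.span k (Set.range v) →
      LinearIndependent k (Fin.snoc v y : Fin 4 → Fin 4 → k) := fun s hs v hv y hy =>
    ext v y (by rw [show v = ![a, b, c, d] ∘ s from funext hv]; exact i4.comp s hs) hy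
  refine ⟨![a, b, c, d, e], rfl, fun j => by fin_cases j <;> assumption, fun j => ?_⟩
  fin_cases j
  · have := sub ![1, 2, 3] (by decide) ![b, c, d] (fun i => by fin_cases i <;> rfl) e (by rw [r3]; exact he4)
    convert this using 1
    funext i; fin_cases i <;> rfl
  · have := sub ![0, 2, 3] (by decide) ![a, c, d] (fun i => by fin_cases i <;> rfl) e (by rw [r3]; exact he3)
    convert this using 1
    funext i; fin_cases i <;> rfl
  · have := sub ![0, 1, 3] (by decide) ![a, b, d] (fun i => by fin_cases i <;> rfl) e (by rw [r3]; exact he2)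
    convert this using 1
    funext i; fin_cases i <;> rfl
  · have := sub ![0, 1, 2] (by decide) ![a, b, c] (fun i => by fin_cases i <;> rfl) e (by rw [r3]; exact he1)
    convert this using 1
    funext i; fin_cases i <;> rfl
  · convert i4 using 1
    funext i; fin_cases i <;> rfl

end Groth.Agent.CubicLib
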