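import Groth.Agent.CubicLib.Exists

/-! Finiteness of the `T`-points in the tangent plane of a non-`T`-point. -/

namespace Groth.Agent.CubicLib

open Module

universe u

variable {K : Type u} [Field K] (G : Cubic K (Fin 4 → K))

/-- the two remainder coefficients, times the leading one -/
def obs (j : Bool) (b x y : Fin 4 → K) : K :=
  G.T b y y * if j then
    3 * G.T x x y * G.T b y y ^ 2 - G.F y * G.T b x x * G.T b y y
      - (3 * G.T x y y * G.T b y y - G.F y * (2 * G.T b x y)) * (2 * G.T b x y)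
  else G.F x * G.T b y y ^ 2 - (3 * G.T x y y * G.T b y y - G.F y * (2 * G.T b x y)) * G.T b x x

/-- the tangent plane section is a union of lines -/
def IsProd (b : Fin 4 → K) : Prop :=
  ∃ l : Fin 3 → (Fin 4 → K) →ₗ[K] K, ∀ v, G.T b b v = 0 → G.F v = l 0 v * l 1 v * l 2 v

/-- projection to the tangent plane -/
def tang (m u b : Fin 4 → K) : Fin 4 → K := G.T b b m • u - G.T b b u • m

/-- the closed condition satisfied by `T`-points -/
def cond (j : Bool) (m u₁ u₂ b : Fin 4 → K) : K := obs G j b (tang G m u₁ b) (tang G m u₂ b)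

variable {G} [CharZero K]

theorem obs_eq_zero {b : Fin 4 → K} (h : IsProd G b) (hb : G.F b = 0) {x y : Fin 4 → K} (hx : G.T b b x = 0)
    (hy : G.T b b y = 0) (j : Bool) : obs G j b x y = 0 := by
  obtain ⟨l, hl⟩ := h
  set H := LinearMap.ker (G.T b b)
  have hT : ∀ {p q r}, p ∈ H → q ∈ H → r ∈ H → 6 * G.T p q r =
      l 0 p * l 1 q * l 2 r + l 0 p * l 1 r * l 2 q + l 0 q * l 1 p * l 2 r + l 0 q * l 1 r * l 2 p +
        l 0 r * l 1 p * l 2 q + l 0 r * l 1 q * l 2 p := fun {p q r} hp hq hr => by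
    have hl' : ∀ v ∈ H, G.F v = l 0 v * l 1 v * l 2 v := fun v hv => hl v hv
    rw [G.polar, hl' _ (add_mem (add_mem hp hq) hr), hl' _ (add_mem hp hq), hl' _ (add_mem hp hr),
      hl' _ (add_mem hq hr), hl' _ hp, hl' _ hq, hl' _ hr]
    simp only [map_add]
    ring
  have hbH : b ∈ H := hb
  have hxH : x ∈ H := hx
  have hyH : y ∈ H := hy
  -- one form vanishing at the point forces a second one
  have two : ∀ p q r : Fin 3, (∀ v₁ v₂ v₃, v₁ ∈ H → v₂ ∈ H → v₃ ∈ H → 6 * G.T v₁ v₂ v₃ =
      l p v₁ * l q v₂ * l r v₃ + l p v₁ * l q v₃ * l r v₂ + l p v₂ * l q v₁ * l r v₃ + l p v₂ * l q v₃ * l r v₁ +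
        l p v₃ * l q v₁ * l r v₂ + l p v₃ * l q v₂ * l r v₁) → l p b = 0 → l q b = 0 → obs G j b x y = 0 := by
    intro p q r h hp hq
    have q₂ := h b y y hbH hyH hyH
    have u₁ := h b x y hbH hxH hyH
    have u₀ := h b x x hbH hxH hxH
    have a₁ := h x x x hxH hxH hxH
    have a₂ := h x x y hxH hxH hyH
    have a₃ := h x y y hxH hyH hyH
    have a₄ := h y y y hyH hyH hyH
    simp only [hp, hq, zero_mul, mul_zero, add_zero, zero_add] at q₂ u₁ u₀
    have e₁ : G.T b y y = l p y * l q y * l r b / 3 := by linear_combination q₂ / 6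
    have e₂ : G.T b x y = (l p x * l q y + l p y * l q x) * l r b / 6 := by linear_combination u₁ / 6
    have e₃ : G.T b x x = l p x * l q x * l r b / 3 := by linear_combination u₀ / 6
    have e₄ : G.F x = l p x * l q x * l r x := by
      show G.T x x x = _
      linear_combination a₁ / 6
    have e₅ : G.F y = l p y * l q y * l r y := by
      show G.T y y y = _
      linear_combination a₄ / 6
    have e₆ : G.T x x y = (l p x * l q x * l r y + l p x * l q y * l r x + l p y * l q x * l r x) / 3 := by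
      linear_combination a₂ / 6
    have e₇ : G.T x y y = (l p x * l q y * l r y + l p y * l q x * l r y + l p y * l q y * l r x) / 3 := by
      linear_combination a₃ / 6
    cases j <;> simp only [obs, Bool.false_eq_true, if_true, if_false, e₁, e₂, e₃, e₄, e₅, e₆, e₇] <;> ring
  -- reduce to that case
  by_cases hq₂ : G.T b y y = 0
  · simp [obs, hq₂]
  have hb3 : l 0 b * l 1 b * l 2 b = 0 := (hl b hb).symm.trans hb
  have hbb : ∀ v ∈ H, l 0 v * l 1 b * l 2 b + l 0 b * l 1 v * l 2 b + l 0 b * l 1 b * l 2 v = 0 := fun v hv => by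
    have := hT hbH hbH hv
    rw [show G.T b b v = 0 from hv] at this
    linear_combination -this / 2
  have hy2 := hT hbH hyH hyH
  have h2 : ∃ p q : Fin 3, p ≠ q ∧ l p b = 0 ∧ l q b = 0 := by
    by_contra! hh
    apply hq₂
    rcases mul_eq_zero.1 hb3 with h | h
    · rcases mul_eq_zero.1 h with h | h
      · have h1 := hh 0 1 (by decide) h
        have h2 := hh 0 2 (by decide) h
        have := hbb y hyH
        simp only [h, zero_mul, add_zero, mul_eq_zero, h1, h2, or_false] at this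
        rw [h, this] at hy2
        linear_combination hy2 / 6
      · have h1 := hh 1 0 (by decide) h
        have h2 := hh 1 2 (by decide) h
        have := hbb y hyH
        simp only [h, zero_mul, mul_zero, zero_add, add_zero, mul_eq_zero, h1, h2, or_false, false_or] at this
        rw [h, this] at hy2
        linear_combination hy2 / 6
    · have h1 := hh 2 0 (by decide) h
      have h2 := hh 2 1 (by decide) h
      have := hbb y hyH
      simp only [h, mul_zero, zero_add, add_zero, mul_eq_zero, h1, h2, false_or] at this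
      rw [h, this] at hy2
      linear_combination hy2 / 6
  obtain ⟨p, q, hpq, hp, hq⟩ := h2
  fin_cases p <;> fin_cases q <;> first
    | exact absurd rfl hpq
    | exact two 0 1 2 (fun _ _ _ => hT) ‹_› ‹_›
    | exact two 0 2 1 (fun _ _ _ a b c => by rw [hT a b c]; ring) ‹_› ‹_›
    | exact two 1 2 0 (fun _ _ _ a b c => by rw [hT a b c]; ring) ‹_› ‹_›

omit [CharZero K] in
theorem polyFun_cond (j : Bool) (m u₁ u₂ : Fin 4 → K) {W : Type*} [AddCommGroup W] [Module K W] {γ : W → Fin 4 → K}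
    (hγ : PolyVec K γ) : PolyFun K fun w => cond G j m u₁ u₂ (γ w) := by
  have hW : ∀ u, PolyVec K fun w => tang G m u (γ w) := fun u =>
    PolyVec.sub (PolyVec.smul (PolyFun.trilin G hγ hγ (PolyVec.const m)) (PolyVec.const u))
      (PolyVec.smul (PolyFun.trilin G hγ hγ (PolyVec.const u)) (PolyVec.const m))
  have h1 := hW u₁
  have h2 := hW u₂
  have q₂ := PolyFun.trilin G hγ h2 h2
  have u₁' := (PolyFun.const 2).mul (PolyFun.trilin G hγ h1 h2)
  have u₀ := PolyFun.trilin G hγ h1 h1
  have fx := PolyFun.trilin G h1 h1 h1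
  have fy := PolyFun.trilin G h2 h2 h2
  have d₂ := (((PolyFun.const 3).mul (PolyFun.trilin G h1 h2 h2)).mul q₂).sub (fy.mul u₁')
  cases j
  · exact (q₂.mul ((fx.mul (q₂.pow 2)).sub (d₂.mul u₀))).congr fun _ => by simp [cond, obs, Cubic.F]
  · exact (q₂.mul (((((PolyFun.const 3).mul (PolyFun.trilin G h1 h1 h2)).mul (q₂.pow 2)).sub
      ((fy.mul u₀).mul q₂)).sub (d₂.mul u₁'))).congr fun _ => by simp [cond, obs, Cubic.F]

theorem cond_eq_zero {b : Fin 4 → K} (h : IsProd G b) (hb : G.F b = 0) (j : Bool) (m u₁ u₂ : Fin 4 → K) :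
    cond G j m u₁ u₂ b = 0 :=
  obs_eq_zero h hb (by simp [tang, mul_comm]) (by simp [tang, mul_comm]) j

/-- `T`-points in the tangent plane of a good point are finite up to scalars. -/
theorem finite_TPoints [IsAlgClosed K] {a w₁ w₂ : Fin 4 → K} (N : Nice G a w₁ w₂) :
    {U : Submodule K (Fin 4 → K) | finrank K U = 1 ∧ ∀ b ∈ U, b ≠ 0 → G.T a a b = 0 ∧ G.F b = 0 ∧ IsProd G b}.Finite := by
  classical
  obtain ⟨hFa, h₁, h₂, ⟨m, hm⟩, hspan, hlead, hrem⟩ := N
  set u₀ := G.T a w₁ w₁
  set u₁ := G.T a w₁ w₂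
  set q₂ := G.T a w₂ w₂
  set a₁ := 3 * G.T w₁ w₁ w₂
  set a₂ := 3 * G.T w₁ w₂ w₂
  set d₂ := a₂ * q₂ - G.F w₂ * (2 * u₁)
  set R₁ := a₁ * q₂ ^ 2 - G.F w₂ * u₀ * q₂ - d₂ * (2 * u₁)
  set R₀ := G.F w₁ * q₂ ^ 2 - d₂ * u₀
  -- a closed condition which fails at the point
  obtain ⟨j, hj⟩ : ∃ j, ∀ c : K, c ≠ 0 → cond G j m w₁ w₂ (c • a) ≠ 0 := by
    have hW : ∀ (c : K) w, G.T a a w = 0 → tang G m w (c • a) = (c ^ 2 * G.T a a m) • w := fun c w hw => by
      simp only [tang, map_smul, LinearMap.smul_apply, smul_eq_mul, hw]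
      module
    rcases hrem with h | h
    · refine ⟨true, fun c hc => ?_⟩
      have e : cond G true m w₁ w₂ (c • a) =
          c * (c ^ 2 * G.T a a m) ^ 2 * (c * c * (c ^ 2 * G.T a a m) ^ 7) * (q₂ * R₁) := by
        rw [cond, hW c _ h₁, hW c _ h₂]
        simp only [obs, if_true, G.F_smul, map_smul, LinearMap.smul_apply, smul_eq_mul]
        simp only [R₁, d₂, a₁, a₂, u₀, u₁, q₂]
        ring
      rw [e]; simp [hc, hm, hlead]; exact h
    · refine ⟨false, fun c hc => ?_⟩
      have e : cond G false m w₁ w₂ (c • a) =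
          c * (c ^ 2 * G.T a a m) ^ 2 * (c * c * (c ^ 2 * G.T a a m) ^ 7) * (q₂ * R₀) := by
        rw [cond, hW c _ h₁, hW c _ h₂]
        simp only [obs, Bool.false_eq_true, if_false, G.F_smul, map_smul, LinearMap.smul_apply, smul_eq_mul]
        simp only [R₀, d₂, a₂, u₀, u₁, q₂]
        ring
      rw [e]; simp [hc, hm, hlead]; exact h
  -- the branch directions
  set Q := fun x : K => q₂ * x ^ 2 + 2 * u₁ * x + u₀ with hQ
  set Fw := fun x : K => G.F w₁ + a₁ * x + a₂ * x ^ 2 + G.F w₂ * x ^ 3 with hFw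
  have hFw' : ∀ x, G.F (w₁ + x • w₂) = Fw x := fun x => by
    simp only [G.F_add_smul, Fw, a₁, a₂]; ring
  have hQ' : ∀ x, G.T a (w₁ + x • w₂) (w₁ + x • w₂) = Q x := fun x => by
    simp only [map_add, map_smul, LinearMap.add_apply, LinearMap.smul_apply, smul_eq_mul, G.symm₂₃ a w₂ w₁, Q]
    ring
  have hid : PolyVec K fun x : K => w₁ + x • w₂ :=
    PolyVec.add (PolyVec.const _) (PolyVec.smul PolyFun.id_field (PolyVec.const _))
  -- a curve through the points off the branch lines
  obtain ⟨γ, hγ, hγpt, hγa⟩ : ∃ γ : K → Fin 4 → K, PolyVec K γ ∧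
      (∀ x, Q x ≠ 0 → ∃ c : K, c ≠ 0 ∧ γ x = c • G.res a (w₁ + x • w₂)) ∧ ∃ x c : K, c ≠ 0 ∧ γ x = c • a := by
    obtain ⟨r, hr⟩ : ∃ r, Q r = 0 := by
      obtain ⟨r, hr⟩ := Cubic.exists_root_quadratic q₂ (2 * u₁) u₀ hlead
      exact ⟨r, by simp only [Q]; linear_combination hr⟩
    set s := -2 * u₁ / q₂ - r
    have hfac : ∀ x, Q x = q₂ * ((x - r) * (x - s)) := fun x => by
      simp only [s, Q] at hr ⊢
      field_simp
      linear_combination hr
    by_cases hgood : ∃ x, Q x = 0 ∧ Fw x ≠ 0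
    · obtain ⟨x, hx, hFx⟩ := hgood
      refine ⟨fun x => G.res a (w₁ + x • w₂), PolyVec.res G (PolyVec.const a) hid, fun x _ => ⟨1, one_ne_zero, by simp⟩,
        x, -Fw x, neg_ne_zero.2 hFx, ?_⟩
      simp only [Cubic.res, hQ', hx, hFw']
      simp
    simp only [not_exists, not_and, not_not] at hgood
    have hFr := hgood r hr
    have hFs := hgood s (by rw [hfac]; ring)
    have key : ∀ x, q₂ ^ 2 * Fw x = (q₂ * G.F w₂ * x + d₂) * Q x + R₁ * x + R₀ := fun x => by
      simp only [Q, Fw, R₁, R₀, d₂]; ring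
    have kr := key r
    have ks := key s
    rw [hFr, hr] at kr
    rw [hFs, show Q s = 0 by rw [hfac]; ring] at ks
    have hrs : r = s := by
      by_contra hne
      have hR : R₁ * (r - s) = 0 := by linear_combination ks - kr
      have h1 : R₁ = 0 := (mul_eq_zero.1 hR).resolve_right (sub_ne_zero.2 hne)
      have h0 : R₀ = 0 := by rw [h1] at kr; linear_combination -kr
      exact hrem.elim (fun h => h h1) (fun h => h h0)
    set D := fun x : K => a₁ + a₂ * (x + r) + G.F w₂ * (x ^ 2 + x * r + r ^ 2) with hD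
    have hDF : ∀ x, Fw x = (x - r) * D x := fun x => by
      simp only [Fw, D] at hFr ⊢; linear_combination hFr
    refine ⟨fun x => (-D x) • a + (3 * q₂ * (x - r)) • (w₁ + x • w₂), ?_, fun x hx => ?_, r, -D r, ?_, ?_⟩
    · exact PolyVec.add (PolyVec.smul ((PolyFun.const a₁).add ((PolyFun.const a₂).mul (PolyFun.id_field.add (PolyFun.const r)))
        |>.add ((PolyFun.const (G.F w₂)).mul (((PolyFun.id_field.pow 2).add (PolyFun.id_field.mul (PolyFun.const r))).add
          (PolyFun.const (r ^ 2)))) |>.neg) (PolyVec.const a))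
        (PolyVec.smul ((PolyFun.const (3 * q₂)).mul (PolyFun.id_field.sub (PolyFun.const r))) hid)
    · rw [hfac, ← hrs] at hx
      have hxr : x - r ≠ 0 := fun h => hx (by rw [h]; ring)
      refine ⟨(x - r)⁻¹, inv_ne_zero hxr, ?_⟩
      simp only [Cubic.res, hFw', hQ', hfac, ← hrs, hDF]
      match_scalars <;> field_simp
    · intro h0
      have hd' : D r = 0 := neg_eq_zero.1 h0
      have h1 : R₁ = 0 := by
        have hs' : 2 * u₁ = -(2 * r) * q₂ := by
          have : r = -2 * u₁ / q₂ - r := hrs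
          field_simp at this
          linear_combination this
        have h0' : u₀ = q₂ * r ^ 2 := by
          simp only [Q] at hr
          linear_combination hr - r * hs'
        simp only [D] at hd'
        simp only [R₁, d₂]
        rw [h0', hs']
        linear_combination q₂ ^ 2 * hd'
      have h0 : R₀ = 0 := by rw [h1] at kr; linear_combination -kr
      exact hrem.elim (fun h => h h1) (fun h => h h0)
    · simp
  -- finitely many exceptional parameters
  have fin₁ : {x : K | cond G j m w₁ w₂ (γ x) = 0}.Finite := by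
    obtain ⟨x, c, hc, hx⟩ := hγa
    exact (polyFun_cond j m w₁ w₂ hγ).finite_zeros ⟨x, by rw [hx]; exact hj c hc⟩
  have fin₂ : ∀ x : K, {s : K | cond G j m w₁ w₂ (a + s • (w₁ + x • w₂)) = 0}.Finite := fun x =>
    (polyFun_cond j m w₁ w₂ (PolyVec.add (PolyVec.const a) (PolyVec.smul PolyFun.id_field (PolyVec.const _)))).finite_zeros
      ⟨0, by rw [zero_smul, add_zero]; simpa using hj 1 one_ne_zero⟩
  have fin₃ : {x | Q x = 0}.Finite :=
    (((PolyFun.const q₂).mul (PolyFun.id_field.pow 2)).add ((PolyFun.const (2 * u₁)).mul PolyFun.id_field) |>.add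
      (PolyFun.const u₀)).finite_zeros (by
        by_contra! h
        have e0 := h 0
        have e1 := h 1
        have e2 := h (-1)
        exact hlead (by linear_combination (e1 + e2 - 2 * e0) / 2))
  refine ((((Set.finite_singleton (K ∙ a)).union (Set.finite_singleton (K ∙ G.res a w₂))).union
    (fin₁.image fun x => K ∙ γ x)).union ((fin₃.image fun x => K ∙ (w₁ + x • w₂)).union
      (fin₃.biUnion fun x _ => (fin₂ x).image fun s => K ∙ (a + s • (w₁ + x • w₂))))).subset ?_
  rintro U ⟨hU, hUb⟩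
  obtain ⟨b, hb, hb0⟩ := U.ne_bot_iff.1 (fun h => by rw [h, finrank_bot] at hU; omega)
  obtain ⟨hbH, hbF, -⟩ := hUb b hb hb0
  have hspanU : ∀ v, v ∈ U → v ≠ 0 → U = K ∙ v := fun v hv hv0 =>
    (Submodule.eq_of_le_of_finrank_eq ((Submodule.span_singleton_le_iff_mem _ _).2 hv)
      (by rw [finrank_span_singleton hv0, hU])).symm
  obtain ⟨A, B, C, rfl⟩ := hspan b hbH
  rw [G.F_comb₃] at hbF
  rw [show G.F a = 0 from hFa, h₁, h₂] at hbF
  by_cases hB : B = 0
  · refine Or.inl (Or.inl ?_)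
    subst hB
    by_cases hC : C = 0
    · subst hC
      refine Or.inl ?_
      have hA : A ≠ 0 := fun h => hb0 (by simp [h])
      refine hspanU a ((Submodule.smul_mem_iff U hA).1 (by simpa using hb)) fun h => hA ?_
      exact absurd (by rw [h]; simp) hm
    · refine Or.inr ?_
      have hA : C * (3 * q₂ * A + C * G.F w₂) * C = 0 := by linear_combination hbF
      have hA' : 3 * q₂ * A + C * G.F w₂ = 0 := by simpa [hC] using hA
      have e : (3 * q₂) • (A • a + (0 : K) • w₁ + C • w₂) = C • G.res a w₂ := by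
        rw [Cubic.res, show G.T a w₂ w₂ = q₂ from rfl, show (3 * q₂) • (A • a + (0 : K) • w₁ + C • w₂) =
          (3 * q₂ * A) • a + (3 * q₂ * C) • w₂ by module, show 3 * q₂ * A = -(C * G.F w₂) by linear_combination hA']
        module
      refine hspanU _ ((Submodule.smul_mem_iff U hC).1 (e ▸ U.smul_mem _ hb)) fun h => ?_
      rw [h, smul_zero, smul_eq_zero] at e
      exact hb0 (e.resolve_left (by simp [hlead]))
  · set x := C / B
    set A' := A / B
    have hb' : A' • a + (w₁ + x • w₂) ∈ U := by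
      refine (Submodule.smul_mem_iff U hB).1 ?_
      rw [show B • (A' • a + (w₁ + x • w₂)) = (B * A') • a + B • w₁ + (B * x) • w₂ by module,
        mul_div_cancel₀ _ hB, mul_div_cancel₀ _ hB]
      exact hb
    have hb'0 : A' • a + (w₁ + x • w₂) ≠ 0 := fun h => hb0 (by
      have := congrArg (B • ·) h
      simp only [smul_zero] at this
      rw [← this, show B • (A' • a + (w₁ + x • w₂)) = (B * A') • a + B • w₁ + (B * x) • w₂ by module,
        mul_div_cancel₀ _ hB, mul_div_cancel₀ _ hB])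
    obtain ⟨-, hF', hprod⟩ := hUb _ hb' hb'0
    have heq : 3 * A' * Q x + Fw x = 0 := by
      rw [← hQ', ← hFw', ← hF']
      rw [show A' • a + (w₁ + x • w₂) = A' • a + (1 : K) • (w₁ + x • w₂) by module, G.F_comb₂,
        show G.F a = 0 from hFa]
      simp only [map_add, map_smul, LinearMap.add_apply, LinearMap.smul_apply, smul_eq_mul, h₁, h₂]
      ring
    by_cases hx : Q x = 0
    · refine Or.inr ?_
      by_cases hA : A' = 0
      · rw [hA, zero_smul, zero_add] at hb' hb'0
        exact Or.inl ⟨x, hx, (hspanU _ hb' hb'0).symm⟩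
      · refine Or.inr (Set.mem_biUnion hx ⟨A'⁻¹, ?_, ?_⟩)
        all_goals
          have he : A'⁻¹ • (A' • a + (w₁ + x • w₂)) = a + A'⁻¹ • (w₁ + x • w₂) := by
            rw [smul_add, smul_smul, inv_mul_cancel₀ hA, one_smul]
          have hne : a + A'⁻¹ • (w₁ + x • w₂) ≠ 0 := he ▸ smul_ne_zero (inv_ne_zero hA) hb'0
          have hmem : a + A'⁻¹ • (w₁ + x • w₂) ∈ U := he ▸ U.smul_mem _ hb'
        · exact cond_eq_zero (hUb _ hmem hne).2.2 (hUb _ hmem hne).2.1 _ _ _ _
        · exact (hspanU _ hmem hne).symm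
    · obtain ⟨c, hc, hγx⟩ := hγpt x hx
      have e : γ x = (c * (3 * Q x)) • (A' • a + (w₁ + x • w₂)) := by
        rw [hγx, Cubic.res, hQ', hFw', show Fw x = -(3 * A' * Q x) by linear_combination heq]
        module
      have hne : γ x ≠ 0 := e ▸ smul_ne_zero (by simp [hc, hx]) hb'0
      have hmem : γ x ∈ U := e ▸ U.smul_mem _ hb'
      exact Or.inl (Or.inr ⟨x, cond_eq_zero (hUb _ hmem hne).2.2 (hUb _ hmem hne).2.1 _ _ _ _,
        (hspanU _ hmem hne).symm⟩)

/-- Product decompositions modulo the tangent form. -/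
theorem isProd_of_mem {f : MvPolynomial (Fin 4) K} (hG : ∀ v, MvPolynomial.eval v f = G.F v)
    (hd : ∀ v i, MvPolynomial.eval v (MvPolynomial.pderiv i f) = 3 * G.T v v (Pi.single i 1))
    {q : Fin 4 → K} {L₁ L₂ L₃ : MvPolynomial (Fin 4) K} (h₁ : L₁.IsHomogeneous 1) (h₂ : L₂.IsHomogeneous 1)
    (h₃ : L₃.IsHomogeneous 1)
    (hmem : f - L₁ * L₂ * L₃ ∈ Ideal.span {∑ i : Fin 4,
      MvPolynomial.C (MvPolynomial.eval q (MvPolynomial.pderiv i f)) * MvPolynomial.X i}) : IsProd G q := by
  obtain ⟨c, hc⟩ := Ideal.mem_span_singleton'.1 hmem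
  have hlin : ∀ L : MvPolynomial (Fin 4) K, L.IsHomogeneous 1 →
      ∃ l : (Fin 4 → K) →ₗ[K] K, ∀ v, MvPolynomial.eval v L = l v := fun L hL => by
    obtain ⟨c, l, hl⟩ := exists_affine L hL.totalDegree_le
    have hc0 : c = 0 := by
      have := hl 0
      rw [map_zero, add_zero, MvPolynomial.eval_zero, MvPolynomial.constantCoeff_eq, hL.coeff_eq_zero (by simp)] at this
      exact this.symm
    exact ⟨l, fun v => by rw [hl, hc0, zero_add]⟩
  obtain ⟨l₁, e₁⟩ := hlin L₁ h₁
  obtain ⟨l₂, e₂⟩ := hlin L₂ h₂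
  obtain ⟨l₃, e₃⟩ := hlin L₃ h₃
  refine ⟨![l₁, l₂, l₃], fun v hv => ?_⟩
  have := congrArg (MvPolynomial.eval v) hc
  simp only [map_mul, map_sub, hG, map_sum, MvPolynomial.eval_C, MvPolynomial.eval_X, hd, e₁, e₂, e₃] at this
  have h0 : ∑ i, 3 * G.T q q (Pi.single i 1) * v i = 3 * G.T q q v := by
    conv_rhs => rw [pi_eq_sum_univ' v, map_sum, Finset.mul_sum]
    exact Finset.sum_congr rfl fun i _ => by rw [map_smul, smul_eq_mul]; ring
  rw [h0, hv, mul_zero, mul_zero] at this
  simp only [Matrix.cons_val_zero, Matrix.cons_val_one, Matrix.cons_val]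
  linear_combination -this

end Groth.Agent.CubicLib
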