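import Groth.Agent.CubicLib.Form
import Groth.Agent.TsenLib.Basic
import Groth.Agent.TsenLib.Norm
import Mathlib.LinearAlgebra.Matrix.ToLinearEquiv
import Mathlib.LinearAlgebra.FiniteDimensional.Basic
import Mathlib.Algebra.Polynomial.SpecificDegree
import Mathlib.RingTheory.RootsOfUnity.AlgebraicallyClosed
import Mathlib.Tactic.ComputeDegree

/-! Smooth plane cubics: flexes, Weierstrass and Hesse normal forms. -/

namespace Groth.Agent.CubicLib

open MvPolynomial

universe u v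

variable {K : Type u} [Field K]

namespace Cubic

variable {V : Type v} [AddCommGroup V] [Module K V] (G : Cubic K V)

/-- no singular zero -/
def NonSing : Prop := ∀ v : V, v ≠ 0 → G.F v = 0 → ∃ w, G.T v v w ≠ 0

/-- flexes -/
def IsFlex (v : V) : Prop :=
  G.F v = 0 ∧ ∃ w, LinearIndependent K ![v, w] ∧ G.T v v w = 0 ∧ G.T v w w = 0

theorem polar₂ (v w : V) : 6 * G.T v v w = G.F (v + w) - G.F (v - w) - 2 * G.F w := by
  have h1 := G.F_comb₂ v w 1 1
  have h2 := G.F_comb₂ v w 1 (-1)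
  rw [one_smul, one_smul] at h1
  rw [one_smul, neg_smul, one_smul, ← sub_eq_add_neg] at h2
  rw [h1, h2]
  ring

theorem isFlex_iff [CharZero K] (v : V) (hv : G.F v = 0) :
    G.IsFlex v ↔ ∃ w, LinearIndependent K ![v, w] ∧ ∀ t : K, G.F (v + t • w) = t ^ 3 * G.F w := by
  constructor
  · rintro ⟨-, w, hli, h1, h2⟩
    exact ⟨w, hli, fun t => by rw [G.F_add_smul, hv, h1, h2]; ring⟩
  · rintro ⟨w, hli, h⟩
    have h1 := h 1
    have h2 := h (-1)
    rw [G.F_add_smul, hv] at h1 h2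
    refine ⟨hv, w, hli, ?_, ?_⟩
    · have : 6 * G.T v v w = 0 := by linear_combination h1 - h2
      simpa using this
    · have : 6 * G.T v w w = 0 := by linear_combination h1 + h2
      simpa using this

theorem NonSing.test [CharZero K] {G : Cubic K V} (hns : G.NonSing) {W : Type*} [AddCommGroup W]
    [Module K W] (E : W ≃ₗ[K] V) (g : W → K) (c : K) (hg : ∀ p, G.F (E p) = c * g p) (p : W) (hp : p ≠ 0)
    (h : ∀ y, g (p + y) - g (p - y) - 2 * g y = 0) : False := by
  have hT : ∀ y, G.T (E p) (E p) (E y) = 0 := fun y => by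
    have h1 : 6 * G.T (E p) (E p) (E y) = 0 := by
      rw [G.polar₂, ← map_add, ← map_sub, hg, hg, hg]
      linear_combination c * h y
    simpa using h1
  obtain ⟨w, hw⟩ := hns (E p) (by simpa using hp) (hT p)
  exact hw (by simpa using hT (E.symm w))

end Cubic

variable [CharZero K] [IsAlgClosed K]

theorem exists_flex (f : MvPolynomial (Fin 3) K) (hf : f.IsHomogeneous 3) {G : Cubic K (Fin 3 → K)}
    (h₁ : ∀ v, eval v f = G.F v)
    (h₂ : ∀ v i j, eval v (pderiv i (pderiv j f)) = 6 * G.T v (Pi.single i 1) (Pi.single j 1))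
    (hns : G.NonSing) : ∃ v : Fin 3 → K, v ≠ 0 ∧ G.IsFlex v := by
  classical
  let M : Matrix (Fin 3) (Fin 3) (MvPolynomial (Fin 3) K) := Matrix.of fun i j => pderiv i (pderiv j f)
  have hM : M.det.IsHomogeneous (3 * 1) := Groth.Agent.TsenLib.isHomogeneous_det M fun a b => by
    simpa [M] using (hf.pderiv (i := b)).pderiv (i := a)
  obtain ⟨v, hv, hz⟩ := Groth.Agent.TsenLib.isCi_exists (Groth.Agent.TsenLib.isCi_zero (k := K))
    ![f, M.det] ![3, 3] (fun ρ => by fin_cases ρ <;> [exact hf; exact hM]) (fun ρ => by fin_cases ρ <;> simp)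
    (by simp)
  have hFv : G.F v = 0 := by rw [← h₁]; exact hz 0
  have hdet : (Matrix.of fun i j => G.T v (Pi.single i 1) (Pi.single j 1)).det = 0 := by
    have h := hz 1
    simp only [Matrix.cons_val_one, Matrix.cons_val_fin_one] at h
    rw [RingHom.map_det, show (eval v).mapMatrix M =
      (6 : K) • Matrix.of (fun i j => G.T v (Pi.single i 1) (Pi.single j 1)) from by
        ext i j; simp [M, h₂], Matrix.det_smul] at h
    simpa using h
  obtain ⟨w, hw0, hw⟩ := Matrix.exists_mulVec_eq_zero_iff.2 hdet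
  have hT : ∀ x, G.T v x w = 0 := by
    intro x
    have hx : (G.T v).flip w = 0 := by
      refine LinearMap.pi_ext' fun i => LinearMap.ext_ring ?_
      have h := congrFun hw i
      simp only [Matrix.mulVec, dotProduct, Matrix.of_apply, Pi.zero_apply] at h
      conv_lhs => rw [LinearMap.comp_apply, LinearMap.coe_single, LinearMap.flip_apply, pi_eq_sum_univ' w]
      simpa [map_sum, mul_comm] using h
    exact LinearMap.congr_fun hx x
  have hli : LinearIndependent K ![v, w] := by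
    rw [LinearIndependent.pair_iff' hv]
    rintro r rfl
    obtain ⟨y, hy⟩ := hns v hv hFv
    have hr : r ≠ 0 := fun h => hw0 (by rw [h, zero_smul])
    have := hT y
    rw [map_smul, smul_eq_mul, mul_eq_zero, G.symm₂₃] at this
    exact hy (this.resolve_left hr)
  exact ⟨v, hv, hFv, w, hli, hT v, hT w⟩

/-- the Weierstrass function -/
def weier (r p q : K) (P : Fin 3 → K) : K :=
  P 1 ^ 3 + r * P 1 ^ 2 * P 2 + p * P 1 * P 2 ^ 2 + q * P 2 ^ 3 - P 0 ^ 2 * P 2

/-- the Hesse function -/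
def hesse (k : K) (P : Fin 3 → K) : K :=
  P 0 ^ 3 + P 1 ^ 3 + P 2 ^ 3 - 3 * k * (P 0 * P 1 * P 2)

theorem exists_sq (a : K) : ∃ b : K, b ^ 2 = a := IsAlgClosed.exists_pow_nat_eq a two_pos

theorem exists_cube (a : K) : ∃ b : K, b ^ 3 = a := IsAlgClosed.exists_pow_nat_eq a (by norm_num)

theorem exists_weierstrass {G : Cubic K (Fin 3 → K)} (hns : G.NonSing) {v : Fin 3 → K} (hv : v ≠ 0)
    (hflex : G.IsFlex v) :
    ∃ (E : (Fin 3 → K) ≃ₗ[K] (Fin 3 → K)) (c r p q : K), c ≠ 0 ∧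
      ∀ P, G.F (E P) = c * weier r p q P := by
  obtain ⟨hFv, w₀, hli, hw1, hw2⟩ := hflex
  obtain ⟨z₀, hz₀⟩ := hns v hv hFv
  have hvv : G.T v v v = 0 := hFv
  -- normalise `w` and `z`
  obtain ⟨w, hliw, hw1, hw2, hw3⟩ : ∃ w, LinearIndependent K ![v, w] ∧ G.T v v w = 0 ∧ G.T v w w = 0 ∧
      G.T v w z₀ = 0 := by
    refine ⟨w₀ - (G.T v w₀ z₀ / G.T v v z₀) • v, ?_, ?_, ?_, ?_⟩
    · rw [LinearIndependent.pair_iff] at hli ⊢
      intro s t h
      obtain ⟨h1, h2⟩ := hli (s - t * (G.T v w₀ z₀ / G.T v v z₀)) t (by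
        rw [← h]; module)
      subst h2
      simpa using h1
    · simp [hw1, hvv]
    · simp [hw1, hw2, hvv, G.symm₂₃ v w₀ v]
    · simp only [map_sub, map_smul, LinearMap.sub_apply, LinearMap.smul_apply, smul_eq_mul]
      field_simp
      ring
  let z := z₀ - (G.T v z₀ z₀ / (2 * G.T v v z₀)) • v
  have hz1 : G.T v v z = G.T v v z₀ := by simp [z, hvv]
  have hz2 : G.T v z z = 0 := by
    simp only [z, map_sub, map_smul, LinearMap.sub_apply, LinearMap.smul_apply, smul_eq_mul, hvv,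
      G.symm₂₃ v z₀ v]
    field_simp
    ring
  have hz3 : G.T v w z = 0 := by
    simp [z, hw3, G.symm₂₃ v w v, hw1]
  have hFw : G.F w ≠ 0 := by
    intro hFw
    obtain ⟨s, hs⟩ : ∃ s : K, G.T v v z * s ^ 2 + 2 * G.T v w z * s + G.T w w z = 0 := by
      have hd : (Polynomial.C (G.T v v z) * Polynomial.X ^ 2 + Polynomial.C (2 * G.T v w z) * Polynomial.X
          + Polynomial.C (G.T w w z)).degree ≠ 0 := by
        rw [Polynomial.degree_quadratic (hz1 ▸ hz₀)]; decide
      obtain ⟨s, hs⟩ := IsAlgClosed.exists_root _ hd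
      exact ⟨s, by simpa [Polynomial.IsRoot] using hs⟩
    have hne : s • v + w ≠ 0 := fun h => by
      simpa using ((LinearIndependent.pair_iff.1 hliw) s 1 (by simpa using h)).2
    have hF0 : G.F (s • v + w) = 0 := by
      have := G.F_comb₂ v w s 1
      rw [one_smul] at this
      rw [this, hFv, hw1, hw2, hFw]; ring
    obtain ⟨y, hy⟩ := hns _ hne hF0
    -- the functional `T(p,p,·)` vanishes on the line and at `z`
    let L := G.T (s • v + w) (s • v + w)
    have h1 : L v = 0 := by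
      simp only [L, map_add, map_smul, LinearMap.add_apply, LinearMap.smul_apply, smul_eq_mul,
        G.symm₁₃ w v v, G.symm₁₃ w w v, G.symm₂₃ v w v, hvv, hw1, hw2]
      ring
    have h2 : L w = 0 := by
      simp only [L, map_add, map_smul, LinearMap.add_apply, LinearMap.smul_apply, smul_eq_mul,
        G.symm₁₂ w v w, hw1, hw2, show G.T w w w = 0 from hFw]
      ring
    have h3 : L z = 0 := by
      simp only [L, map_add, map_smul, LinearMap.add_apply, LinearMap.smul_apply, smul_eq_mul,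
        G.symm₁₂ w v z]
      linear_combination hs
    let Φ : (Fin 3 → K) →ₗ[K] (Fin 3 → K) := Fintype.linearCombination K ![v, w, z]
    have hΦ : ∀ P, Φ P = P 0 • v + P 1 • w + P 2 • z := fun P => by
      simp [Φ, Fintype.linearCombination_apply, Fin.sum_univ_three]
    have hinj : Function.Injective Φ := by
      rw [injective_iff_map_eq_zero]
      intro P hP
      rw [hΦ] at hP
      have h0 := congrArg (G.T v v) hP
      simp only [map_add, map_smul, map_zero, hvv, hw1, hz1, smul_eq_mul, mul_zero, zero_add, mul_eq_zero] at h0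
      have hP2 : P 2 = 0 := h0.resolve_right hz₀
      rw [hP2, zero_smul, add_zero] at hP
      obtain ⟨a, b⟩ := LinearIndependent.pair_iff.1 hliw _ _ hP
      ext i; fin_cases i <;> assumption
    obtain ⟨P, rfl⟩ := LinearMap.injective_iff_surjective.1 hinj y
    refine hy ?_
    change L (Φ P) = 0
    rw [hΦ]
    simp [map_add, map_smul, h1, h2, h3]
  obtain ⟨μ, hμ⟩ := exists_sq (-(G.F w) / (3 * G.T v v z))
  have hμ0 : μ ≠ 0 := fun h => by
    rw [h, zero_pow two_ne_zero, eq_comm, div_eq_zero_iff, neg_eq_zero] at hμ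
    rcases hμ with h' | h'
    · exact hFw h'
    · exact hz₀ (hz1 ▸ (mul_eq_zero.1 h').resolve_left three_ne_zero)
  let Φ : (Fin 3 → K) →ₗ[K] (Fin 3 → K) := Fintype.linearCombination K ![μ • v, w, z]
  have hΦ : ∀ P, Φ P = (P 0 * μ) • v + P 1 • w + P 2 • z := fun P => by
    simp [Φ, Fintype.linearCombination_apply, Fin.sum_univ_three, smul_smul]
  have hinj : Function.Injective Φ := by
    rw [injective_iff_map_eq_zero]
    intro P hP
    rw [hΦ] at hP
    have h0 := congrArg (G.T v v) hP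
    simp only [map_add, map_smul, map_zero, hvv, hw1, hz1, smul_eq_mul, mul_zero, zero_add, mul_eq_zero] at h0
    have hP2 : P 2 = 0 := h0.resolve_right hz₀
    rw [hP2, zero_smul, add_zero] at hP
    obtain ⟨a, b⟩ := LinearIndependent.pair_iff.1 hliw _ _ hP
    ext i; fin_cases i
    · exact (mul_eq_zero.1 a).resolve_right hμ0
    · exact b
    · exact hP2
  refine ⟨LinearEquiv.ofInjectiveEndo Φ hinj, G.F w,
    3 * G.T w w z / G.F w, 3 * G.T w z z / G.F w, G.F z / G.F w, hFw, fun P => ?_⟩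
  rw [LinearEquiv.coe_ofInjectiveEndo, hΦ, G.F_comb₃, hFv, hw1, hw2, hz2, hz3, weier]
  have h3 : 3 * G.T v v z * μ ^ 2 = -G.F w := by
    have : G.T v v z ≠ 0 := hz1 ▸ hz₀
    rw [hμ]; field_simp
  field_simp
  linear_combination (P 0 ^ 2 * P 2) * h3

theorem weier_to_hesse {G : Cubic K (Fin 3 → K)} (hns : G.NonSing)
    (E : (Fin 3 → K) ≃ₗ[K] (Fin 3 → K)) (c r p q : K) (hc : c ≠ 0)
    (hE : ∀ P, G.F (E P) = c * weier r p q P) :
    ∃ (E' : (Fin 3 → K) ≃ₗ[K] (Fin 3 → K)) (c' k : K), c' ≠ 0 ∧ k ^ 3 ≠ 1 ∧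
      ∀ P, G.F (E' P) = c' * hesse k P := by
  classical
  let N : Polynomial K := (Polynomial.C 3 * Polynomial.X ^ 2 + Polynomial.C (2 * r) * Polynomial.X
      + Polynomial.C p) ^ 2 - Polynomial.C 4 * (Polynomial.C 3 * Polynomial.X + Polynomial.C r) *
      (Polynomial.X ^ 3 + Polynomial.C r * Polynomial.X ^ 2 + Polynomial.C p * Polynomial.X + Polynomial.C q)
  have hN : N.natDegree = 4 := by
    simp only [N]
    compute_degree <;> norm_num
  obtain ⟨y₀, hy₀⟩ := IsAlgClosed.exists_root N (by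
    intro h
    have := Polynomial.natDegree_eq_of_degree_eq_some (n := 0) h
    omega)
  replace hy₀ : (3 * y₀ ^ 2 + 2 * r * y₀ + p) ^ 2
      - 4 * (3 * y₀ + r) * (y₀ ^ 3 + r * y₀ ^ 2 + p * y₀ + q) = 0 := by
    simpa [Polynomial.IsRoot, N] using hy₀
  obtain ⟨α, hα⟩ := exists_sq (3 * y₀ + r)
  obtain ⟨x₀, hx₀, hx₀'⟩ : ∃ x₀ : K, x₀ ^ 2 = y₀ ^ 3 + r * y₀ ^ 2 + p * y₀ + q ∧
      2 * α * x₀ = 3 * y₀ ^ 2 + 2 * r * y₀ + p := by
    by_cases h0 : α = 0
    · obtain ⟨x₀, hx₀⟩ := exists_sq (y₀ ^ 3 + r * y₀ ^ 2 + p * y₀ + q)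
      refine ⟨x₀, hx₀, ?_⟩
      rw [h0, zero_pow two_ne_zero] at hα
      rw [← hα, mul_zero, zero_mul, sub_zero] at hy₀
      rw [h0, pow_eq_zero_iff two_ne_zero |>.1 hy₀]; ring
    · refine ⟨(3 * y₀ ^ 2 + 2 * r * y₀ + p) / (2 * α), ?_, by field_simp⟩
      rw [div_pow, mul_pow, hα, div_eq_iff (mul_ne_zero (pow_ne_zero 2 two_ne_zero) (hα ▸ pow_ne_zero 2 h0))]
      linear_combination hy₀
  have hW : ∀ P, weier r p q P = (P 1 - y₀ * P 2) ^ 3
      + P 2 * ((α * (P 1 - y₀ * P 2) + x₀ * P 2) ^ 2 - P 0 ^ 2) := fun P => by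
    rw [weier]
    linear_combination -(P 2 * (P 1 - y₀ * P 2) ^ 2) * hα - P 2 ^ 2 * (P 1 - y₀ * P 2) * hx₀'
      - P 2 ^ 3 * hx₀
  have hx0 : x₀ ≠ 0 := fun h0 => by
    refine hns.test E (weier r p q) c hE ![0, y₀, 1] (fun h => by simpa using congrFun h 2) fun y => ?_
    simp only [hW, h0, Pi.add_apply, Pi.sub_apply, Matrix.cons_val]
    ring
  by_cases h0 : α = 0
  · -- Fermat
    obtain ⟨κ, hκ⟩ := exists_sq (-3 * x₀ ^ 2)
    obtain ⟨ν, hν⟩ := exists_cube (4 * x₀ ^ 2)
    have hν0 : ν ≠ 0 := fun h => by simp [h, hx0] at hν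
    have hκ0 : κ ≠ 0 := fun h => by simp [h, hx0] at hκ
    let M : (Fin 3 → K) →ₗ[K] (Fin 3 → K) :=
      Matrix.toLin' !![κ, -κ, 0; y₀, y₀, ν; 1, 1, 0]
    have hM : ∀ P, M P = ![κ * P 0 - κ * P 1, y₀ * P 0 + y₀ * P 1 + ν * P 2, P 0 + P 1] := fun P => by
      ext i; fin_cases i <;> simp [M, Matrix.mulVec, dotProduct, Fin.sum_univ_three] <;> ring
    have hinj : Function.Injective M := by
      rw [injective_iff_map_eq_zero]
      intro P hP
      rw [hM] at hP
      have h1 : κ * P 0 - κ * P 1 = 0 := by simpa using congrFun hP 0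
      have h2 : y₀ * P 0 + y₀ * P 1 + ν * P 2 = 0 := by simpa using congrFun hP 1
      have h3 : P 0 + P 1 = 0 := by simpa using congrFun hP 2
      have hA : 2 * κ * P 0 = 0 := by linear_combination h1 + κ * h3
      have hP0 : P 0 = 0 := by simpa [hκ0] using hA
      have hP1 : P 1 = 0 := by linear_combination h3 - hP0
      have hP2 : P 2 = 0 := by
        have : ν * P 2 = 0 := by linear_combination h2 - y₀ * h3
        simpa [hν0] using this
      ext i; fin_cases i <;> assumption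
    refine ⟨(LinearEquiv.ofInjectiveEndo M hinj).trans E,
      c * (4 * x₀ ^ 2), 0, mul_ne_zero hc (mul_ne_zero (by norm_num) (pow_ne_zero 2 hx0)), by simp, fun P => ?_⟩
    rw [LinearEquiv.trans_apply, LinearEquiv.coe_ofInjectiveEndo, hE, hW, hM]
    simp only [Matrix.cons_val, h0, hesse]
    linear_combination c * (P 2 ^ 3) * hν - c * ((P 0 + P 1) * (P 0 - P 1) ^ 2) * hκ
  · obtain ⟨ω, hω⟩ : ∃ ω : K, ω ^ 2 + ω + 1 = 0 := by
      obtain ⟨t, ht⟩ := exists_sq (-3 : K)
      exact ⟨(t - 1) / 2, by field_simp; linear_combination ht⟩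
    have hω3 : ω ^ 3 = 1 := by linear_combination (ω - 1) * hω
    have he : 27 / (8 * α ^ 3) - 1 / (2 * x₀) ≠ 0 := fun he0 => by
      let M : (Fin 3 → K) →ₗ[K] (Fin 3 → K) := Matrix.toLin' !![
        0, (ω ^ 2 - ω) / 2, (ω - ω ^ 2) / 2;
        3 / (2 * α) - y₀ / (2 * x₀), -y₀ / (2 * x₀), -y₀ / (2 * x₀);
        -1 / (2 * x₀), -1 / (2 * x₀), -1 / (2 * x₀)]
      have h27 : 27 * (2 * x₀) = 8 * α ^ 3 := by
        field_simp at he0
        linear_combination he0
      have hp : M ![1, 0, 0] ≠ 0 := fun h => by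
        have := congrFun h 2
        simp [M, Matrix.mulVec, dotProduct, Fin.sum_univ_three, hx0] at this
      refine hns.test E (weier r p q) c hE _ hp fun y => ?_
      simp only [hW, M, Matrix.toLin'_apply, Matrix.mulVec, dotProduct, Fin.sum_univ_three,
        Pi.add_apply, Pi.sub_apply, Matrix.of_apply, Matrix.cons_val]
      field_simp
      linear_combination (-2 * x₀ ^ 2 * α * (y₀ * y 2 - y 1)) * h27
    obtain ⟨μ, hμ⟩ := exists_cube (-(1 / (2 * x₀)) / (27 / (8 * α ^ 3) - 1 / (2 * x₀)))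
    have hμ0 : μ ≠ 0 := fun h => by
      rw [h, zero_pow three_ne_zero, eq_comm, div_eq_zero_iff] at hμ
      rcases hμ with h' | h'
      · simp [hx0] at h'
      · exact he h'
    have hμ' : μ ^ 3 * (27 / (8 * α ^ 3) - 1 / (2 * x₀)) = -(1 / (2 * x₀)) := by
      rw [hμ, div_mul_cancel₀ _ he]
    -- coordinates
    let M : (Fin 3 → K) →ₗ[K] (Fin 3 → K) := Matrix.toLin' !![
      0, (ω ^ 2 - ω) / 2, (ω - ω ^ 2) / 2;
      3 * μ / (2 * α) - y₀ * μ / (2 * x₀), -y₀ / (2 * x₀), -y₀ / (2 * x₀);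
      -μ / (2 * x₀), -1 / (2 * x₀), -1 / (2 * x₀)]
    have hM : ∀ P, M P = ![(ω ^ 2 - ω) / 2 * (P 1 - P 2),
        3 * μ * P 0 / (2 * α) - y₀ * (μ * P 0 + P 1 + P 2) / (2 * x₀),
        -(μ * P 0 + P 1 + P 2) / (2 * x₀)] := fun P => by
      ext i; fin_cases i <;> simp [M, Matrix.mulVec, dotProduct, Fin.sum_univ_three] <;> ring
    have hωω : ω ^ 2 - ω ≠ 0 := fun h => by
      have h2 : 2 * ω = -1 := by linear_combination hω - h
      have : (3 : K) = 0 := by linear_combination 4 * h + (3 - 2 * ω) * h2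
      exact three_ne_zero this
    have hinj : Function.Injective M := by
      rw [injective_iff_map_eq_zero]
      intro P hP
      rw [hM] at hP
      have h1 : (ω ^ 2 - ω) / 2 * (P 1 - P 2) = 0 := by simpa using congrFun hP 0
      have h2 : 3 * μ * P 0 / (2 * α) - y₀ * (μ * P 0 + P 1 + P 2) / (2 * x₀) = 0 := by
        simpa using congrFun hP 1
      have h3 : μ * P 0 + P 1 + P 2 = 0 := by
        have := congrFun hP 2
        simp [hx0] at this
        linear_combination -this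
      rw [h3, mul_zero, zero_div, sub_zero] at h2
      have hP0 : P 0 = 0 := by simpa [hμ0, h0] using h2
      have h12 : P 1 - P 2 = 0 := by simpa [hωω] using h1
      have hP1 : P 1 = 0 := by
        have : 2 * P 1 = 0 := by linear_combination h3 + h12 - μ * hP0
        simpa using this
      have hP2 : P 2 = 0 := by linear_combination hP1 - h12
      ext i; fin_cases i <;> assumption
    let E' := (LinearEquiv.ofInjectiveEndo M hinj).trans E
    have hE' : ∀ P, G.F (E' P) = (-(c / (2 * x₀))) * hesse μ P := fun P => by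
      rw [LinearEquiv.trans_apply, LinearEquiv.coe_ofInjectiveEndo, hE, hW, hM]
      simp only [Matrix.cons_val, hesse]
      have e1 : 3 * μ * P 0 / (2 * α) - y₀ * (μ * P 0 + P 1 + P 2) / (2 * x₀)
          - y₀ * (-(μ * P 0 + P 1 + P 2) / (2 * x₀)) = 3 * μ * P 0 / (2 * α) := by ring
      rw [e1]
      have hsq : (ω ^ 2 - ω) ^ 2 = -3 := by linear_combination (ω ^ 2 - 3 * ω + 3) * hω
      field_simp at hμ' ⊢
      linear_combination (α ^ 3 * (μ * P 0 + P 1 + P 2) * (P 1 - P 2) ^ 2) * hsq + P 0 ^ 3 / 2 * hμ'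
    refine ⟨E', -(c / (2 * x₀)), μ, by simp [hc, hx0], fun hk => ?_, hE'⟩
    refine hns.test E' (hesse μ) _ hE' ![μ ^ 2, 1, 1] (fun h => by simpa using congrFun h 1) fun y => ?_
    simp only [hesse, Pi.add_apply, Pi.sub_apply, Matrix.cons_val]
    linear_combination (6 * μ * y 0 - 6 * (y 1 + y 2)) * hk

theorem exists_hesse (f : MvPolynomial (Fin 3) K) (hf : f.IsHomogeneous 3) {G : Cubic K (Fin 3 → K)}
    (h₁ : ∀ v, eval v f = G.F v)
    (h₂ : ∀ v i j, eval v (pderiv i (pderiv j f)) = 6 * G.T v (Pi.single i 1) (Pi.single j 1))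
    (hns : G.NonSing) :
    ∃ (E : (Fin 3 → K) ≃ₗ[K] (Fin 3 → K)) (c k : K), c ≠ 0 ∧ k ^ 3 ≠ 1 ∧
      ∀ P, G.F (E P) = c * hesse k P := by
  obtain ⟨v, hv, hflex⟩ := exists_flex f hf h₁ h₂ hns
  obtain ⟨E, c, r, p, q, hc, hE⟩ := exists_weierstrass hns hv hflex
  exact weier_to_hesse hns E c r p q hc hE

end Groth.Agent.CubicLib
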